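import Cfsg.Agent.H915.LD

/-!
# Reindexing of cores

`gr F e : GL ι F ≃* GL κ F` for `e : ι ≃ κ`; `rx e P = P.map (gr F e)`; `socEquiv e P : Soc P ≃* Soc (rx e P)`;
`core_rx`, `sd_rx`, `fr_rx`, `cj_rx`.
-/

set_option autoImplicit false

universe u v

namespace Cfsg.Agent.H936.Reix

open Cfsg Cfsg.Geo Matrix Cfsg.Agent.H915.LD

section

variable {ι κ : Type} [Fintype ι] [DecidableEq ι] [Fintype κ] [DecidableEq κ] {F : Type u} [Field F]

/-- reindexing -/
noncomputable def gr (F : Type u) [Field F] (e : ι ≃ κ) : GL ι F ≃* GL κ F :=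
  Units.mapEquiv (Matrix.reindexAlgEquiv F F e).toMulEquiv

theorem gr_val (e : ι ≃ κ) (g : GL ι F) : ((gr F e g : GL κ F) : Matrix κ κ F) = (g : Matrix ι ι F).reindex e e := rfl

/-- the reindexed group -/
noncomputable def rx (e : ι ≃ κ) (P : Subgroup (GL ι F)) : Subgroup (GL κ F) := P.map (gr F e).toMonoidHom

theorem mem_rx (e : ι ≃ κ) {P : Subgroup (GL ι F)} {g : GL ι F} : gr F e g ∈ rx e P ↔ g ∈ P := by
  unfold rx
  rw [Subgroup.mem_map]
  constructor
  · rintro ⟨x, hx, h⟩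
    rwa [← (gr F e).injective h]
  · intro h
    exact ⟨g, h, rfl⟩

theorem exists_of_mem_rx (e : ι ≃ κ) {P : Subgroup (GL ι F)} {g : GL κ F} (h : g ∈ rx e P) :
    ∃ x ∈ P, gr F e x = g := by
  unfold rx at h
  exact Subgroup.mem_map.1 h

theorem reindex_smul_one (e : ι ≃ κ) (c : F) : (c • (1 : Matrix ι ι F)).reindex e e = c • (1 : Matrix κ κ F) := by
  have h := map_smul (Matrix.reindexAlgEquiv F F e) c (1 : Matrix ι ι F)
  rw [map_one] at h
  exact h

theorem mem_scalars_gr (e : ι ≃ κ) (g : GL ι F) : gr F e g ∈ scalars κ F ↔ g ∈ scalars ι F := by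
  rw [mem_scalars_iff, mem_scalars_iff]
  constructor
  · rintro ⟨c, hc⟩
    refine ⟨c, (Matrix.reindexAlgEquiv F F e).injective ?_⟩
    exact hc.trans (reindex_smul_one e (c : F)).symm
  · rintro ⟨c, hc⟩
    refine ⟨c, ?_⟩
    rw [gr_val, hc, reindex_smul_one]

theorem tr_gr (e : ι ≃ κ) (g : GL ι F) : tr (gr F e g) = tr g := by
  unfold tr
  rw [gr_val]
  simp only [Matrix.trace, Matrix.diag, Matrix.reindex_apply, Matrix.submatrix_apply]
  exact Fintype.sum_equiv e.symm _ _ (fun _ => rfl)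

/-- the isomorphism of `P` with the reindexed group -/
noncomputable def pe (e : ι ≃ κ) (P : Subgroup (GL ι F)) : P ≃* rx e P := (gr F e).subgroupMap P

theorem pe_val (e : ι ≃ κ) (P : Subgroup (GL ι F)) (x : P) : ((pe e P x : rx e P) : GL κ F) = gr F e (x : GL ι F) := rfl

theorem map_scalars (e : ι ≃ κ) (P : Subgroup (GL ι F)) :
    ((scalars ι F).subgroupOf P).map (pe e P).toMonoidHom = (scalars κ F).subgroupOf (rx e P) := by
  ext y
  rw [Subgroup.mem_map, Subgroup.mem_subgroupOf]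
  constructor
  · rintro ⟨x, hx, rfl⟩
    rw [Subgroup.mem_subgroupOf] at hx
    exact (mem_scalars_gr e _).2 hx
  · intro hy
    obtain ⟨x, rfl⟩ := (pe e P).surjective y
    exact ⟨x, Subgroup.mem_subgroupOf.2 ((mem_scalars_gr e _).1 hy), rfl⟩

/-- the isomorphism of the simple quotients -/
noncomputable def socEquiv (e : ι ≃ κ) (P : Subgroup (GL ι F)) : Soc P ≃* Soc (rx e P) :=
  QuotientGroup.congr _ _ (pe e P) (map_scalars e P)

theorem mem_matrixSet_rx (e : ι ≃ κ) {P : Subgroup (GL ι F)} {s : Matrix ι ι F} (hs : s ∈ matrixSet P) :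
    s.reindex e e ∈ matrixSet (rx e P) := by
  obtain ⟨g, hg, rfl⟩ := hs
  exact ⟨gr F e g, (mem_rx e).2 hg, rfl⟩

theorem exists_of_matrixSet_rx (e : ι ≃ κ) {P : Subgroup (GL ι F)} {s : Matrix κ κ F} (hs : s ∈ matrixSet (rx e P)) :
    ∃ t ∈ matrixSet P, t.reindex e e = s := by
  obtain ⟨g, hg, rfl⟩ := hs
  obtain ⟨x, hx, rfl⟩ := exists_of_mem_rx e hg
  exact ⟨_, ⟨x, hx, rfl⟩, rfl⟩

theorem reindex_mulVec (e : ι ≃ κ) (M : Matrix ι ι F) (w : κ → F) :
    M.reindex e e *ᵥ w = (M *ᵥ (w ∘ e)) ∘ e.symm := by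
  rw [Matrix.reindex_apply, Matrix.submatrix_mulVec_equiv]
  rfl

theorem irr_rx (e : ι ≃ κ) {P : Subgroup (GL ι F)} (h : ActsIrreducibly (matrixSet P)) :
    ActsIrreducibly (matrixSet (rx e P)) := by
  intro W hW
  let E : (κ → F) ≃ₗ[F] (ι → F) := LinearEquiv.funCongrLeft F F e
  have hE : ∀ w : κ → F, E w = w ∘ e := fun w => rfl
  have h1 : ∀ s ∈ matrixSet P, (W.map (E : (κ → F) →ₗ[F] (ι → F))).map (Matrix.toLin' s) ≤
      W.map (E : (κ → F) →ₗ[F] (ι → F)) := by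
    rintro s hs v ⟨v', ⟨w, hw, rfl⟩, rfl⟩
    refine ⟨s.reindex e e *ᵥ w, ?_, ?_⟩
    · refine hW _ (mem_matrixSet_rx e hs) ⟨w, hw, ?_⟩
      rw [Matrix.toLin'_apply]
    · change E (s.reindex e e *ᵥ w) = Matrix.toLin' s (E w)
      rw [hE, hE, reindex_mulVec, Matrix.toLin'_apply]
      funext i
      simp [Function.comp]
  rcases h _ h1 with h2 | h2
  · left
    rwa [Submodule.map_eq_bot_iff] at h2
  · right
    rw [eq_top_iff]
    intro w _
    have h3 : E w ∈ W.map (E : (κ → F) →ₗ[F] (ι → F)) := by rw [h2]; exact Submodule.mem_top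
    obtain ⟨w', hw', he⟩ := h3
    rwa [← E.injective he]

theorem absirr_rx (e : ι ≃ κ) {P : Subgroup (GL ι F)} (h : ActsAbsolutelyIrreducibly (matrixSet P)) :
    ActsAbsolutelyIrreducibly (matrixSet (rx e P)) := by
  refine ⟨irr_rx e h.1, fun M hM => ?_⟩
  obtain ⟨N, rfl⟩ := (Matrix.reindexAlgEquiv F F e).surjective M
  obtain ⟨c, hc⟩ := h.2 N (fun s hs => by
    have h1 := hM _ (mem_matrixSet_rx e hs)
    apply (Matrix.reindexAlgEquiv F F e).injective
    rw [map_mul, map_mul]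
    exact h1)
  refine ⟨c, ?_⟩
  rw [hc]
  exact reindex_smul_one e c

theorem real_rx (e : ι ≃ κ) {P : Subgroup (GL ι F)} {F₀ : Subfield F} (h : RealisableOver F₀ (matrixSet (rx e P))) :
    RealisableOver F₀ (matrixSet P) := by
  obtain ⟨B, hB⟩ := h
  obtain ⟨A, rfl⟩ := (gr F e).surjective B
  refine ⟨A, fun s hs i j => ?_⟩
  have h1 := hB _ (mem_matrixSet_rx e hs) (e i) (e j)
  have h2 : ((gr F e A : GL κ F) : Matrix κ κ F) * s.reindex e e * (((gr F e A)⁻¹ : GL κ F) : Matrix κ κ F) =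
      ((A : Matrix ι ι F) * s * ((A⁻¹ : GL ι F) : Matrix ι ι F)).reindex e e := by
    rw [← map_inv]
    change (Matrix.reindexAlgEquiv F F e) (A : Matrix ι ι F) * (Matrix.reindexAlgEquiv F F e) s *
      (Matrix.reindexAlgEquiv F F e) ((A⁻¹ : GL ι F) : Matrix ι ι F) = (Matrix.reindexAlgEquiv F F e) _
    rw [← map_mul, ← map_mul]
  rw [h2] at h1
  simpa using h1

theorem core_rx (e : ι ≃ κ) {P : Subgroup (GL ι F)} (h : Core P) : Core (rx e P) where
  perfect := by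
    unfold rx
    rw [← Subgroup.map_commutator, h.perfect]
  simple := (MulEquiv.isSimpleGroup_congr (socEquiv e P)).1 h.simple
  nonabelian := fun hc => h.nonabelian ⟨⟨fun a b => (socEquiv e P).injective (by
    rw [map_mul, map_mul]; exact hc.is_comm.comm _ _)⟩⟩
  absIrred := absirr_rx e h.absIrred
  no_subfield := fun F₀ hF h' => h.no_subfield F₀ hF (real_rx e h')

theorem sd_rx (e : ι ≃ κ) {P : Subgroup (GL ι F)} : SD (rx e P) ↔ SD P := by
  constructor
  · intro h g hg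
    have := h _ ((mem_rx e).2 hg)
    rwa [← map_inv, tr_gr, tr_gr] at this
  · intro h g hg
    obtain ⟨x, hx, rfl⟩ := exists_of_mem_rx e hg
    rw [← map_inv, tr_gr, tr_gr]
    exact h x hx

theorem fr_rx (e : ι ≃ κ) {P : Subgroup (GL ι F)} {Q : ℕ} : Fr (rx e P) Q ↔ Fr P Q := by
  constructor
  · intro h g hg
    have := h _ ((mem_rx e).2 hg)
    rwa [tr_gr] at this
  · intro h g hg
    obtain ⟨x, hx, rfl⟩ := exists_of_mem_rx e hg
    rw [tr_gr]
    exact h x hx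

theorem cj_rx (e : ι ≃ κ) {P : Subgroup (GL ι F)} {Q : ℕ} : Cj (rx e P) Q ↔ Cj P Q := by
  constructor
  · intro h g hg
    have := h _ ((mem_rx e).2 hg)
    rwa [← map_inv, tr_gr, tr_gr] at this
  · intro h g hg
    obtain ⟨x, hx, rfl⟩ := exists_of_mem_rx e hg
    rw [← map_inv, tr_gr, tr_gr]
    exact h x hx

/-- Every core is isomorphic to a core indexed by `Fin n`. -/
theorem core_fin {P : Subgroup (GL ι F)} (h : Core P) :
    ∃ P' : Subgroup (GL (Fin (Fintype.card ι)) F), Core P' ∧ Nonempty (Soc P ≃* Soc P') ∧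
      (SD P' ↔ SD P) ∧ (∀ Q, Fr P' Q ↔ Fr P Q) ∧ (∀ Q, Cj P' Q ↔ Cj P Q) :=
  ⟨rx (Fintype.equivFin ι) P, core_rx _ h, ⟨socEquiv _ P⟩, sd_rx _, fun _ => fr_rx _, fun _ => cj_rx _⟩

end

end Cfsg.Agent.H936.Reix
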