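import Cfsg.Agent.H936.List12b
import Cfsg.Agent.H936.Reix
import Cfsg.Agent.H806.LsFiLe
import Cfsg.Agent.OddHalf.Known

/-!
# The list of simple groups in degree at most 12, final version

`list₂` (index type `Fin n`) and `list` (any index type): `P ≤ GL(ι, F)` a core (`H915.LD.Core`), `card ι ≤ 12`,
`char F = p`, `Soc P = P / scalars` a known simple group, not of Lie type in characteristic `p`: then
`CandD p (card ι) (Soc P)`, where `CandD p n T` is `AltC p n T ∨ LieC p n T ∨ MultD p n T ∨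
(p ≠ 2 ∧ 7 ≤ n ∧ IsSz8 T) ∨ SporC T` (files `List12`, `List12b`).
-/

set_option autoImplicit false

universe u v w

namespace Cfsg.Agent.H936.List12

open Cfsg Cfsg.Geo Cfsg.Agent.H912.Bd Cfsg.Agent.H912.Five Cfsg.Agent.H915.LD

/-! ### Congruences -/

section

variable {S : Type v} {T : Type w} [Group S] [Group T]

theorem ne_congr {X : Type*} [Group X] (e : S ≃* T) (h : Nonempty (S ≃* X)) : Nonempty (T ≃* X) := by
  obtain ⟨f⟩ := h
  exact ⟨e.symm.trans f⟩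

theorem isL_congr {m q : ℕ} (e : S ≃* T) (h : IsL m q S) : IsL m q T := by
  obtain ⟨K, i, j, hK, f⟩ := h
  exact ⟨K, i, j, hK, ne_congr e f⟩

theorem isU_congr {m q : ℕ} (e : S ≃* T) (h : IsU m q S) : IsU m q T := by
  obtain ⟨K, i, j, hK, f⟩ := h
  exact ⟨K, i, j, hK, ne_congr e f⟩

theorem isS_congr {m q : ℕ} (e : S ≃* T) (h : IsS m q S) : IsS m q T := by
  obtain ⟨K, i, j, hK, f⟩ := h
  exact ⟨K, i, j, hK, ne_congr e f⟩

theorem isOP_congr {m q : ℕ} (e : S ≃* T) (h : IsOP m q S) : IsOP m q T := by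
  obtain ⟨K, i, j, hK, f⟩ := h
  exact ⟨K, i, j, hK, ne_congr e f⟩

theorem isG2_congr {q : ℕ} (e : S ≃* T) (h : H912.Bd.IsG2 q S) : H912.Bd.IsG2 q T := by
  obtain ⟨K, i, j, hK, f⟩ := h
  exact ⟨K, i, j, hK, ne_congr e f⟩

theorem isSz8_congr (e : S ≃* T) (h : IsSz8 S) : IsSz8 T := by
  obtain ⟨K, i, j, hK, f⟩ := h
  exact ⟨K, i, j, hK, ne_congr e f⟩

theorem altC_congr {p n : ℕ} (e : S ≃* T) (h : AltC p n S) : AltC p n T := by
  obtain ⟨m, h1, h2, h3, h4, h5, f⟩ := h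
  exact ⟨m, h1, h2, h3, h4, h5, ne_congr e f⟩

theorem lieC_congr {p n : ℕ} (e : S ≃* T) (h : LieC p n S) : LieC p n T := by
  rcases h with ⟨q, h1, h2, h3, h4⟩ | ⟨h1, h2, h3⟩ | ⟨h1, h2, h3⟩ | ⟨h1, h2, h3⟩ | ⟨h1, h2, h3, h4⟩ | ⟨h1, h2, h3⟩ |
    ⟨h1, h2, h3⟩ | ⟨h1, h2, h3⟩ | ⟨h1, h2, h3⟩
  · exact Or.inl ⟨q, h1, h2, h3, isL_congr e h4⟩
  · exact Or.inr (Or.inl ⟨h1, h2, isL_congr e h3⟩)
  · exact Or.inr (Or.inr (Or.inl ⟨h1, h2, isU_congr e h3⟩))
  · exact Or.inr (Or.inr (Or.inr (Or.inl ⟨h1, h2, isU_congr e h3⟩)))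
  · exact Or.inr (Or.inr (Or.inr (Or.inr (Or.inl ⟨h1, h2, h3, isU_congr e h4⟩))))
  · exact Or.inr (Or.inr (Or.inr (Or.inr (Or.inr (Or.inl ⟨h1, h2, isU_congr e h3⟩)))))
  · exact Or.inr (Or.inr (Or.inr (Or.inr (Or.inr (Or.inr (Or.inl ⟨h1, h2, isS_congr e h3⟩))))))
  · exact Or.inr (Or.inr (Or.inr (Or.inr (Or.inr (Or.inr (Or.inr (Or.inl ⟨h1, h2, isS_congr e h3⟩)))))))
  · exact Or.inr (Or.inr (Or.inr (Or.inr (Or.inr (Or.inr (Or.inr (Or.inr ⟨h1, h2, isOP_congr e h3⟩)))))))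

theorem multD_congr {p n : ℕ} (e : S ≃* T) (h : MultD p n S) : MultD p n T := by
  rcases h with ⟨h1, h2, h3⟩ | ⟨h1, h2, h3⟩
  · refine Or.inl ⟨h1, h2, ?_⟩
    rcases h3 with h | h | ⟨h0, h⟩ | h | h | h
    · exact Or.inl (isL_congr e h)
    · exact Or.inr (Or.inl (isL_congr e h))
    · exact Or.inr (Or.inr (Or.inl ⟨h0, isU_congr e h⟩))
    · exact Or.inr (Or.inr (Or.inr (Or.inl (isS_congr e h))))
    · exact Or.inr (Or.inr (Or.inr (Or.inr (Or.inl (isOP_congr e h)))))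
    · exact Or.inr (Or.inr (Or.inr (Or.inr (Or.inr (isG2_congr e h)))))
  · exact Or.inr ⟨h1, h2, isU_congr e h3⟩

theorem sporC_congr (e : S ≃* T) (h : SporC S) : SporC T := by
  rcases h with h | h | h | h | h | h | h | h | h
  · exact Or.inl (ne_congr e h)
  · exact Or.inr (Or.inl (ne_congr e h))
  · exact Or.inr (Or.inr (Or.inl (ne_congr e h)))
  · exact Or.inr (Or.inr (Or.inr (Or.inl (ne_congr e h))))
  · exact Or.inr (Or.inr (Or.inr (Or.inr (Or.inl (ne_congr e h)))))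
  · exact Or.inr (Or.inr (Or.inr (Or.inr (Or.inr (Or.inl (ne_congr e h))))))
  · exact Or.inr (Or.inr (Or.inr (Or.inr (Or.inr (Or.inr (Or.inl (ne_congr e h)))))))
  · obtain ⟨K, i, j, w, h1, h2, h⟩ := h
    exact Or.inr (Or.inr (Or.inr (Or.inr (Or.inr (Or.inr (Or.inr (Or.inl ⟨K, i, j, w, h1, h2, ne_congr e h⟩)))))))
  · exact Or.inr (Or.inr (Or.inr (Or.inr (Or.inr (Or.inr (Or.inr (Or.inr (ne_congr e h))))))))

theorem candD_congr {p n : ℕ} (e : S ≃* T) (h : CandD p n S) : CandD p n T := by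
  rcases h with h | h | h | ⟨h1, h2, h⟩ | h
  · exact Or.inl (altC_congr e h)
  · exact Or.inr (Or.inl (lieC_congr e h))
  · exact Or.inr (Or.inr (Or.inl (multD_congr e h)))
  · exact Or.inr (Or.inr (Or.inr (Or.inl ⟨h1, h2, isSz8_congr e h⟩)))
  · exact Or.inr (Or.inr (Or.inr (Or.inr (sporC_congr e h))))

end

/-! ### The list -/

section

variable {F : Type u} [Field F] [Finite F] {p : ℕ} [CharP F p] [hp : Fact p.Prime]

/-- **The list, index type `Fin n`.** -/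
theorem list₂ {n : ℕ} (hn : n ≤ 12) {P : Subgroup (Matrix.GeneralLinearGroup (Fin n) F)} (hC : Core P)
    (hk : IsKnownSimple' (Soc P)) (hL : ¬ IsLieTypeChar p (Soc P)) : CandD p n (Soc P) := by
  rcases list₁ hn hC hk hL with h | ⟨-, h | h | h | h⟩
  · exact h
  · exfalso
    obtain ⟨e⟩ := h
    have := H806.Ls.fi22_le hp.out hC e
    omega
  · exfalso
    obtain ⟨e⟩ := h
    have := H806.Ls.fi23_le hp.out hC e
    omega
  · exfalso
    obtain ⟨e⟩ := h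
    have := H806.Ls.b_le hp.out hC e
    omega
  · exfalso
    obtain ⟨e⟩ := h
    have := H806.Ls.m_le hp.out hC e
    omega

/-- **The list, any index type.** -/
theorem list {ι : Type} [Fintype ι] [DecidableEq ι] (hn : Fintype.card ι ≤ 12)
    {P : Subgroup (Matrix.GeneralLinearGroup ι F)} (hC : Core P)
    (hk : IsKnownSimple' (Soc P)) (hL : ¬ IsLieTypeChar p (Soc P)) : CandD p (Fintype.card ι) (Soc P) := by
  have e := H936.Reix.socEquiv (Fintype.equivFin ι) P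
  exact candD_congr e.symm (list₂ hn (H936.Reix.core_rx (Fintype.equivFin ι) hC)
    (OddHalf.Known.isKnownSimple'_congr e hC.nonabelian hk)
    (fun h => hL (OddHalf.Known.isLieTypeChar_congr e.symm h)))

end

end Cfsg.Agent.H936.List12
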