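import Cfsg.Agent.H936.U33Mod
import Cfsg.Agent.H659.SevenU33
import Cfsg.Agent.H915.LD
import Cfsg.Agent.S2089

/-!
# `PSU₃(3)` in characteristic two, degree at most 13

`u33_two`: the degree is six, the core is self-dual and its traces are in the prime field.
-/

set_option autoImplicit false

namespace Cfsg.Agent.H936.U33Two

open Module Cfsg Cfsg.Geo Cfsg.Agent.H915.LD Cfsg.Agent.H936.TwoFix Cfsg.Agent.H936.U33 Cfsg.Agent.H936.SixVec
  Cfsg.Agent.UThreeGen.MatGroup Cfsg.Agent.H906 Cfsg.Agent.H659.SevenU33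

universe u v

section

variable {G : Type*} [Group G] [Finite G] {A : Type*} [Field A] {V V' : Type*} [AddCommGroup V] [Module A V]
  [AddCommGroup V'] [Module A V']

theorem toMatrix_gen {ρ : G →* Module.End A V} {a c : G} {b : Basis (Fin 6) A V} (h : Six ρ a c b) :
    LinearMap.toMatrix b b (ρ a) = mA.map (Int.cast : ℤ → A) ∧
      LinearMap.toMatrix b b (ρ c) = mC.map (Int.cast : ℤ → A) := by
  constructor
  · ext i j
    rw [LinearMap.toMatrix_apply, h.a_apply, Matrix.map_apply, map_sum, Finset.sum_apply']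
    simp [Finsupp.single_apply]
  · ext i j
    rw [LinearMap.toMatrix_apply, h.c_apply, Matrix.map_apply, map_sum, Finset.sum_apply']
    simp [Finsupp.single_apply]

theorem exists_int {ρ : G →* Module.End A V} {ρ' : G →* Module.End A V'} {a c : G}
    (hgen : Subgroup.closure {a, c} = ⊤) {b : Basis (Fin 6) A V} {b' : Basis (Fin 6) A V'} (h : Six ρ a c b)
    (h' : Six ρ' a c b') (g : G) : ∃ N : Matrix (Fin 6) (Fin 6) ℤ,
      LinearMap.toMatrix b b (ρ g) = N.map (Int.cast : ℤ → A) ∧
      LinearMap.toMatrix b' b' (ρ' g) = N.map (Int.cast : ℤ → A) := by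
  have hg : g ∈ Submonoid.closure ({a, c} : Set G) := by
    rw [← Subgroup.closure_toSubmonoid_of_finite, hgen]
    trivial
  induction hg using Submonoid.closure_induction with
  | mem x hx =>
    rcases hx with rfl | hx
    · exact ⟨mA, (toMatrix_gen h).1, (toMatrix_gen h').1⟩
    · rw [Set.mem_singleton_iff.1 hx]
      exact ⟨mC, (toMatrix_gen h).2, (toMatrix_gen h').2⟩
  | one =>
    refine ⟨1, ?_, ?_⟩
    · rw [map_one, LinearMap.toMatrix_one, Matrix.map_one _ Int.cast_zero Int.cast_one]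
    · rw [map_one, LinearMap.toMatrix_one, Matrix.map_one _ Int.cast_zero Int.cast_one]
  | mul x y _ _ hx hy =>
    obtain ⟨N, hN, hN'⟩ := hx
    obtain ⟨M, hM, hM'⟩ := hy
    have e : ((N * M).map (Int.cast : ℤ → A)) = N.map (Int.cast : ℤ → A) * M.map (Int.cast : ℤ → A) :=
      Matrix.map_mul (f := Int.castRingHom A)
    refine ⟨N * M, ?_, ?_⟩
    · rw [map_mul, LinearMap.toMatrix_mul, hN, hM, e]
    · rw [map_mul, LinearMap.toMatrix_mul, hN', hM', e]

variable [FiniteDimensional A V] [FiniteDimensional A V']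

theorem trace_eq_int {ρ : G →* Module.End A V} {ρ' : G →* Module.End A V'} {a c : G}
    (hgen : Subgroup.closure {a, c} = ⊤) {b : Basis (Fin 6) A V} {b' : Basis (Fin 6) A V'} (h : Six ρ a c b)
    (h' : Six ρ' a c b') (g : G) : ∃ m : ℤ, LinearMap.trace A V (ρ g) = m ∧ LinearMap.trace A V' (ρ' g) = m := by
  obtain ⟨N, hN, hN'⟩ := exists_int hgen h h' g
  refine ⟨N.trace, ?_, ?_⟩
  · rw [LinearMap.trace_eq_matrix_trace A b, hN]
    simp [Matrix.trace]
  · rw [LinearMap.trace_eq_matrix_trace A b', hN']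
    simp [Matrix.trace]

end

section

variable {G : Type*} [Group G] {A : Type*} [Field A] {ι : Type*} [Fintype ι] [DecidableEq ι]

/-- the representation by endomorphisms -/
def toEnd (ρ : G →* Matrix ι ι A) : G →* Module.End A (ι → A) :=
  (Matrix.toLinAlgEquiv' : Matrix ι ι A ≃ₐ[A] _).toMonoidHom.comp ρ

theorem toEnd_apply (ρ : G →* Matrix ι ι A) (g : G) (v : ι → A) : toEnd ρ g v = (ρ g).mulVec v := rfl

theorem trace_toEnd (ρ : G →* Matrix ι ι A) (g : G) : LinearMap.trace A _ (toEnd ρ g) = (ρ g).trace :=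
  Matrix.trace_toLin'_eq (ρ g)

theorem toEnd_ne_one {ρ : G →* Matrix ι ι A} {g : G} (h : ρ g ≠ 1) : toEnd ρ g ≠ 1 := by
  intro h0
  apply h
  have h1 : (Matrix.toLinAlgEquiv' : Matrix ι ι A ≃ₐ[A] _) (ρ g) = 1 := h0
  exact (map_eq_one_iff _ (Matrix.toLinAlgEquiv' : Matrix ι ι A ≃ₐ[A] _).injective).1 h1

end

theorem u33_two {ι : Type} [Fintype ι] [DecidableEq ι] {F : Type u} [Field F] [Finite F] [CharP F 2]
    {P : Subgroup (GL ι F)} (hC : Core P) {K : Type v} [Field K] [Fintype K] (hK : Fintype.card K = 9)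
    (e : Nonempty (Soc P ≃* PSU 3 K 3)) (hn : Fintype.card ι ≤ 13) : Fintype.card ι = 6 ∧ SD P ∧ Fr P 2 := by
  classical
  obtain ⟨e⟩ := e
  have hmul : HasCyclicSchurMultiplier (PSU 3 K 3) (Nat.gcd 3 (3 + 1)) :=
    Cfsg.Agent.S2089.result 3 3 hK le_rfl (by norm_num) (by simp)
  obtain ⟨e', -⟩ := hC.equiv_of_coprime e hmul (by
    rw [Nat.card_congr Multiplicative.toAdd, Nat.card_zmod]
    norm_num)
  have hcK : Nat.card K = 3 ^ 2 := by rw [Nat.card_eq_fintype_card, hK]; norm_num
  obtain ⟨r, hr⟩ := CharP.exists K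
  have hrp : r.Prime := CharP.char_is_prime K r
  have hr3 : r = 3 := by
    have h1 : ((Fintype.card K : ℕ) : K) = 0 := Nat.cast_card_eq_zero K
    rw [CharP.cast_eq_zero_iff K r, hK, show 9 = 3 ^ 2 by norm_num] at h1
    exact (Nat.prime_dvd_prime_iff_eq hrp Nat.prime_three).1 (hrp.dvd_of_dvd_pow h1)
  subst hr3
  have hexp : ExpChar K 3 := ExpChar.prime Nat.prime_three
  set σ : K →+* K := frobenius K 3 with hσdef
  have hs : ∀ x, σ x = x ^ 3 := fun x => frobenius_def _ _
  have hσ : Fact (∀ x, σ (σ x) = x) := ⟨fun x => by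
    rw [hs, hs, ← pow_mul]
    have := FiniteField.pow_card x
    rwa [hK] at this⟩
  obtain ⟨q, hqs, hqk⟩ := exists_psu_hom (σ := σ) (by norm_num) hs hcK
  obtain ⟨z, x, y, h, c, D⟩ := exists_data hs hcK
  -- the representation
  let r : SUG σ →* P := e'.symm.toMonoidHom.comp q
  have hr : Function.Surjective r := e'.symm.surjective.comp hqs
  let ρ' : SUG σ →* Matrix ι ι F := ((Units.coeHom _).comp P.subtype).comp r
  have hspan : Submodule.span F (Set.range ρ') = ⊤ := by
    rw [← span_subtype hC.absIrred]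
    congr 1
    ext X
    constructor
    · rintro ⟨g, rfl⟩
      exact ⟨r g, rfl⟩
    · rintro ⟨g, rfl⟩
      obtain ⟨g, rfl⟩ := hr g
      exact ⟨g, rfl⟩
  let A := AlgebraicClosure F
  have h2F : (2 : F) = 0 := by exact_mod_cast CharP.cast_eq_zero F 2
  have h2A : (2 : A) = 0 := by
    have := congrArg (algebraMap F A) h2F
    rwa [map_zero, map_ofNat] at this
  let ρA : SUG σ →* Matrix ι ι A := extRep A ρ'
  have hspanA : Submodule.span A (Set.range ρA) = ⊤ := span_extRep hspan
  have hfin : Finite (SUG σ) := inferInstance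
  have hρz : ρA z ≠ 1 := by
    intro h0
    have h1 : r z = 1 := by
      apply Subtype.ext
      apply Units.ext
      ext i j
      apply (algebraMap F A).injective
      have := congrFun (congrFun h0 i) j
      change algebraMap F A ((((r z : P) : GL ι F) : Matrix ι ι F) i j) = _ at this
      rw [this]
      by_cases hij : i = j
      · subst hij; simp
      · simp [hij]
    have h3 : q z = 1 := by
      have h4 : e'.symm (q z) = 1 := h1
      rwa [map_eq_one_iff _ e'.symm.injective] at h4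
    have h4 : z ∈ Subgroup.center (SUG σ) := by rw [← hqk]; exact h3
    obtain ⟨w, hw⟩ := D.zU
    rw [← hw] at h4
    have h5 := eq_one_of_mem_center h4
    apply D.z1
    rw [← hw, h5, map_one]
  have hdim : ∀ ρ : SUG σ →* Matrix ι ι A, Submodule.span A (Set.range ρ) = ⊤ → ρ z ≠ 1 →
      ∃ b : Basis (Fin 6) A (ι → A), Six (toEnd ρ) z c b := by
    intro ρ hρ hρz
    exact Cfsg.Agent.H936.U33Mod.exists_basis h2A D (toEnd ρ) (fun W hW => eq_bot_or_top hρ W hW) (toEnd_ne_one hρz) (by
      rw [finrank_fintype_fun_eq_card]; exact hn)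
  obtain ⟨b, hb⟩ := hdim ρA hspanA hρz
  obtain ⟨b', hb'⟩ := hdim (contra ρA) (span_contra hspanA) (by
    intro h0
    rw [contra_apply] at h0
    apply hρz
    have h1 : ρA z⁻¹ = 1 := by
      rw [← Matrix.transpose_transpose (ρA z⁻¹), h0, Matrix.transpose_one]
    have h3 : ρA z * ρA z⁻¹ = 1 := by rw [← map_mul, mul_inv_cancel, map_one]
    rwa [h1, mul_one] at h3)
  have hcard : Fintype.card ι = 6 := by
    have h1 := Module.finrank_eq_card_basis b
    rwa [finrank_fintype_fun_eq_card, Fintype.card_fin] at h1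
  have htr : ∀ g, (ρA g).trace = algebraMap F A (tr (r g : GL ι F)) := fun g => trace_extRep ρ' g
  have key : ∀ g : P, ∃ m : ℤ, algebraMap F A (tr (g : GL ι F)) = m ∧ algebraMap F A (tr (g : GL ι F)⁻¹) = m := by
    intro g
    obtain ⟨g, rfl⟩ := hr g
    obtain ⟨m, h1, h2⟩ := trace_eq_int D.gen hb hb' g
    refine ⟨m, ?_, ?_⟩
    · rw [← htr, ← trace_toEnd, h1]
    · rw [trace_toEnd, contra_apply, Matrix.trace_transpose, htr, map_inv] at h2
      exact h2
  refine ⟨hcard, ?_, ?_⟩
  · intro g hg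
    obtain ⟨m, h1, h2⟩ := key ⟨g, hg⟩
    apply (algebraMap F A).injective
    rw [h1, h2]
  · intro g hg
    obtain ⟨m, h1, -⟩ := key ⟨g, hg⟩
    apply (algebraMap F A).injective
    rw [map_pow, h1]
    rcases Int.even_or_odd' m with ⟨k, hk | hk⟩
    · have h3 : (m : A) = 0 := by rw [hk, Int.cast_mul, Int.cast_ofNat, h2A, zero_mul]
      rw [h3]; ring
    · have h3 : (m : A) = 1 := by
        rw [hk, Int.cast_add, Int.cast_mul, Int.cast_ofNat, h2A, zero_mul, Int.cast_one, zero_add]
      rw [h3]; ring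

end Cfsg.Agent.H936.U33Two
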