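import Cfsg.Agent.H936.List12
import Cfsg.Agent.H95.LSx.Uni
import Cfsg.Agent.H95.LSx.G23
import Cfsg.Agent.H921.SporLe
import Cfsg.Agent.H489.DegCo2
import Cfsg.Agent.H489.DegRu
import Cfsg.Agent.H489.DegHe
import Cfsg.Agent.H489.DegLy
import Cfsg.Agent.H489.DegON
import Cfsg.Agent.H489.DegTh
import Cfsg.Agent.H489.DegHN
import Cfsg.Agent.H806.LsFiTwo

/-!
# The list of simple groups in degree at most 12, second version (sporadic groups included)

`list₁`: `P ≤ GL_n(F)` a core (`H915.LD.Core`), `n ≤ 12`, `char F = p`, `T = P / scalars` a known simple group, not of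
Lie type in characteristic `p`: then `AltC p n T`, `LieC p n T`, `MultD p n T`, `Sz8 (p ≠ 2, 7 ≤ n)`, or `T` is one of
`M₁₁ M₁₂ M₂₂ M₂₃ M₂₄ J₁ J₂ J₃ Suz`, or one of the pending groups `SporP p T`.
-/

set_option autoImplicit false

universe u v w

namespace Cfsg.Agent.H936.List12

open Cfsg Cfsg.Geo Cfsg.Agent.H912.Bd Cfsg.Agent.H912.Five Cfsg.Agent.H915.LD

/-- candidates with an exceptional multiplier -/
def MultD (p n : ℕ) (T : Type v) [Group T] : Prop :=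
  (p ≠ 2 ∧ 2 ∣ n ∧ (IsL 2 7 T ∨ IsL 3 4 T ∨ (p ≠ 3 ∧ IsU 4 2 T) ∨ IsS 3 2 T ∨ IsOP 4 2 T ∨ H912.Bd.IsG2 4 T)) ∨
  (p ≠ 3 ∧ 3 ∣ n ∧ IsU 4 3 T)

/-- sporadic candidates -/
def SporC (T : Type v) [Group T] : Prop :=
  Spor.IsoM11 T ∨ Spor.IsoM12 T ∨ Spor.IsoM22 T ∨ Spor.IsoM23 T ∨ Spor.IsoM24 T ∨ Spor.IsoJ1 T ∨ Spor.IsoJ2 T ∨
    Spor.IsoJ3 T ∨ Spor.IsoSuz T

/-- sporadic groups whose exclusion is pending -/
def SporP (p : ℕ) (T : Type v) [Group T] : Prop :=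
  p = 2 ∧ (Spor.IsoFi22 T ∨ Spor.IsoFi23 T ∨ Spor.IsoB T ∨ Spor.IsoM T)

/-- all candidates -/
def CandD (p n : ℕ) (T : Type v) [Group T] : Prop :=
  AltC p n T ∨ LieC p n T ∨ MultD p n T ∨ (p ≠ 2 ∧ 7 ≤ n ∧ IsSz8 T) ∨ SporC T

section

variable {F : Type u} [Field F] [Finite F] {p n : ℕ} [CharP F p] [hp : Fact p.Prime]

theorem exists_nc {P : Subgroup (Matrix.GeneralLinearGroup (Fin n) F)} (hC : Core P) {T : Type v} [Group T]
    (e : Soc P ≃* T) : ∃ g h : T, g * h ≠ h * g := by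
  by_contra hcon
  push Not at hcon
  exact hC.nonabelian ⟨⟨fun a b => e.injective (by rw [map_mul, map_mul, hcon])⟩⟩

/-- **The sporadic groups.** -/
theorem spor_split (hn : n ≤ 12) {P : Subgroup (Matrix.GeneralLinearGroup (Fin n) F)} (hC : Core P)
    (h : IsSporadicGroup (Soc P)) : SporC (Soc P) ∨ SporP p (Soc P) := by
  have hs : IsSimpleGroup (Soc P) := hC.simple
  have hsim : ∀ {T : Type} [Group T], Soc P ≃* T → IsSimpleGroup T := fun e =>
    (MulEquiv.isSimpleGroup_congr e).1 hC.simple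
  have hnc : ∀ {T : Type} [Group T], Soc P ≃* T → ∃ g h : T, g * h ≠ h * g := fun e => exists_nc hC e
  have h2 : p ≠ 2 → ((2 : ℕ) : F) ≠ 0 := fun hp2 => cast_ne Nat.prime_two (Ne.symm hp2)
  unfold SporC SporP
  rcases h with h | h | h | h | h | h | h | h | h | h | h | h | h | h | h | h | h | h | h | h | h | h | h | h | h | h
  · exact Or.inl (by tauto)
  · exact Or.inl (by tauto)
  · exact Or.inl (by tauto)
  · exact Or.inl (by tauto)
  · exact Or.inl (by tauto)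
  · exact Or.inl (by tauto)
  · exact Or.inl (by tauto)
  · exact Or.inl (by tauto)
  · obtain ⟨e⟩ := h
    have := H921.Spor.Le.j4_le hp.out hC e
    omega
  · obtain ⟨e⟩ := h
    have := H921.Spor.Le.co1_le hp.out hC e
    omega
  · obtain ⟨e⟩ := h
    have := H921.Spor.Le.co2_le hp.out hC e
    omega
  · obtain ⟨e⟩ := h
    have := H921.Spor.Le.co3_le hp.out hC e
    omega
  · obtain ⟨e⟩ := h
    have := H489.Deg.Co.mcl_le hp.out hC e
    omega
  · obtain ⟨e⟩ := h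
    have := H489.Deg.Co.hs_le hp.out hC e
    omega
  · exact Or.inl (by tauto)
  · obtain ⟨e⟩ := h
    have := H489.Deg.He.he_le hp.out hC e
    omega
  · obtain ⟨e⟩ := h
    have := H489.Deg.Ru.ru_le hp.out hC e
    omega
  · obtain ⟨e⟩ := h
    have := H489.Deg.ON.on_le hp.out hC e
    omega
  · obtain ⟨e⟩ := h
    have := H489.Deg.Ly.ly_le hp.out hC e
    omega
  · by_cases hp2 : p = 2
    · exact Or.inr ⟨hp2, by tauto⟩
    · exfalso
      obtain ⟨e⟩ := h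
      have := hsim e
      have := le_of_ls' hC (h2 hp2) (H806.Ls.fi22_ls_two (hnc e)) ⟨e⟩
      omega
  · by_cases hp2 : p = 2
    · exact Or.inr ⟨hp2, by tauto⟩
    · exfalso
      obtain ⟨e⟩ := h
      have := hsim e
      have := le_of_ls' hC (h2 hp2) (H806.Ls.fi23_ls_two (hnc e)) ⟨e⟩
      omega
  · obtain ⟨e⟩ := h
    have := H921.Spor.Le.fi24_le hp.out hC e
    omega
  · obtain ⟨e⟩ := h
    have := H489.Deg.HN.hn_le hp.out hC e
    omega
  · obtain ⟨e⟩ := h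
    have := H489.Deg.Th.th_le hp.out hC e
    omega
  · by_cases hp2 : p = 2
    · exact Or.inr ⟨hp2, by tauto⟩
    · exfalso
      obtain ⟨e⟩ := h
      have := hsim e
      have := le_of_ls' hC (h2 hp2) (H806.Ls.b_ls_two (hnc e)) ⟨e⟩
      omega
  · by_cases hp2 : p = 2
    · exact Or.inr ⟨hp2, by tauto⟩
    · exfalso
      obtain ⟨e⟩ := h
      have := hsim e
      have := le_of_ls' hC (h2 hp2) (H806.Ls.m_ls_two (hnc e)) ⟨e⟩
      omega

/-- **The list.** -/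
theorem list₁ (hn : n ≤ 12) {P : Subgroup (Matrix.GeneralLinearGroup (Fin n) F)} (hC : Core P)
    (hk : IsKnownSimple' (Soc P)) (hL : ¬ IsLieTypeChar p (Soc P)) :
    CandD p n (Soc P) ∨ SporP p (Soc P) := by
  have h2 : p ≠ 2 → ((2 : ℕ) : F) ≠ 0 := fun hp2 => cast_ne Nat.prime_two (Ne.symm hp2)
  have h3 : p ≠ 3 → ((3 : ℕ) : F) ≠ 0 := fun hp3 => cast_ne Nat.prime_three (Ne.symm hp3)
  unfold CandD
  rcases list₀ hn hC hk hL with (h | h | (⟨hp2, hn2, h⟩ | h) | ⟨hp3, -, h⟩ | h) | h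
  · exact Or.inl (Or.inl h)
  · exact Or.inl (Or.inr (Or.inl h))
  · rcases h with h | h | h | h | h | h | h
    · exact Or.inl (Or.inr (Or.inr (Or.inl (Or.inl ⟨hp2, hn2, by tauto⟩))))
    · exact Or.inl (Or.inr (Or.inr (Or.inl (Or.inl ⟨hp2, hn2, by tauto⟩))))
    · exact Or.inl (Or.inr (Or.inr (Or.inl (Or.inl ⟨hp2, hn2, by tauto⟩))))
    · exfalso
      obtain ⟨K, iK, iKf, hK, e⟩ := h
      have := le_of_ls' hC (h2 hp2) (H95.LSx.Uni.ls_u62 (by rw [hK]; norm_num)) e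
      omega
    · exact Or.inl (Or.inr (Or.inr (Or.inl (Or.inl ⟨hp2, hn2, by tauto⟩))))
    · exact Or.inl (Or.inr (Or.inr (Or.inl (Or.inl ⟨hp2, hn2, by tauto⟩))))
    · exact Or.inl (Or.inr (Or.inr (Or.inl (Or.inl ⟨hp2, hn2, by tauto⟩))))
  · exact Or.inl (Or.inr (Or.inr (Or.inl (Or.inr h))))
  · exfalso
    obtain ⟨K, iK, iKf, hK, e⟩ := h
    have := le_of_ls' hC (h3 hp3) (H95.LSx.G23.ls hK) e
    omega
  · exact Or.inl (Or.inr (Or.inr (Or.inr (Or.inl h))))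
  · rcases spor_split hn hC h with h | h
    · exact Or.inl (Or.inr (Or.inr (Or.inr (Or.inr h))))
    · exact Or.inr h

end

end Cfsg.Agent.H936.List12
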