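import Cfsg.Agent.H936.U33Two
import Cfsg.Agent.H659.U3Stage

/-!
# `U₃(3)` in degree at most 12, every characteristic `≠ 3`

`u33_all`: the degree is 6 (self-dual, traces in the prime field), or 7 (`p ≠ 2`).
-/

set_option autoImplicit false

universe u v

namespace Cfsg.Agent.H936.U33All

open Cfsg Cfsg.Geo Cfsg.Agent.H915.LD

variable {ι : Type} [Fintype ι] [DecidableEq ι] {F : Type u} [Field F] [Finite F] {P : Subgroup (GL ι F)}

/-- **`U₃(3)`, `p ≠ 3`, degree at most 12.** -/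
theorem u33_all (hC : Core P) (p : ℕ) [hp : Fact p.Prime] [CharP F p] (hp3 : p ≠ 3)
    (hn : Fintype.card ι ≤ 12) {K : Type v} [Field K] [Fintype K] (hK : Fintype.card K = 9)
    (e : Nonempty (Soc P ≃* PSU 3 K 3)) :
    (Fintype.card ι = 6 ∧ SD P ∧ Fr P p) ∨
      (p ≠ 2 ∧ Fintype.card ι = 7 ∧ (SD P ∨ ((p % 4 = 1 → Fr P p) ∧ (p % 4 = 3 → Cj P p)))) := by
  by_cases hp2 : p = 2
  · subst hp2
    exact Or.inl (H936.U33Two.u33_two hC hK e (by omega))
  · have : Fintype F := Fintype.ofFinite F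
    obtain ⟨e⟩ := e
    rcases (H659.U3.u33_stage hC p hp2 hp3 hn hK e).2 with h | ⟨h1, h2⟩
    · exact Or.inl h
    · exact Or.inr ⟨hp2, h1, h2⟩

/-- the degree is 6 or 7 -/
theorem u33_degree (hC : Core P) (p : ℕ) [hp : Fact p.Prime] [CharP F p] (hp3 : p ≠ 3)
    (hn : Fintype.card ι ≤ 12) {K : Type v} [Field K] [Fintype K] (hK : Fintype.card K = 9)
    (e : Nonempty (Soc P ≃* PSU 3 K 3)) : Fintype.card ι = 6 ∨ Fintype.card ι = 7 := by
  rcases u33_all hC p hp3 hn hK e with h | h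
  · exact Or.inl h.1
  · exact Or.inr h.2.1

end Cfsg.Agent.H936.U33All
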