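import Mathlib
import Cfsg.Agent.H936.DSBase

/-!
# Groups whose derived series is stationary after `k` steps

`PS k G` : the `k`-th term of the derived series of `G` is perfect.
-/

set_option autoImplicit false

namespace Cfsg.Agent.H936

/-- The derived series of `G` is stationary from the `k`-th term on. -/
def PS (k : ℕ) (G : Type*) [Group G] : Prop := derivedSeries G (k + 1) = derivedSeries G k

theorem PS.eq {k m : ℕ} {G : Type*} [Group G] (h : PS k G) (hm : k ≤ m) : derivedSeries G m = derivedSeries G k := by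
  induction m, hm using Nat.le_induction with
  | base => rfl
  | succ m _ ih =>
    rw [derivedSeries_succ, ih, ← derivedSeries_succ]
    exact h

theorem PS.mono {k m : ℕ} {G : Type*} [Group G] (h : PS k G) (hm : k ≤ m) : PS m G := by
  unfold PS
  rw [h.eq hm, h.eq (hm.trans (Nat.le_succ m))]

theorem PS.of_surj {k : ℕ} {G H : Type*} [Group G] [Group H] {f : G →* H} (hf : Function.Surjective f)
    (h : PS k G) : PS k H := by
  unfold PS
  rw [← map_derivedSeries_of_surj hf, ← map_derivedSeries_of_surj hf, h.eq (Nat.le_succ k)]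

theorem PS.of_equiv {k : ℕ} {G H : Type*} [Group G] [Group H] (e : G ≃* H) (h : PS k G) : PS k H :=
  PS.of_surj (f := e.toMonoidHom) e.surjective h

theorem PS.range {k : ℕ} {G H : Type*} [Group G] [Group H] (f : G →* H) (h : PS k G) : PS k f.range :=
  PS.of_surj f.rangeRestrict_surjective h

theorem PS.of_bot {k : ℕ} {G : Type*} [Group G] (h : derivedSeries G k = ⊥) : PS k G := by
  unfold PS
  rw [derivedSeries_succ, h, Subgroup.commutator_bot_right]

/-- **Lemma X**: `P'` contains a perfect subgroup `Q` with `P⁽ᵏ⁾ ≤ Q`. -/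
theorem PS.of_perfect {k : ℕ} {P : Type*} [Group P] {P' Q : Subgroup P} (hQ : ⁅Q, Q⁆ = Q) (hQP : Q ≤ P')
    (hk : derivedSeries P k ≤ Q) : PS k P' := by
  have h1 : ∀ j, Q ≤ (derivedSeries P' j).map P'.subtype := by
    intro j
    induction j with
    | zero =>
      rw [derivedSeries_zero, ← MonoidHom.range_eq_map, Subgroup.range_subtype]
      exact hQP
    | succ j ih =>
      rw [derivedSeries_succ, Subgroup.map_commutator, ← hQ]
      exact Subgroup.commutator_mono ih ih
  have h2 : (derivedSeries P' k).map P'.subtype = Q :=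
    le_antisymm ((map_derivedSeries_le P'.subtype k).trans hk) (h1 k)
  have h3 : (derivedSeries P' (k + 1)).map P'.subtype = Q := by
    rw [derivedSeries_succ, Subgroup.map_commutator, h2, hQ]
  apply Subgroup.map_injective P'.subtype_injective
  rw [h2, h3]

/-- If `V⁽ᵏ⁾` is perfect, so is the `k`-th term of the derived series of the subgroup of the elements in the kernel of a
homomorphism to a commutative group. -/
theorem PS.of_le {k : ℕ} {P : Type*} [Group P] (h : PS k P) {P' : Subgroup P} (hP : derivedSeries P k ≤ P') :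
    PS k P' := by
  refine PS.of_perfect (Q := derivedSeries P k) ?_ hP le_rfl
  rw [← derivedSeries_succ]
  exact h

theorem commutator_sup_normal {G : Type*} [Group G] (R A : Subgroup G) [R.Normal] :
    ⁅R ⊔ A, R ⊔ A⁆ ≤ R ⊔ ⁅A, A⁆ := by
  have h1 : ⁅R ⊔ A, R ⊔ A⁆ ≤ ((⁅A, A⁆).map (QuotientGroup.mk' R)).comap (QuotientGroup.mk' R) := by
    rw [← Subgroup.map_le_iff_le_comap, Subgroup.map_commutator, Subgroup.map_commutator, Subgroup.map_sup]
    have h2 : R.map (QuotientGroup.mk' R) = ⊥ := by
      rw [Subgroup.map_eq_bot_iff, QuotientGroup.ker_mk']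
    rw [h2, bot_sup_eq]
  refine h1.trans ?_
  rw [Subgroup.comap_map_eq, QuotientGroup.ker_mk', sup_comm]

/-- **Extensions.** -/
theorem PS.of_ker {a b : ℕ} {G H : Type*} [Group G] [Group H] {f : G →* H} (hf : Function.Surjective f)
    (hN : PS a f.ker) (hH : PS b H) : PS (a + b) G := by
  set R := derivedSeries G (a + b + 1) with hR
  have h1 : ∀ i, derivedSeries G (b + i) ≤ R ⊔ (derivedSeries f.ker i).map f.ker.subtype := by
    intro i
    induction i with
    | zero =>
      rw [add_zero, derivedSeries_zero, ← MonoidHom.range_eq_map, Subgroup.range_subtype]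
      have h2 : (derivedSeries G b).map f = R.map f := by
        rw [map_derivedSeries_of_surj hf, hR, map_derivedSeries_of_surj hf]
        exact (hH.eq (by omega)).symm
      rw [← Subgroup.comap_map_eq, ← h2]
      exact Subgroup.le_comap_map _ _
    | succ i ih =>
      rw [← add_assoc, derivedSeries_succ, derivedSeries_succ, Subgroup.map_commutator]
      exact (Subgroup.commutator_mono ih ih).trans (commutator_sup_normal _ _)
  have h2 : (derivedSeries f.ker a).map f.ker.subtype ≤ R := by
    rw [← hN.eq (show a ≤ a + b + 1 by omega)]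
    exact map_derivedSeries_le _ _
  have h3 := h1 a
  rw [sup_eq_left.2 h2, add_comm b a] at h3
  exact le_antisymm (derivedSeries_antitone G (Nat.le_succ _)) h3

theorem PS.of_normal {a b : ℕ} {G : Type*} [Group G] (N : Subgroup G) [N.Normal] (hN : PS a N)
    (hQ : PS b (G ⧸ N)) : PS (a + b) G := by
  refine PS.of_ker (f := QuotientGroup.mk' N) (QuotientGroup.mk'_surjective N) ?_ hQ
  rwa [QuotientGroup.ker_mk']

/-- **Two homomorphisms.** -/
theorem PS.of_two {a b : ℕ} {A B X : Type*} [Group A] [Group B] [Group X] (f₁ : A →* X) (f₂ : B →* X)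
    (hn : ∀ x y, ∃ x', f₂ y * f₁ x * (f₂ y)⁻¹ = f₁ x') (hA : PS a A) (hB : PS b B) :
    PS (a + b) ↥(f₁.range ⊔ f₂.range) := by
  set Y := f₁.range ⊔ f₂.range with hY
  have h1 : f₁.range ≤ Y := le_sup_left
  have h2 : f₂.range ≤ Y := le_sup_right
  have hle : Y ≤ Subgroup.normalizer (f₁.range : Set X) := by
    refine sup_le Subgroup.le_normalizer ?_
    rintro _ ⟨y, rfl⟩
    rw [Subgroup.mem_normalizer_iff]
    intro z
    constructor
    · rintro ⟨x, rfl⟩
      obtain ⟨x', hx'⟩ := hn x y
      exact ⟨x', hx'.symm⟩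
    · rintro ⟨x, hx⟩
      obtain ⟨x', hx'⟩ := hn x y⁻¹
      refine ⟨x', ?_⟩
      rw [← hx', hx, map_inv]
      group
  have hN : (f₁.range.subgroupOf Y).Normal := Subgroup.normal_subgroupOf_iff_le_normalizer h1 |>.2 hle
  refine PS.of_normal (f₁.range.subgroupOf Y) ?_ ?_
  · exact PS.of_equiv (Subgroup.subgroupOfEquivOfLe h1).symm (hA.range f₁)
  · let g : B →* Y := f₂.codRestrict Y fun y => h2 ⟨y, rfl⟩
    refine PS.of_surj (f := (QuotientGroup.mk' (f₁.range.subgroupOf Y)).comp g) ?_ hB
    intro z
    obtain ⟨⟨z, hz⟩, rfl⟩ := QuotientGroup.mk'_surjective _ z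
    have h3 : ∀ w ∈ Y, ∃ x y, w = f₂ y * f₁ x := by
      intro w hw
      rw [hY, Subgroup.sup_eq_closure_mul] at hw
      induction hw using Subgroup.closure_induction with
      | mem w hw =>
        obtain ⟨_, ⟨x, rfl⟩, _, ⟨y, rfl⟩, rfl⟩ := hw
        obtain ⟨x', hx'⟩ := hn x y⁻¹
        refine ⟨x', y, ?_⟩
        rw [← hx', map_inv]
        simp only [← mul_assoc]
        simp
      | one => exact ⟨1, 1, by simp⟩
      | mul u v _ _ hu hv =>
        obtain ⟨x, y, rfl⟩ := hu
        obtain ⟨x', y', rfl⟩ := hv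
        obtain ⟨x'', hx''⟩ := hn x y'⁻¹
        refine ⟨x'' * x', y * y', ?_⟩
        rw [map_mul, map_mul, ← hx'', map_inv]
        simp only [mul_assoc]
        simp
      | inv u _ hu =>
        obtain ⟨x, y, rfl⟩ := hu
        obtain ⟨x', hx'⟩ := hn x⁻¹ y
        refine ⟨x', y⁻¹, ?_⟩
        rw [← hx', map_inv, map_inv, mul_inv_rev]
        simp only [mul_assoc]
        simp
    obtain ⟨x, y, hxy⟩ := h3 z hz
    refine ⟨y, ?_⟩
    rw [MonoidHom.comp_apply]
    simp only [QuotientGroup.mk'_apply]
    rw [QuotientGroup.eq, Subgroup.mem_subgroupOf]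
    refine ⟨x, ?_⟩
    change f₁ x = (f₂ y)⁻¹ * z
    rw [hxy]
    group

theorem derivedSeries_pi {ι : Type*} [Finite ι] {G : ι → Type*} [∀ i, Group (G i)] (n : ℕ) :
    derivedSeries (∀ i, G i) n = Subgroup.pi Set.univ fun i => derivedSeries (G i) n := by
  induction n with
  | zero =>
    rw [derivedSeries_zero, eq_comm, eq_top_iff]
    intro x _ i _
    trivial
  | succ n ih =>
    rw [derivedSeries_succ, ih, Subgroup.commutator_pi_pi_of_finite]
    rfl

theorem PS.pi {k : ℕ} {ι : Type*} [Finite ι] {G : ι → Type*} [∀ i, Group (G i)] (h : ∀ i, PS k (G i)) :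
    PS k (∀ i, G i) := by
  unfold PS
  rw [derivedSeries_pi, derivedSeries_pi]
  congr 1
  funext i
  exact h i

theorem PS.prod {k : ℕ} {A B : Type*} [Group A] [Group B] (hA : PS k A) (hB : PS k B) : PS k (A × B) := by
  have h1 : ∀ n, derivedSeries (A × B) n = (derivedSeries A n).prod (derivedSeries B n) := by
    intro n
    induction n with
    | zero => rw [derivedSeries_zero, derivedSeries_zero, derivedSeries_zero, Subgroup.top_prod_top]
    | succ n ih => rw [derivedSeries_succ, ih, Subgroup.commutator_prod_prod]; rfl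
  unfold PS
  rw [h1, h1, hA.eq (Nat.le_succ k), hB.eq (Nat.le_succ k)]

end Cfsg.Agent.H936
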