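import Mathlib
import Cfsg.Agent.H936.PSBase

/-!
# Automorphisms of a power of a non-abelian simple group

`perm : MulAut (ι → T) →* Perm ι`, with kernel the coordinatewise automorphisms.
-/

set_option autoImplicit false

open scoped commutatorElement

namespace Cfsg.Agent.H936

/-- If `A` is perfect and `P⁽ᵏ⁾` is contained in the image of `A`, then `P⁽ᵏ⁾` is perfect. -/
theorem PS.of_hom {k : ℕ} {P A : Type*} [Group P] [Group A] (f : A →* P) (hA : PS 0 A)
    (hk : derivedSeries P k ≤ f.range) : PS k P := by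
  refine le_antisymm (derivedSeries_antitone P (Nat.le_succ _)) (hk.trans ?_)
  rw [MonoidHom.range_eq_map, ← derivedSeries_zero A, ← hA.eq (Nat.zero_le (k + 1))]
  exact map_derivedSeries_le f (k + 1)

theorem ps_zero_simple {T : Type*} [Group T] [IsSimpleGroup T] (hT : ¬ IsMulCommutative T) : PS 0 T := by
  unfold PS
  rw [derivedSeries_one, derivedSeries_zero]
  have : (commutator T).Normal := inferInstance
  rcases this.eq_bot_or_eq_top with h | h
  · exfalso
    apply hT
    refine ⟨⟨fun a b => ?_⟩⟩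
    have h1 : ⁅a, b⁆ ∈ commutator T := Subgroup.commutator_mem_commutator (Subgroup.mem_top _) (Subgroup.mem_top _)
    rw [h, Subgroup.mem_bot, commutatorElement_eq_one_iff_mul_comm] at h1
    exact h1
  · exact h

namespace AutPow

variable {ι : Type*} {T : Type*} [Group T]

theorem hom_ext [Finite ι] [DecidableEq ι] {A : Type*} [Group A] {f g : (ι → T) →* A}
    (h : ∀ i t, f (Pi.mulSingle i t) = g (Pi.mulSingle i t)) : f = g := by
  apply MonoidHom.eq_of_eqOn_top
  intro x _
  have : x ∈ f.eqLocus g := Subgroup.pi_mem_of_mulSingle_mem x fun i => h i _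
  exact this

variable [IsSimpleGroup T]

theorem exists_ne_one (T : Type*) [Group T] [IsSimpleGroup T] : ∃ t : T, t ≠ 1 := exists_ne 1

theorem exists_form [Finite ι] (hT : ¬ IsMulCommutative T) (β : MulAut (ι → T)) :
    ∃ (σ : Equiv.Perm ι) (φ : ι → MulAut T), ∀ x i, β x (σ i) = φ i (x i) := by
  classical
  let g : ∀ _ : ι, (ι → T) →* T := fun k => (Pi.evalMonoidHom (fun _ => T) k).comp β.toMonoidHom
  have hg : ∀ k x, g k x = β x k := fun _ _ => rfl
  have hgs : ∀ k, Function.Surjective (g k) := by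
    intro k t
    refine ⟨β.symm (fun _ => t), ?_⟩
    rw [hg, MulEquiv.apply_symm_apply]
  let F : ι → ι → T →* T := fun k i => (g k).comp (MonoidHom.mulSingle (fun _ => T) i)
  have hF : ∀ k i t, F k i t = g k (Pi.mulSingle i t) := fun _ _ _ => rfl
  have hFn : ∀ k i, (F k i).range.Normal := by
    intro k i
    refine ⟨?_⟩
    rintro _ ⟨t, rfl⟩ s
    obtain ⟨y, rfl⟩ := hgs k s
    refine ⟨y i * t * (y i)⁻¹, ?_⟩
    rw [hF, hF, ← map_mul, ← map_inv, ← map_mul]
    congr 1
    funext j
    by_cases hj : j = i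
    · subst hj
      simp
    · simp [Pi.mulSingle_eq_of_ne hj]
  have hex : ∀ k, ∃ i, (F k i).range = ⊤ := by
    intro k
    by_contra hcon
    push Not at hcon
    have h1 : g k = 1 := by
      apply hom_ext
      intro i t
      have h2 : (F k i).range = ⊥ := ((hFn k i).eq_bot_or_eq_top).resolve_right (hcon i)
      have h3 : F k i t ∈ (F k i).range := ⟨t, rfl⟩
      rw [h2, Subgroup.mem_bot] at h3
      exact h3
    obtain ⟨t, ht⟩ := exists_ne_one T
    obtain ⟨x, hx⟩ := hgs k t
    rw [h1] at hx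
    exact ht hx.symm
  choose τ hτ using hex
  have hne : ∀ k i, i ≠ τ k → ∀ t, F k i t = 1 := by
    intro k i hi
    rcases (hFn k i).eq_bot_or_eq_top with h | h
    · intro t
      have h3 : F k i t ∈ (F k i).range := ⟨t, rfl⟩
      rwa [h, Subgroup.mem_bot] at h3
    · exfalso
      apply hT
      refine ⟨⟨fun a b => ?_⟩⟩
      have ha : a ∈ (F k i).range := h ▸ Subgroup.mem_top _
      have hb : b ∈ (F k (τ k)).range := hτ k ▸ Subgroup.mem_top _
      obtain ⟨s, rfl⟩ := ha
      obtain ⟨t, rfl⟩ := hb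
      rw [hF, hF, ← map_mul, ← map_mul]
      congr 1
      exact (Pi.mulSingle_commute (f := fun _ => T) hi s t)
  have hgF : ∀ k x, g k x = F k (τ k) (x (τ k)) := by
    intro k
    have h1 : g k = (F k (τ k)).comp (Pi.evalMonoidHom (fun _ => T) (τ k)) := by
      apply hom_ext
      intro i t
      by_cases hi : i = τ k
      · subst hi
        simp [hF]
      · rw [← hF, hne k i hi]
        simp [Pi.mulSingle_eq_of_ne (Ne.symm hi)]
    intro x
    rw [h1]
    rfl
  have hFinj : ∀ k, Function.Injective (F k (τ k)) := by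
    intro k
    rw [← MonoidHom.ker_eq_bot_iff]
    refine ((MonoidHom.normal_ker (F k (τ k))).eq_bot_or_eq_top).resolve_right ?_
    intro h
    obtain ⟨t, ht⟩ := exists_ne_one T
    have h1 : t ∈ (F k (τ k)).range := hτ k ▸ Subgroup.mem_top _
    obtain ⟨s, rfl⟩ := h1
    have h2 : s ∈ (F k (τ k)).ker := h ▸ Subgroup.mem_top _
    exact ht h2
  have hFsurj : ∀ k, Function.Surjective (F k (τ k)) := fun k =>
    MonoidHom.range_eq_top.1 (hτ k)
  have hτinj : Function.Injective τ := by
    intro k k' hkk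
    by_contra hcon
    obtain ⟨t, ht⟩ := exists_ne_one T
    have h1 : g k (β.symm (Pi.mulSingle k t)) = t := by
      rw [hg, MulEquiv.apply_symm_apply, Pi.mulSingle_eq_same]
    have h2 : g k' (β.symm (Pi.mulSingle k t)) = 1 := by
      rw [hg, MulEquiv.apply_symm_apply, Pi.mulSingle_eq_of_ne (Ne.symm hcon)]
    rw [hgF] at h1 h2
    have h3 := (map_eq_one_iff _ (hFinj k')).1 h2
    rw [← hkk] at h3
    rw [h3, map_one] at h1
    exact ht h1.symm
  let σ : Equiv.Perm ι := (Equiv.ofBijective τ (Finite.injective_iff_bijective.1 hτinj)).symm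
  have hσ : ∀ i, τ (σ i) = i := fun i => (Equiv.ofBijective τ (Finite.injective_iff_bijective.1 hτinj)).apply_symm_apply i
  refine ⟨σ, fun i => MulEquiv.ofBijective (F (σ i) (τ (σ i))) ⟨hFinj _, hFsurj _⟩, ?_⟩
  intro x i
  change β x (σ i) = F (σ i) (τ (σ i)) (x i)
  rw [← hg, hgF]
  rw [hσ i]

theorem unique_form {β : MulAut (ι → T)} {σ σ' : Equiv.Perm ι} {φ φ' : ι → MulAut T}
    (h : ∀ x i, β x (σ i) = φ i (x i)) (h' : ∀ x i, β x (σ' i) = φ' i (x i)) : σ = σ' := by
  classical
  ext i
  obtain ⟨t, ht⟩ := exists_ne_one T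
  by_contra hcon
  have h1 := h (Pi.mulSingle i t) i
  have h2 := h' (Pi.mulSingle i t) (σ'.symm (σ i))
  have h3 : σ'.symm (σ i) ≠ i := by
    intro h3
    apply hcon
    rw [Equiv.symm_apply_eq] at h3
    exact h3
  rw [Equiv.apply_symm_apply, h1, Pi.mulSingle_eq_same, Pi.mulSingle_eq_of_ne h3, map_one, map_eq_one_iff _
    (φ i).injective] at h2
  exact ht h2

/-- The permutation of the coordinates induced by an automorphism. -/
noncomputable def perm [Finite ι] (hT : ¬ IsMulCommutative T) : MulAut (ι → T) →* Equiv.Perm ι where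
  toFun β := (exists_form hT β).choose
  map_one' := by
    obtain ⟨φ, hφ⟩ := (exists_form (ι := ι) hT (1 : MulAut (ι → T))).choose_spec
    exact unique_form (φ' := 1) hφ (fun x i => rfl)
  map_mul' α β := by
    obtain ⟨φ, hφ⟩ := (exists_form (ι := ι) hT α).choose_spec
    obtain ⟨φ', hφ'⟩ := (exists_form (ι := ι) hT β).choose_spec
    obtain ⟨φ'', hφ''⟩ := (exists_form (ι := ι) hT (α * β)).choose_spec
    refine unique_form (φ' := fun i => φ ((exists_form hT β).choose i) * φ' i) hφ'' (fun x i => ?_)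
    rw [MulAut.mul_apply, Equiv.Perm.mul_apply, hφ, hφ']
    rfl

theorem perm_spec [Finite ι] (hT : ¬ IsMulCommutative T) (β : MulAut (ι → T)) :
    ∃ φ : ι → MulAut T, ∀ x i, β x (perm hT β i) = φ i (x i) :=
  (exists_form hT β).choose_spec

theorem perm_eq [Finite ι] (hT : ¬ IsMulCommutative T) {β : MulAut (ι → T)} {σ : Equiv.Perm ι} {φ : ι → MulAut T}
    (h : ∀ x i, β x (σ i) = φ i (x i)) : perm hT β = σ := by
  obtain ⟨φ', hφ'⟩ := perm_spec hT β
  exact unique_form hφ' h

theorem perm_one_iff [Finite ι] (hT : ¬ IsMulCommutative T) (β : MulAut (ι → T)) (x : ι → T) (i : ι) :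
    β x (perm hT β i) = 1 ↔ x i = 1 := by
  obtain ⟨φ, hφ⟩ := perm_spec hT β
  rw [hφ, map_eq_one_iff _ (φ i).injective]

theorem perm_conj [Finite ι] (hT : ¬ IsMulCommutative T) (y : ι → T) : perm hT (MulAut.conj y) = 1 :=
  perm_eq hT (φ := fun i => MulAut.conj (y i)) fun x i => by simp

/-- The automorphism permuting the coordinates. -/
def permAut (T : Type*) [Group T] (σ : Equiv.Perm ι) : MulAut (ι → T) where
  toFun x := fun i => x (σ.symm i)
  invFun x := fun i => x (σ i)
  left_inv x := by funext i; simp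
  right_inv x := by funext i; simp
  map_mul' x y := rfl

omit [IsSimpleGroup T] in
theorem permAut_apply (σ : Equiv.Perm ι) (x : ι → T) (i : ι) : permAut T σ x i = x (σ.symm i) := rfl

theorem perm_permAut [Finite ι] (hT : ¬ IsMulCommutative T) (σ : Equiv.Perm ι) : perm hT (permAut T σ) = σ :=
  perm_eq hT (φ := 1) fun x i => by rw [permAut_apply, Equiv.symm_apply_apply]; rfl

/-- The coordinatewise automorphisms. -/
def piAut (ι T : Type*) [Group T] : (ι → MulAut T) →* MulAut (ι → T) where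
  toFun φ := MulEquiv.piCongrRight φ
  map_one' := rfl
  map_mul' _ _ := rfl

omit [IsSimpleGroup T] in
theorem piAut_apply (φ : ι → MulAut T) (x : ι → T) (i : ι) : piAut ι T φ x i = φ i (x i) := rfl

theorem ker_le [Finite ι] (hT : ¬ IsMulCommutative T) : (perm (ι := ι) hT).ker ≤ (piAut ι T).range := by
  intro β hβ
  obtain ⟨φ, hφ⟩ := perm_spec hT β
  rw [MonoidHom.mem_ker] at hβ
  refine ⟨φ, ?_⟩
  ext x i
  rw [piAut_apply, ← hφ, hβ]
  rfl

/-- **The third derived subgroup of the kernel.** -/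
theorem map_derivedSeries_le_conj [Finite ι] {n : ℕ} (hT : ¬ IsMulCommutative T) (hd : DS n T) {K : Type*} [Group K]
    (c : K →* MulAut (ι → T)) (hc : ∀ k, perm hT (c k) = 1) {k : K} (hk : k ∈ derivedSeries K n) :
    ∃ y : ι → T, c k = MulAut.conj y := by
  have h1 : ∀ k, c k ∈ (piAut ι T).range := fun k => ker_le hT (MonoidHom.mem_ker.2 (hc k))
  let c' : K →* (piAut ι T).range := c.codRestrict _ h1
  have h2 : c' k ∈ derivedSeries (piAut ι T).range n := map_derivedSeries_le c' n ⟨k, hk, rfl⟩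
  rw [← map_derivedSeries_of_surj (piAut ι T).rangeRestrict_surjective] at h2
  obtain ⟨φ, hφ, hφk⟩ := h2
  have h3 : φ ∈ derivedSeries (ι → MulAut T) n := hφ
  rw [derivedSeries_pi] at h3
  have h4 : ∀ i, ∃ t : T, MulAut.conj t = φ i := fun i => hd (h3 i (Set.mem_univ i))
  choose y hy using h4
  refine ⟨y, ?_⟩
  have h5 : c k = piAut ι T φ := congrArg Subtype.val hφk.symm
  rw [h5]
  ext x i
  rw [piAut_apply, ← hy]
  rfl

/-- The kernel. -/
theorem ps_ker [Finite ι] {n : ℕ} (hT : ¬ IsMulCommutative T) (hd : DS n T) : PS n (perm (ι := ι) hT).ker := by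
  let f : (ι → T) →* (perm (ι := ι) hT).ker := (MulAut.conj : (ι → T) →* MulAut (ι → T)).codRestrict _ fun y =>
    MonoidHom.mem_ker.2 (perm_conj hT y)
  refine PS.of_hom f (PS.pi fun _ => ps_zero_simple hT) ?_
  intro k hk
  obtain ⟨y, hy⟩ := map_derivedSeries_le_conj hT hd (perm (ι := ι) hT).ker.subtype (fun k => MonoidHom.mem_ker.1 k.2) hk
  exact ⟨y, Subtype.ext hy.symm⟩

end AutPow

end Cfsg.Agent.H936
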