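import Cfsg.Agent.H936.AltBig

/-!
# Projective representations of large alternating groups (continued)

`of_core`: if `P → A_m` is a perfect central extension and `ρ` is an irreducible nontrivial representation of `P` of
dimension `d ≤ N` in characteristic different from `r`, where `Num r m N`: then `m ≤ d + 2`.

Consequences: `ls_five`, `ls_five_small`, `ls_seven`, `ls_one`.
-/

set_option autoImplicit false

universe u v w

namespace Cfsg.Agent.H936.AltBig

open Equiv Equiv.Perm Module Cfsg.Agent.H203.LS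

variable {m r N : ℕ} {P : Type v} [Group P] {π : P →* alternatingGroup (Fin m)} {k : Type w} [Field k] [IsAlgClosed k]
  {V : Type w} [AddCommGroup V] [Module k V] [FiniteDimensional k V] {ρ : P →* (V →ₗ[k] V)}

theorem Num.simple {r m N : ℕ} (h : Num r m N) : IsSimpleGroup (alternatingGroup (Fin m)) := by
  apply alternatingGroup.isSimpleGroup
  rw [Nat.card_eq_fintype_card, Fintype.card_fin]
  rcases h with ⟨rfl, h⟩ | ⟨rfl, h⟩ | ⟨rfl, h⟩ <;> omega

theorem Num.two_le {r m N : ℕ} (h : Num r m N) : 2 ≤ r := by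
  rcases h with ⟨rfl, h⟩ | ⟨rfl, h⟩ | ⟨rfl, h⟩ <;> omega

theorem inj (g : P) : Function.Injective (ρ g) := by
  intro v v' h
  have h1 : ∀ v, ρ g⁻¹ (ρ g v) = v := fun v => by
    rw [← Module.End.mul_apply, ← map_mul, inv_mul_cancel, map_one, Module.End.one_apply]
  rw [← h1 v, h, h1]

theorem LC.ne {x : P} (h : LC r π x) : π x ≠ 1 := by
  intro h1
  apply h.cyc.1.ne_one
  exact congrArg Subtype.val h1

/-- the span of the commutator spaces of the `r`-cycles supported in a set -/
def U (r : ℕ) (π : P →* alternatingGroup (Fin m)) (ρ : P →* (V →ₗ[k] V)) (s : Finset (Fin m)) : Submodule k V :=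
  ⨆ (x : P) (_ : LC r π x ∧ (pm π x).support ⊆ s), cs ρ x

theorem cs_le_U {s : Finset (Fin m)} {x : P} (hx : LC r π x) (hs : (pm π x).support ⊆ s) : cs ρ x ≤ U r π ρ s :=
  le_iSup₂_of_le x ⟨hx, hs⟩ le_rfl

theorem U_mono {s t : Finset (Fin m)} (h : s ⊆ t) : U r π ρ s ≤ U r π ρ t :=
  iSup₂_le fun _ hx => cs_le_U hx.1 (hx.2.trans h)

theorem map_U {s t : Finset (Fin m)} {g : P} (h : ∀ i ∈ s, pm π g i ∈ t) {v : V} (hv : v ∈ U r π ρ s) :
    ρ g v ∈ U r π ρ t := by
  have h1 : U r π ρ s ≤ (U r π ρ t).comap (ρ g) := by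
    refine iSup₂_le fun x hx => ?_
    intro v hv
    rw [Submodule.mem_comap]
    refine cs_le_U (hx.1.conj g) ?_ ?_
    · rw [pm_mul, pm_mul, pm_inv, support_conj]
      intro i hi
      rw [Finset.mem_map] at hi
      obtain ⟨j, hj, rfl⟩ := hi
      exact h j (hx.2 hj)
    · obtain ⟨w, rfl⟩ := mem_cs.1 hv
      refine mem_cs.2 ⟨ρ g w, ?_⟩
      rw [map_sub, ← Module.End.mul_apply, ← Module.End.mul_apply, ← map_mul, ← map_mul, inv_mul_cancel_right]
  exact h1 hv

theorem finrank_U (hπ : Function.Surjective π) {s t : Finset (Fin m)} (h : s.card = t.card) (h2 : 2 ≤ s.card) :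
    finrank k (U r π ρ s) ≤ finrank k (U r π ρ t) := by
  obtain ⟨σ, hσ, hst⟩ := exists_even_map h h2
  obtain ⟨g, hg⟩ := hπ ⟨σ, hσ⟩
  have hg' : pm π g = σ := congrArg Subtype.val hg
  have h1 : ∀ v ∈ U r π ρ s, ρ g v ∈ U r π ρ t := fun v hv =>
    map_U (fun i hi => by rw [hg']; exact (hst i).2 hi) hv
  refine LinearMap.finrank_le_finrank_of_injective (f := (ρ g).restrict h1) ?_
  intro a b hab
  exact Subtype.ext (inj g (congrArg Subtype.val hab))

theorem disj_of {s : Finset (Fin m)} {x y : Perm (Fin m)} (hx : x.support ⊆ s) (hy : _root_.Disjoint y.support s) :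
    Perm.Disjoint x y :=
  disjoint_of_support (Finset.disjoint_of_subset_left hx hy.symm)

theorem fix_U (hc : π.ker ≤ Subgroup.center P) 
    (hπ : Function.Surjective π) (hN : Num r m N) (hr : (r : k) ≠ 0) (hd : finrank k V ≤ N) {s : Finset (Fin m)} {y : P}
    (hy : LC r π y) (hys : _root_.Disjoint (pm π y).support s) {v : V} (hv : v ∈ U r π ρ s) : ρ y v = v := by
  have h1 : U r π ρ s ≤ LinearMap.eqLocus (ρ y) LinearMap.id := by
    refine iSup₂_le fun x hx => ?_
    intro v hv
    exact trivial_on hc hπ hN hr hd hx.1 hy (disj_of hx.2 hys) hv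
  exact h1 hv

/-- every commutator space has dimension at least `r - 1` -/
theorem dim_cs (hN : Num r m N) (h : Core r π ρ) {x : P} (hx : LC r π x) :
    r - 1 ≤ finrank k (cs ρ x) := by
  haveI := hN.simple
  obtain ⟨ζ, hζ, v, hv0, hv⟩ := exists_eigen (f := ρ x) h.rk (by rw [← map_pow, hx.pow, map_one]) (h.ne_one hx.ne)
  have hmem : ∀ (w : V) (η : k), η ≠ 1 → ρ x w = η • w → w ∈ cs ρ x := by
    intro w η hη hw
    refine mem_cs.2 ⟨(η - 1)⁻¹ • w, ?_⟩
    have h3 : η • w - w = (η - 1) • w := by rw [sub_smul, one_smul]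
    rw [map_smul, hw, ← smul_sub, h3, smul_smul, inv_mul_cancel₀ (sub_ne_zero.2 hη), one_smul]
  obtain ⟨σ, hσ, h1⟩ := exists_even_one hx.cyc hN.three hN.add_two
  obtain ⟨g, hg⟩ := h.surj ⟨σ, hσ⟩
  have hg' : pm π g = σ := congrArg Subtype.val hg
  have hgx : g * x * g⁻¹ = x ^ 3 := hx.conj_eq h.cen h.surj hN hN.three (by rw [hg', h1])
  have key : ∀ i : ℕ, ρ x (ρ (g ^ i)⁻¹ v) = ζ ^ 3 ^ i • ρ (g ^ i)⁻¹ v := fun i => eig_conj (conj_pow_pow hgx i) hv
  have hne : ∀ i : ℕ, ζ ^ 3 ^ i ≠ 1 := by
    intro i h3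
    have h4 := root_pow hN.prime (eig_root hx.pow hv0 hv) hζ (a := 3 ^ i) (b := 0) (by rw [h3, pow_zero])
    have h5 : Nat.Coprime (3 ^ i) r := hN.three.pow_left i
    have h6 : r ∣ 3 ^ i := Nat.dvd_of_mod_eq_zero (by rw [h4, Nat.zero_mod])
    have h7 := Nat.Coprime.eq_one_of_dvd h5.symm h6
    exact hN.prime.one_lt.ne' h7
  have hli : LinearIndependent k (fun i : Fin (r - 1) => ρ (g ^ (i : ℕ))⁻¹ v) := by
    refine linearIndependent_of_weights (J := Unit) (fun _ => ρ x) _ (fun i _ => ζ ^ 3 ^ (i : ℕ)) (fun i => inv_ne hv0)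
      (fun i _ => key i) ?_
    intro i j hij
    have h3 := congrFun hij ()
    apply Fin.ext
    exact hN.three_pow i i.2 j j.2 (root_pow hN.prime (eig_root hx.pow hv0 hv) hζ h3)
  have h3 := finrank_span_eq_card hli
  rw [Fintype.card_fin] at h3
  rw [← h3]
  apply Submodule.finrank_mono
  rw [Submodule.span_le]
  rintro _ ⟨i, rfl⟩
  exact hmem _ _ (hne i) (key i)

/-- the dimensions are strictly increasing -/
theorem strict (hN : Num r m N) (h : Core r π ρ) (hd : finrank k V ≤ N)
    {s : Finset (Fin m)} {a : Fin m} (ha : a ∉ s) (h1 : r ≤ s.card) (h3 : s.card + r ≤ m) :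
    finrank k (U r π ρ s) < finrank k (U r π ρ (insert a s)) := by
  classical
  haveI := hN.simple
  by_contra hcon
  rw [not_lt] at hcon
  have hr2 := hN.two_le
  -- equality for all pairs
  have e1 : ∀ (t : Finset (Fin m)) (b : Fin m), b ∈ t → t.card = s.card + 1 → U r π ρ (t.erase b) = U r π ρ t := by
    intro t b hb ht
    apply Submodule.eq_of_le_of_finrank_le (U_mono (Finset.erase_subset b t))
    have h4 : (insert a s).card = t.card := by rw [Finset.card_insert_of_notMem ha, ht]
    have h5 : s.card = (t.erase b).card := by rw [Finset.card_erase_of_mem hb, ht]; rfl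
    exact ((finrank_U h.surj h4.symm (by omega)).trans hcon).trans (finrank_U h.surj h5 (by omega))
  have e2 : ∀ (j : ℕ) (t t' : Finset (Fin m)), t.card = s.card → t'.card = s.card → (t \ t').card ≤ j →
      U r π ρ t = U r π ρ t' := by
    intro j
    induction j with
    | zero =>
      intro t t' ht ht' hj
      have h4 : t ⊆ t' := by
        rw [← Finset.sdiff_eq_empty_iff_subset, ← Finset.card_eq_zero]; omega
      rw [Finset.eq_of_subset_of_card_le h4 (by omega)]
    | succ j ih =>
      intro t t' ht ht' hj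
      by_cases h4 : t ⊆ t'
      · rw [Finset.eq_of_subset_of_card_le h4 (by omega)]
      obtain ⟨c, hct, hct'⟩ := Finset.not_subset.1 h4
      have h5 : ¬ t' ⊆ t := by
        intro h5
        have h6 := Finset.eq_of_subset_of_card_le h5 (by omega)
        exact h4 h6.ge
      obtain ⟨b, hbt', hbt⟩ := Finset.not_subset.1 h5
      have h6 : (insert b t).card = s.card + 1 := by rw [Finset.card_insert_of_notMem hbt, ht]
      have h7 := e1 (insert b t) b (Finset.mem_insert_self b t) h6
      have h8 := e1 (insert b t) c (Finset.mem_insert_of_mem hct) h6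
      rw [Finset.erase_insert hbt] at h7
      rw [h7, ← h8]
      apply ih
      · rw [Finset.card_erase_of_mem (Finset.mem_insert_of_mem hct), h6]; rfl
      · exact ht'
      · have h9 : (insert b t).erase c \ t' ⊆ (t \ t').erase c := by
          intro i hi
          rw [Finset.mem_sdiff, Finset.mem_erase, Finset.mem_insert] at hi
          rw [Finset.mem_erase, Finset.mem_sdiff]
          obtain ⟨⟨hic, hib | hit⟩, hit'⟩ := hi
          · exact absurd (hib ▸ hbt') hit'
          · exact ⟨hic, hit, hit'⟩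
        have h10 := Finset.card_le_card h9
        rw [Finset.card_erase_of_mem (Finset.mem_sdiff.2 ⟨hct, hct'⟩)] at h10
        omega
  have hinv : ∀ g, ∀ v ∈ U r π ρ s, ρ g v ∈ U r π ρ s := by
    intro g v hv
    have h4 : ρ g v ∈ U r π ρ (s.map (pm π g).toEmbedding) := by
      refine map_U (fun i hi => ?_) hv
      rw [Finset.mem_map]
      exact ⟨i, hi, rfl⟩
    rwa [e2 _ _ s (by rw [Finset.card_map]) rfl le_rfl] at h4
  rcases h.irr _ hinv with h4 | h4
  · obtain ⟨s', hs', hs'r⟩ := Finset.exists_subset_card_eq h1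
    obtain ⟨y, hy, hys⟩ := exists_cyc hs'r hr2
    obtain ⟨x, hx, hLC⟩ := exists_lift h.cen h.surj hN hy
    have h5 : cs ρ x ≤ U r π ρ s := cs_le_U hLC (by rw [hx]; exact hys.trans hs')
    rw [h4, le_bot_iff] at h5
    have h6 := dim_cs hN h hLC
    rw [h5, finrank_bot] at h6
    omega
  · obtain ⟨s', hs', hs'r⟩ := Finset.exists_subset_card_eq (s := sᶜ) (n := r) (by
      rw [Finset.card_compl, Fintype.card_fin]; omega)
    obtain ⟨y, hy, hys⟩ := exists_cyc hs'r hr2
    obtain ⟨x, hx, hLC⟩ := exists_lift h.cen h.surj hN hy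
    apply h.ne_one hLC.ne
    ext v
    rw [Module.End.one_apply]
    refine fix_U h.cen h.surj hN h.rk hd hLC (s := s) ?_ (h4 ▸ Submodule.mem_top)
    rw [hx]
    exact Finset.disjoint_of_subset_left (hys.trans hs') disjoint_compl_left

theorem lower (hN : Num r m N) (h : Core r π ρ) (hd : finrank k V ≤ N) :
    ∀ (j : ℕ) (s : Finset (Fin m)), s.card = r + j → s.card + r ≤ m → r - 1 + j ≤ finrank k (U r π ρ s) := by
  classical
  intro j
  induction j with
  | zero =>
    intro s hs hm
    obtain ⟨y, hy, hys⟩ := exists_cyc (s := s) (r := r) (by omega) hN.two_le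
    obtain ⟨x, hx, hLC⟩ := exists_lift h.cen h.surj hN hy
    have h5 : cs ρ x ≤ U r π ρ s := cs_le_U hLC (by rw [hx]; exact hys)
    exact (dim_cs hN h hLC).trans (Submodule.finrank_mono h5)
  | succ j ih =>
    intro s hs hm
    obtain ⟨a, ha⟩ := Finset.card_pos.1 (show 0 < s.card by omega)
    have h3 : (s.erase a).card = r + j := by rw [Finset.card_erase_of_mem ha]; omega
    have h4 := ih (s.erase a) h3 (by omega)
    have h5 := strict hN h hd (Finset.notMem_erase a s) (by omega) (by omega)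
    rw [Finset.insert_erase ha] at h5
    omega

/-- **The bound.** -/
theorem of_core (hN : Num r m N) (h : Core r π ρ) (hd : finrank k V ≤ N) :
    m ≤ finrank k V + 2 := by
  classical
  have hm := hN.two_mul
  obtain ⟨s', -, hs'r⟩ := Finset.exists_subset_card_eq (s := (Finset.univ : Finset (Fin m))) (n := r) (by
      rw [Finset.card_univ, Fintype.card_fin]; omega)
  obtain ⟨y, hy, hys⟩ := exists_cyc hs'r hN.two_le
  obtain ⟨x, hx, hLC⟩ := exists_lift h.cen h.surj hN hy
  have h1 : (s'ᶜ).card = r + (m - 2 * r) := by rw [Finset.card_compl, Fintype.card_fin]; omega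
  have h3 := lower hN h hd (m - 2 * r) s'ᶜ h1 (by omega)
  have h4 : U r π ρ s'ᶜ ≤ LinearMap.ker (ρ x - 1) := by
    intro v hv
    rw [LinearMap.mem_ker, LinearMap.sub_apply, Module.End.one_apply, sub_eq_zero]
    refine fix_U h.cen h.surj hN h.rk hd hLC (s := s'ᶜ) ?_ hv
    rw [hx]
    exact Finset.disjoint_of_subset_left hys disjoint_compl_right
  have h5 := Submodule.finrank_mono h4
  have h6 := LinearMap.finrank_range_add_finrank_ker (ρ x - 1)
  have h7 := dim_cs hN h hLC
  unfold cs at h7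
  have h8 := hN.two_le
  omega

/-- `m ≥ 12` in characteristic different from `5` -/
theorem ls_five {m : ℕ} (h : 12 ≤ m) : LS.{0, v, w} 5 (min 16 (m - 2)) (alternatingGroup (Fin m)) := by
  refine LS.of_core fun P _ π k _ _ V _ _ _ ρ hC => ?_
  by_cases hd : finrank k V ≤ 15
  · have := of_core (Or.inl ⟨rfl, h, le_rfl⟩ : Num 5 m 15) hC hd
    omega
  · omega

/-- `m ≥ 10` in characteristic different from `5` -/
theorem ls_five_small {m : ℕ} (h : 10 ≤ m) : LS.{0, v, w} 5 8 (alternatingGroup (Fin m)) := by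
  refine LS.of_core fun P _ π k _ _ V _ _ _ ρ hC => ?_
  by_cases hd : finrank k V ≤ 7
  · have := of_core (Or.inr (Or.inl ⟨rfl, h, le_rfl⟩) : Num 5 m 7) hC hd
    omega
  · omega

/-- `m ≥ 14` in characteristic different from `7` -/
theorem ls_seven {m : ℕ} (h : 14 ≤ m) : LS.{0, v, w} 7 (min 18 (m - 2)) (alternatingGroup (Fin m)) := by
  refine LS.of_core fun P _ π k _ _ V _ _ _ ρ hC => ?_
  by_cases hd : finrank k V ≤ 17
  · have := of_core (Or.inr (Or.inr ⟨rfl, h, le_rfl⟩) : Num 7 m 17) hC hd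
    omega
  · omega

/-- **`m ≥ 14`, all characteristics.** -/
theorem ls_one {m : ℕ} (h : 14 ≤ m) : LS.{0, v, w} 1 (min 16 (m - 2)) (alternatingGroup (Fin m)) := by
  intro P _ _ π hπ hc hP k _ _ n ρ hρ
  by_cases h5 : ((5 : ℕ) : k) = 0
  · have h7 : ((7 : ℕ) : k) ≠ 0 := by
      intro h7
      have e5 : (5 : k) = 0 := by exact_mod_cast h5
      have e7 : (7 : k) = 0 := by exact_mod_cast h7
      have h1 : (1 : k) = 3 * 5 - 2 * 7 := by norm_num
      rw [e5, e7] at h1
      norm_num at h1
    have := ls_seven h P π hπ hc hP k h7 n ρ hρ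
    omega
  · exact ls_five (by omega) P π hπ hc hP k h5 n ρ hρ

end Cfsg.Agent.H936.AltBig
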