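import Cfsg.Agent.H95.LSx.Tits
import Cfsg.Agent.H64.ChevField
import Cfsg.Agent.S1054

/-!
# `F₄(2)` in characteristic `≠ 2`: degree at least `16`

The same as `H95.LSx.F42.ls_f4_two` (helper95), with light imports.
-/

set_option autoImplicit false

universe u v w u'

namespace Cfsg.Agent.H936.F42

open Subgroup Matrix Cfsg.Agent.H203.LS Cfsg.Lie Cfsg.Agent.H95.LSx
open scoped commutatorElement

theorem perfect_of_simple {T : Type u} [Group T] [IsSimpleGroup T] (hT : ¬ IsMulCommutative T) :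
    commutator T = ⊤ := by
  rcases IsSimpleGroup.eq_bot_or_eq_top_of_normal (commutator T) inferInstance with h | h
  · exfalso
    apply hT
    refine ⟨⟨fun a b => ?_⟩⟩
    have h1 : ⁅a, b⁆ ∈ commutator T := commutator_mem_commutator (mem_top _) (mem_top _)
    rw [h, mem_bot, commutatorElement_eq_one_iff_mul_comm] at h1
    exact h1
  · exact h

theorem twF4_le (K : Type u) [Field K] (e : ℕ) : twistedF4 K e ≤ chevF4.group K := by
  have hD : Cfsg.Agent.ChevalleyStructure.Elts.InList chevF4 := by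
    unfold Cfsg.Agent.ChevalleyStructure.Elts.InList; simp
  unfold twistedF4 ChevalleyDatum.genSubgroup
  rw [Subgroup.closure_le]
  rintro g ⟨l, -, hg⟩
  rw [(Cfsg.Agent.ChevalleyStructure.Elts.eq_wordG_iff hD g l).2 hg]
  exact Cfsg.Agent.ChevalleyStructure.Elts.wordG_mem_group hD l

theorem perfect_tits : commutator Cfsg.Lie.TitsGroup = ⊤ := by
  have := Tits.simple_tits
  exact perfect_of_simple Cfsg.Agent.S1074.result.2.2.1

theorem ls_of_datum (D : ChevalleyDatum) (hD : D ∈ [chevD4, chevF4, chevE6, chevE7, chevE8]) {r d : ℕ}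
    {X : Subgroup (GL D.Idx (ZMod 2))} (hX : X ≤ D.group (ZMod 2)) {Y : Subgroup X} [Finite Y] [IsSimpleGroup Y]
    (hY : commutator Y = ⊤) (h : LS.{0, v, w} r d Y) : LS.{0, v, w} r d ↥(D.group (ZMod 2)) := by
  have := (Cfsg.Agent.S1054.result (F := ZMod 2) D hD).1
  refine LS.of_sub hY ((Subgroup.inclusion hX).comp Y.subtype) ?_ h
  exact (Subgroup.inclusion_injective hX).comp (Subgroup.subtype_injective Y)

theorem ls_f4_zmod : LS.{0, v, w} 2 16 ↥(chevF4.group (ZMod 2)) := by
  have := Tits.simple_tits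
  have : Finite ↥(Cfsg.Lie.twistedF4 (ZMod 2) 1) := Subtype.finite
  exact ls_of_datum chevF4 (by simp) (twF4_le (ZMod 2) 1) perfect_tits Tits.ls

/-- **`LS` for `F₄(2)`**: `16`. -/
theorem ls_f4_two {K : Type u} [Field K] [Fintype K] (hK : Fintype.card K = 2) :
    LS.{u, v, w} 2 16 ↥(chevF4.group K) :=
  LS.congr (Cfsg.Agent.H64.ChevField.groupCongr (FiniteField.ringEquivOfCardEq (by rw [ZMod.card, hK])) chevF4)
    ls_f4_zmod

end Cfsg.Agent.H936.F42
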