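import Cfsg.Agent.H912.ExcList
import Cfsg.Agent.H912.BdChev
import Cfsg.Agent.H936.AltBig2
import Cfsg.Agent.H936.F42Light
import Cfsg.Agent.H95.LSx.O73
import Cfsg.Agent.H921.SporTits
import Cfsg.Agent.H915.LD
import Cfsg.Agent.S0256

/-!
# The simple groups occurring in degree at most 12 in cross characteristic

`list₀`: `P ≤ GL_n(F)` a core (`H915.LD.Core`), `n ≤ 12`, `char F = p`, `T = P / scalars` a known simple group, not of
Lie type in characteristic `p`: then `Cand p n T` or `T` is sporadic, where `Cand` is one of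

* `AltC p n T`: `A_m`, `5 ≤ m ≤ 14`, and (`p ≠ 5`, `12 ≤ m` ⟹ `m ≤ n + 2`), (`p ≠ 5`, `10 ≤ m` ⟹ `8 ≤ n`),
  (`m = 14` ⟹ `n = 12`);
* `LieC p n T`: `L₂(q)`, `q = 7, 8, 11, 13, 17, 19, 23, 25`, `L₃(3)`, `U₃(3)`, `U₃(4)`, `U₄(2)`, `U₅(2)`, `PSp₄(5)`,
  `Sp₆(2)`, `Ω₈⁺(2)`, with lower bounds for `n`;
* `MultC p n T`: groups with exceptional multiplier: `p ≠ 2`, `2 ∣ n`: `L₂(7)`, `L₃(4)`, `U₄(2)`, `U₆(2)`, `Sp₆(2)`,
  `Ω₈⁺(2)`, `G₂(4)`; `p ≠ 3`, `3 ∣ n`: `U₄(3)`;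
* `ExcC p n T`: `G₂(3)`, `Sz(8)`.

Excluded here for every `p` and every kernel: `A_m`, `m ≥ 15`; `Ω₇(3)`, `F₄(2)`, `²E₆(q)`, Tits.
-/

set_option autoImplicit false

universe u v w

namespace Cfsg.Agent.H936.List12

open Cfsg Cfsg.Geo Cfsg.Agent.H912.Bd Cfsg.Agent.H912.Five Cfsg.Agent.H915.LD

/-- alternating candidates -/
def AltC (p n : ℕ) (T : Type v) [Group T] : Prop :=
  ∃ m, 5 ≤ m ∧ m ≤ 14 ∧ (p ≠ 5 → 12 ≤ m → m ≤ n + 2) ∧ (p ≠ 5 → 10 ≤ m → 8 ≤ n) ∧ (m = 14 → 12 ≤ n) ∧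
    Nonempty (T ≃* alternatingGroup (Fin m))

/-- classical candidates in characteristic `≠ p` -/
def LieC (p n : ℕ) (T : Type v) [Group T] : Prop :=
  (∃ q ∈ ({7, 8, 11, 13, 17, 19, 23, 25} : Finset ℕ), ¬ p ∣ q ∧ (q - 1) / Nat.gcd 2 (q - 1) ≤ n ∧ IsL 2 q T) ∨
  (p ≠ 3 ∧ 8 ≤ n ∧ IsL 3 3 T) ∨ (p ≠ 3 ∧ 6 ≤ n ∧ IsU 3 3 T) ∨ (p ≠ 2 ∧ 12 ≤ n ∧ IsU 3 4 T) ∨
  (p ≠ 2 ∧ p ≠ 3 ∧ 4 ≤ n ∧ IsU 4 2 T) ∨ (p ≠ 2 ∧ 8 ≤ n ∧ IsU 5 2 T) ∨ (p ≠ 5 ∧ 12 ≤ n ∧ IsS 2 5 T) ∨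
  (p ≠ 2 ∧ 7 ≤ n ∧ IsS 3 2 T) ∨ (p ≠ 2 ∧ 7 ≤ n ∧ IsOP 4 2 T)

/-- candidates with an exceptional multiplier -/
def MultC (p n : ℕ) (T : Type v) [Group T] : Prop :=
  (p ≠ 2 ∧ 2 ∣ n ∧ (IsL 2 7 T ∨ IsL 3 4 T ∨ (p ≠ 3 ∧ IsU 4 2 T) ∨ IsU 6 2 T ∨ IsS 3 2 T ∨ IsOP 4 2 T ∨
    H912.Bd.IsG2 4 T)) ∨
  (p ≠ 3 ∧ 3 ∣ n ∧ IsU 4 3 T)

/-- candidates of exceptional type -/
def ExcC (p n : ℕ) (T : Type v) [Group T] : Prop :=
  (p ≠ 3 ∧ 6 ≤ n ∧ H912.Bd.IsG2 3 T) ∨ (p ≠ 2 ∧ 7 ≤ n ∧ IsSz8 T)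

/-- all candidates, up to the sporadic groups -/
def Cand (p n : ℕ) (T : Type v) [Group T] : Prop := AltC p n T ∨ LieC p n T ∨ MultC p n T ∨ ExcC p n T

/-! ### The characteristic -/

theorem charP_of_dvd {p : ℕ} (hp : p.Prime) {K : Type w} [Field K] [Fintype K] (h : p ∣ Fintype.card K) : CharP K p := by
  obtain ⟨s, hs⟩ := CharP.exists K
  have hsp : s.Prime := CharP.char_is_prime K s
  have := Fact.mk hsp
  obtain ⟨k, -, hk⟩ := FiniteField.card K s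
  rw [hk] at h
  rw [(Nat.prime_dvd_prime_iff_eq hp hsp).1 (hp.dvd_of_dvd_pow h)]
  exact hs

theorem lie_of_isL {p m q : ℕ} (hp : p.Prime) (hq : p ∣ q) (hm : 2 ≤ m) (hm2 : m = 2 → 4 ≤ q) {T : Type v} [Group T]
    (h : IsL m q T) : IsLieTypeChar p T := by
  obtain ⟨K, iF, iT, hK, he⟩ := h
  exact Or.inl ⟨K, iF, iT, charP_of_dvd hp (by rwa [hK]), m, hm, fun h2 => by rw [hK]; exact hm2 h2, he⟩

theorem lie_of_isS {p m q : ℕ} (hp : p.Prime) (hq : p ∣ q) (hm : 2 ≤ m) (hm2 : m = 2 → 3 ≤ q) {T : Type v} [Group T]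
    (h : IsS m q T) : IsLieTypeChar p T := by
  obtain ⟨K, iF, iT, hK, he⟩ := h
  exact Or.inr (Or.inl ⟨K, iF, iT, charP_of_dvd hp (by rwa [hK]), m, hm, fun h2 => by rw [hK]; exact hm2 h2, he⟩)

theorem lie_of_isU {p m q : ℕ} (hp : p.Prime) (hq : p ∣ q) (hm : 3 ≤ m) (hm2 : ¬ (m = 3 ∧ q = 2)) {T : Type v} [Group T]
    (h : IsU m q T) : IsLieTypeChar p T := by
  obtain ⟨K, iF, iT, hK, he⟩ := h
  exact Or.inr (Or.inr (Or.inl ⟨K, iF, iT, charP_of_dvd hp (by rw [hK]; exact hq.trans (dvd_pow_self q two_ne_zero)),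
    m, q, hK, hm, hm2, he⟩))

theorem lie_of_isOP {p m q : ℕ} (hp : p.Prime) (hq : p ∣ q) (hm : 4 ≤ m) {T : Type v} [Group T]
    (h : IsOP m q T) : IsLieTypeChar p T := by
  obtain ⟨K, iF, iT, hK, he⟩ := h
  exact Or.inr (Or.inr (Or.inr (Or.inr (Or.inl ⟨K, iF, iT, charP_of_dvd hp (by rwa [hK]), m, hm, he⟩))))

theorem lie_of_isOO {p m q : ℕ} (hp : p.Prime) (hq : p ∣ q) (hm : 3 ≤ m) (ho : Odd q) {T : Type v} [Group T]
    (h : IsOO m q T) : IsLieTypeChar p T := by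
  obtain ⟨K, iF, iT, hK, he⟩ := h
  exact Or.inr (Or.inr (Or.inr (Or.inl ⟨K, iF, iT, charP_of_dvd hp (by rwa [hK]), m, hm, by rwa [hK], he⟩)))

theorem lie_of_isG2 {p q : ℕ} (hp : p.Prime) (hq : p ∣ q) (hm : 3 ≤ q) {T : Type v} [Group T]
    (h : H912.Bd.IsG2 q T) : IsLieTypeChar p T := by
  obtain ⟨K, iF, iT, hK, he⟩ := h
  exact Or.inr (Or.inr (Or.inr (Or.inr (Or.inr (Or.inr (Or.inl ⟨K, iF, iT, charP_of_dvd hp (by rwa [hK]),
    Or.inl ⟨by rwa [hK], he⟩⟩))))))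

theorem exists_field {p k : ℕ} (hp : p.Prime) (hk : k ≠ 0) :
    ∃ (L : Type) (_ : Field L) (_ : Fintype L), Fintype.card L = p ^ k := by
  have := Fact.mk hp
  have : Fintype (GaloisField p k) := Fintype.ofFinite _
  refine ⟨GaloisField p k, inferInstance, this, ?_⟩
  rw [← Nat.card_eq_fintype_card, GaloisField.card p k hk]

theorem l27_of_l32 {T : Type v} [Group T] (h : IsL 3 2 T) : IsL 2 7 T := by
  obtain ⟨K, iF, iT, hK, ⟨e⟩⟩ := h
  have : Fact (Nat.Prime 7) := ⟨by norm_num⟩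
  obtain ⟨e'⟩ := S0255.result (F := ZMod 7) (K := K) (by simp) hK
  exact ⟨ZMod 7, inferInstance, inferInstance, by simp, ⟨e.trans e'.symm⟩⟩

theorem l32_of_l27 {T : Type v} [Group T] (h : IsL 2 7 T) : IsL 3 2 T := by
  obtain ⟨K, iF, iT, hK, ⟨e⟩⟩ := h
  obtain ⟨e'⟩ := S0255.result (F := K) (K := ZMod 2) hK (by simp)
  exact ⟨ZMod 2, inferInstance, inferInstance, by simp, ⟨e.trans e'⟩⟩

theorem u42_of_s23 {T : Type v} [Group T] (h : IsS 2 3 T) : IsU 4 2 T := by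
  obtain ⟨K, iF, iT, hK, ⟨e⟩⟩ := h
  obtain ⟨L, iL, iLf, hL⟩ := exists_field Nat.prime_two (k := 2) (by norm_num)
  obtain ⟨e'⟩ := S0822.result (F := L) (K := K) (by rw [hL]; norm_num) hK
  exact ⟨L, iL, iLf, hL, ⟨e.trans e'.symm⟩⟩

theorem s23_of_u42 {T : Type v} [Group T] (h : IsU 4 2 T) : IsS 2 3 T := by
  obtain ⟨K, iF, iT, hK, ⟨e⟩⟩ := h
  obtain ⟨e'⟩ := S0822.result (F := K) (K := ZMod 3) (by rw [hK]; norm_num) (by simp)
  exact ⟨ZMod 3, inferInstance, inferInstance, by simp, ⟨e.trans e'⟩⟩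

theorem alt5_of_l24 {T : Type v} [Group T] (h : IsL 2 4 T) : Nonempty (T ≃* alternatingGroup (Fin 5)) := by
  obtain ⟨K, iF, iT, hK, ⟨e⟩⟩ := h
  obtain ⟨e'⟩ := S0252.result hK
  exact ⟨e.trans e'⟩

theorem alt5_of_l25 {T : Type v} [Group T] (h : IsL 2 5 T) : Nonempty (T ≃* alternatingGroup (Fin 5)) := by
  obtain ⟨K, iF, iT, hK, ⟨e⟩⟩ := h
  obtain ⟨e'⟩ := S0253.result hK
  exact ⟨e.trans e'⟩

theorem alt6_of_l29 {T : Type v} [Group T] (h : IsL 2 9 T) : Nonempty (T ≃* alternatingGroup (Fin 6)) := by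
  obtain ⟨K, iF, iT, hK, ⟨e⟩⟩ := h
  obtain ⟨e'⟩ := S0254.result hK
  exact ⟨e.trans e'⟩

theorem alt8_of_l42 {T : Type v} [Group T] (h : IsL 4 2 T) : Nonempty (T ≃* alternatingGroup (Fin 8)) := by
  obtain ⟨K, iF, iT, hK, ⟨e⟩⟩ := h
  obtain ⟨e'⟩ := S0256.result hK
  exact ⟨e.trans e'⟩

theorem AltC.of_small {p n m : ℕ} {T : Type v} [Group T] (h5 : 5 ≤ m) (h9 : m ≤ 9)
    (h : Nonempty (T ≃* alternatingGroup (Fin m))) : AltC p n T :=
  ⟨m, h5, by omega, fun _ _ => by omega, fun _ _ => by omega, fun _ => by omega, h⟩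

/-! ### Classical groups in cross characteristic -/

theorem lieC_of_clSmall {p n : ℕ} (hp : p.Prime) {T : Type v} [Group T] (hL : ¬ IsLieTypeChar p T) (hn : n ≤ 12)
    (h : ClSmall n T) : AltC p n T ∨ LieC p n T := by
  have h7 : ∀ q, IsL 2 q T → 4 ≤ q → ¬ p ∣ q := fun q hq h4 hd => hL (lie_of_isL hp hd le_rfl (fun _ => h4) hq)
  have hp2 : ∀ {q : ℕ}, ¬ p ∣ q → 2 ∣ q → p ≠ 2 := by
    rintro q hq h2 rfl
    exact hq h2
  unfold LieC
  rcases h with ⟨q, hq4, hq, h⟩ | ⟨h3, h⟩ | ⟨h3, h⟩ | ⟨h3, h⟩ | ⟨h3, h⟩ | ⟨h3, h⟩ | ⟨h3, h⟩ | ⟨h3, h⟩ | ⟨h3, h⟩ |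
    ⟨h3, h⟩ | ⟨h3, h⟩ | ⟨h3, h⟩
  · have hq25 : q ≤ 25 := by
      by_contra hcon
      have h1 : Nat.gcd 2 (q - 1) ≤ 2 := Nat.le_of_dvd (by norm_num) (Nat.gcd_dvd_left _ _)
      have h0 : 0 < Nat.gcd 2 (q - 1) := Nat.gcd_pos_of_pos_left _ (by norm_num)
      have h2 : (q - 1) / 2 ≤ (q - 1) / Nat.gcd 2 (q - 1) := Nat.div_le_div_left h1 h0
      have h4 : (q - 1) / 2 ≤ 12 := (h2.trans hq).trans hn
      have h5 : q ≤ 26 := by omega
      have h6 : q = 26 := by omega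
      subst h6
      have h8 : (26 - 1) / Nat.gcd 2 (26 - 1) ≤ 12 := hq.trans hn
      revert h8
      decide
    have hnp := h7 q h hq4
    have hq' : (q - 1) / Nat.gcd 2 (q - 1) ≤ 12 := hq.trans hn
    have hpp : IsPrimePow q := by
      obtain ⟨K, iF, iT, hK, -⟩ := h
      rw [← hK]
      exact FiniteField.isPrimePow_card K
    have key : q ∈ ({7, 8, 11, 13, 17, 19, 23, 25} : Finset ℕ) ∨ q = 4 ∨ q = 5 ∨ q = 9 := by
      rw [isPrimePow_nat_iff_bounded] at hpp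
      revert hpp hq'
      interval_cases q <;> decide
    rcases key with key | rfl | rfl | rfl
    · exact Or.inr (Or.inl ⟨q, key, hnp, hq, h⟩)
    · exact Or.inl (AltC.of_small le_rfl (by norm_num) (alt5_of_l24 h))
    · exact Or.inl (AltC.of_small le_rfl (by norm_num) (alt5_of_l25 h))
    · exact Or.inl (AltC.of_small (by norm_num) (by norm_num) (alt6_of_l29 h))
  · have h27 := l27_of_l32 h
    exact Or.inr (Or.inl ⟨7, by decide, h7 7 h27 (by norm_num), h3, h27⟩)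
  · refine Or.inr (Or.inr (Or.inl ⟨?_, h3, h⟩))
    rintro rfl
    exact hL (lie_of_isL hp (dvd_refl 3) (by norm_num) (by norm_num) h)
  · exact Or.inl (AltC.of_small (by norm_num) (by norm_num) (alt8_of_l42 h))
  · refine Or.inr (Or.inr (Or.inr (Or.inl ⟨?_, h3, h⟩)))
    rintro rfl
    exact hL (lie_of_isU hp (dvd_refl 3) (by norm_num) (by norm_num) h)
  · refine Or.inr (Or.inr (Or.inr (Or.inr (Or.inl ⟨?_, h3, h⟩))))
    rintro rfl
    exact hL (lie_of_isU hp (by norm_num) (by norm_num) (by norm_num) h)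
  · refine Or.inr (Or.inr (Or.inr (Or.inr (Or.inr (Or.inl ⟨?_, ?_, h3, h⟩)))))
    · rintro rfl
      exact hL (lie_of_isU hp (by norm_num) (by norm_num) (by norm_num) h)
    · rintro rfl
      exact hL (lie_of_isS hp (dvd_refl 3) (by norm_num) (by norm_num) (s23_of_u42 h))
  · refine Or.inr (Or.inr (Or.inr (Or.inr (Or.inr (Or.inr (Or.inl ⟨?_, h3, h⟩))))))
    rintro rfl
    exact hL (lie_of_isU hp (by norm_num) (by norm_num) (by norm_num) h)
  · refine Or.inr (Or.inr (Or.inr (Or.inr (Or.inr (Or.inl ⟨?_, ?_, h3, u42_of_s23 h⟩)))))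
    · rintro rfl
      exact hL (lie_of_isU hp (by norm_num) (by norm_num) (by norm_num) (u42_of_s23 h))
    · rintro rfl
      exact hL (lie_of_isS hp (dvd_refl 3) (by norm_num) (by norm_num) h)
  · refine Or.inr (Or.inr (Or.inr (Or.inr (Or.inr (Or.inr (Or.inr (Or.inl ⟨?_, h3, h⟩)))))))
    rintro rfl
    exact hL (lie_of_isS hp (dvd_refl 5) (by norm_num) (by norm_num) h)
  · refine Or.inr (Or.inr (Or.inr (Or.inr (Or.inr (Or.inr (Or.inr (Or.inr (Or.inl ⟨?_, h3, h⟩))))))))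
    rintro rfl
    exact hL (lie_of_isS hp (dvd_refl 2) (by norm_num) (by norm_num) h)
  · refine Or.inr (Or.inr (Or.inr (Or.inr (Or.inr (Or.inr (Or.inr (Or.inr (Or.inr ⟨?_, h3, h⟩))))))))
    rintro rfl
    exact hL (lie_of_isOP hp (dvd_refl 2) (by norm_num) h)

/-! ### Alternating groups -/

theorem altC_of_alt {F : Type u} [Field F] [Finite F] {p n : ℕ} [CharP F p] [hp : Fact p.Prime] (hn : n ≤ 12)
    {P : Subgroup (Matrix.GeneralLinearGroup (Fin n) F)} (hC : Core P) (h : IsAlternating (Soc P)) :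
    AltC p n (Soc P) := by
  obtain ⟨m, hm, ⟨e⟩⟩ := h
  have hs : IsSimpleGroup (Soc P) := hC.simple
  have key : ∀ {r d : ℕ}, ((r : ℕ) : F) ≠ 0 → H203.LS.LS.{0, u, u} r d (alternatingGroup (Fin m)) → d ≤ n := by
    intro r d hr hls
    exact le_of_ls (H203.LS.LS.congr e.symm hls) hr P hC.perfect (MulEquiv.refl _)
  have h1 : ((1 : ℕ) : F) ≠ 0 := by rw [Nat.cast_one]; exact one_ne_zero
  have h5 : p ≠ 5 → ((5 : ℕ) : F) ≠ 0 := by
    intro hp5 h0
    exact hp5 ((Nat.prime_dvd_prime_iff_eq hp.out (by norm_num)).1 ((CharP.cast_eq_zero_iff F p 5).1 h0))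
  have h14 : m ≤ 14 := by
    by_contra hcon
    have := key h1 (AltBig.ls_one (m := m) (by omega))
    omega
  refine ⟨m, hm, h14, fun hp5 h12 => ?_, fun hp5 h10 => ?_, fun hm14 => ?_, ⟨e⟩⟩
  · have := key (h5 hp5) (AltBig.ls_five h12)
    omega
  · exact key (h5 hp5) (AltBig.ls_five_small h10)
  · have := key h1 (AltBig.ls_one (m := m) (by omega))
    omega

/-! ### Groups of Lie type in another characteristic -/

section lie

variable {F : Type u} [Field F] [Finite F] {p n : ℕ} [CharP F p] [hp : Fact p.Prime]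

theorem cast_ne {r : ℕ} (hr : r.Prime) (hrp : r ≠ p) : (r : F) ≠ 0 := by
  intro h0
  exact hrp ((Nat.prime_dvd_prime_iff_eq hp.out hr).1 ((CharP.cast_eq_zero_iff F p r).1 h0)).symm

theorem le_of_ls' {P : Subgroup (Matrix.GeneralLinearGroup (Fin n) F)} (hC : Core P) {r d : ℕ} (hr : (r : F) ≠ 0)
    {T : Type v} [Group T] (h : H203.LS.LS.{v, u, u} r d T) (e : Nonempty (Soc P ≃* T)) : d ≤ n := by
  have hs : IsSimpleGroup (Soc P) := hC.simple
  obtain ⟨e⟩ := e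
  have : Nontrivial T := e.symm.toEquiv.nontrivial
  exact le_of_ls h hr P hC.perfect e

theorem le_of_bd {P : Subgroup (Matrix.GeneralLinearGroup (Fin n) F)} (hC : Core P) {r d : ℕ}
    {T : Type v} [Group T] (h : Bd F r d T) (hN : NoR.{u} r T) (e : Nonempty (Soc P ≃* T)) : d ≤ n := by
  obtain ⟨e⟩ := e
  exact h n (PR.of_noR hN P hC.perfect e)

theorem le_of_orb {P : Subgroup (Matrix.GeneralLinearGroup (Fin n) F)} (hC : Core P) {r d : ℕ} (hr : r.Prime)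
    (hrF : (r : F) ≠ 0) {T : Type v} [Group T] (h : H921.Spor.Orb r d T) (hN : NoR.{u} r T)
    (e : Nonempty (Soc P ≃* T)) : d ≤ n := le_of_bd hC (h.bd hr hrF) hN e

theorem cand_of_lie (hn : n ≤ 12) {P : Subgroup (Matrix.GeneralLinearGroup (Fin n) F)} (hC : Core P)
    (hL : ¬ IsLieTypeChar p (Soc P)) {r : ℕ} (hr : r.Prime) (h : IsLieTypeChar r (Soc P)) : Cand p n (Soc P) := by
  have hs : IsSimpleGroup (Soc P) := hC.simple
  have hrp : r ≠ p := by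
    rintro rfl
    exact hL h
  have hrF : (r : F) ≠ 0 := cast_ne hr hrp
  have hPR : ¬ r ∣ n → PR F n r (Soc P) := fun h1 => PR.of_perfect P hC.perfect hr h1 (MulEquiv.refl _)
  rcases classical_or_exc h with hcl | hexc
  · have hPR' : PR F n r (Soc P) → Cand p n (Soc P) := by
      intro h1
      rcases lieC_of_clSmall hp.out hL hn (cross_classical hr hrF h1 hn hcl) with h2 | h2
      · exact Or.inl h2
      · exact Or.inr (Or.inl h2)
    rcases noR_of_lieTypeChar.{u} hr h with hm | hm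
    · by_cases hrn : r ∣ n
      · rcases hm with ⟨rfl, hm⟩ | ⟨rfl, hm⟩
        · have hp2 : p ≠ 2 := hrp.symm
          rcases hm with hm | hm | hm | hm | hm | hm | hm | hm | hm | hm | hm | hm
          · exact Or.inl (AltC.of_small le_rfl (by norm_num) (alt5_of_l24 hm))
          · exact Or.inr (Or.inr (Or.inl (Or.inl ⟨hp2, hrn, Or.inl (l27_of_l32 hm)⟩)))
          · exact Or.inr (Or.inr (Or.inl (Or.inl ⟨hp2, hrn, Or.inr (Or.inl hm)⟩)))
          · exact Or.inl (AltC.of_small (by norm_num) (by norm_num) (alt8_of_l42 hm))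
          · refine Or.inr (Or.inr (Or.inl (Or.inl ⟨hp2, hrn, Or.inr (Or.inr (Or.inl ⟨?_, hm⟩))⟩)))
            rintro rfl
            exact hL (lie_of_isS hp.out (dvd_refl 3) (by norm_num) (by norm_num) (s23_of_u42 hm))
          · exact Or.inr (Or.inr (Or.inl (Or.inl ⟨hp2, hrn, Or.inr (Or.inr (Or.inr (Or.inl hm)))⟩)))
          · exact Or.inr (Or.inr (Or.inl (Or.inl ⟨hp2, hrn, Or.inr (Or.inr (Or.inr (Or.inr (Or.inl hm))))⟩)))
          · exact Or.inr (Or.inr (Or.inl (Or.inl ⟨hp2, hrn, Or.inr (Or.inr (Or.inr (Or.inr (Or.inr (Or.inl hm)))))⟩)))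
          · exact Or.inr (Or.inr (Or.inl (Or.inl ⟨hp2, hrn, Or.inr (Or.inr (Or.inr (Or.inr (Or.inr (Or.inr hm)))))⟩)))
          · exfalso
            obtain ⟨K, iK, iKf, hK, e⟩ := hm
            have := le_of_ls' hC hrF (F42.ls_f4_two hK) e
            omega
          · exfalso
            obtain ⟨K, iK, iKf, hK, e⟩ := hm
            have hch : CharP K 2 := charP_of_dvd Nat.prime_two (by rw [hK]; norm_num)
            have := le_of_ls' hC hrF (H203.LS.TwE6.ls Nat.prime_two.isPrimePow hK) e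
            omega
          · refine Or.inr (Or.inr (Or.inr (Or.inr ⟨hp2, ?_, hm⟩)))
            obtain ⟨K, iK, iKf, hK, e⟩ := hm
            have := le_of_ls' hC hrF (H203.LS.LS.sz (F := K) (m := 1) le_rfl (by rw [hK]; norm_num)) e
            rw [Nat.card_eq_fintype_card, hK] at this
            exact this
        · have hp2 : p ≠ 3 := hrp.symm
          rcases hm with hm | hm | hm | hm
          · exact Or.inl (AltC.of_small (by norm_num) (by norm_num) (alt6_of_l29 hm))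
          · exact Or.inr (Or.inr (Or.inl (Or.inr ⟨hp2, hrn, hm⟩)))
          · exfalso
            obtain ⟨K, iK, iKf, hK, e⟩ := hm
            have := le_of_ls' hC hrF (H95.LSx.ls_o73 hK) e
            omega
          · refine Or.inr (Or.inr (Or.inr (Or.inl ⟨hp2, ?_, hm⟩)))
            obtain ⟨K, iK, iKf, hK, e⟩ := hm
            have hch : CharP K 3 := charP_of_dvd Nat.prime_three (by rw [hK])
            have := le_of_ls' hC hrF (H203.LS.G2.ls K (by rw [Nat.card_eq_fintype_card, hK]; norm_num)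
              (by rw [Nat.card_eq_fintype_card, hK]; norm_num)) e
            rw [Nat.card_eq_fintype_card, hK] at this
            exact this
      · exact hPR' (hPR hrn)
    · exact hPR' (PR.of_noR hm P hC.perfect (MulEquiv.refl _))
  · rcases exc_cross hr hrF P hC.perfect (MulEquiv.refl _) hn hexc with ⟨rfl, h6, h1⟩ | ⟨rfl, h1⟩ | ⟨rfl, h1⟩ |
      ⟨rfl, h7, h1⟩
    · exact Or.inr (Or.inr (Or.inr (Or.inl ⟨hrp.symm, h6, h1⟩)))
    · by_cases hrn : 2 ∣ n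
      · exact Or.inr (Or.inr (Or.inl (Or.inl ⟨hrp.symm, hrn, Or.inr (Or.inr (Or.inr (Or.inr (Or.inr (Or.inr h1)))))⟩)))
      · exfalso
        obtain ⟨K, iK, iKf, hK, ⟨e⟩⟩ := h1
        have hch : CharP K 2 := charP_of_dvd Nat.prime_two (by rw [hK]; norm_num)
        have h2 : Bd F 2 (Nat.card K ^ 2 - 1) (Cfsg.Lie.chevG2.group K) := @bd_g2 K iK _ F _ 2 Nat.prime_two hch hrF
        have := h2.congr e n (hPR hrn)
        rw [Nat.card_eq_fintype_card, hK] at this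
        omega
    · exfalso
      obtain ⟨K, iK, iKf, hK, e⟩ := h1
      have := le_of_ls' hC hrF (F42.ls_f4_two hK) e
      omega
    · exact Or.inr (Or.inr (Or.inr (Or.inr ⟨hrp.symm, h7, h1⟩)))

/-- **The list**, up to the sporadic groups. -/
theorem list₀ (hn : n ≤ 12) {P : Subgroup (Matrix.GeneralLinearGroup (Fin n) F)} (hC : Core P)
    (hk : IsKnownSimple' (Soc P)) (hL : ¬ IsLieTypeChar p (Soc P)) :
    Cand p n (Soc P) ∨ IsSporadicGroup (Soc P) := by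
  rcases H912.Known.known_split hk (H912.Known.not_primeCyclic hC.nonabelian) with h | ⟨r, hr, h⟩ | h | h
  · exact Or.inl (Or.inl (altC_of_alt hn hC h))
  · exact Or.inl (cand_of_lie hn hC hL hr h)
  · exfalso
    by_cases hp5 : p = 5
    · subst hp5
      have := le_of_ls' hC (cast_ne Nat.prime_two (by norm_num)) H95.LSx.Tits.ls h
      omega
    · have h5 : Nat.Prime 5 := by norm_num
      have := le_of_orb hC h5 (cast_ne h5 (fun h => hp5 h.symm)) H921.Spor.Tits.Tits_five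
        (NoR.of_one Cfsg.Agent.S2115.result) h
      omega
  · exact Or.inr h

end lie

end Cfsg.Agent.H936.List12
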