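import Cfsg.Agent.KFacts.RgdNodes
import Cfsg.Agent.KFacts.RgdSyl
import Cfsg.Agent.Schreier.ClassBase
import Cfsg.Agent.H936.DSBase

/-!
# Derived length of `Out` for groups with a root group datum with field coordinates at the nodes
-/

set_option autoImplicit false
set_option linter.unusedSectionVars false

namespace Cfsg.Agent.H936

open CoxeterSystem Cfsg.Agent.ChevalleyStructure.CoxeterGeom Cfsg.Agent.Tits.Roots Cfsg.Agent.Tits.Core
  Cfsg.Agent.Tits.Exchange Cfsg.Agent.Nodes.Reps Cfsg.Agent.Nodes.BNOf Cfsg.Agent.Nodes.StabComb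
  Cfsg.Agent.Nodes.Bruhat Cfsg.Agent.Nodes.OppDec Cfsg.Agent.Nodes.LeviDec Cfsg.Agent.Nodes.NormalForm
  Cfsg.Agent.KFacts.RgdOpp Cfsg.Agent.KFacts.RgdAut Cfsg.Agent.KFacts.RgdDiag Cfsg.Agent.KFacts.RgdRigid
  Cfsg.Agent.KFacts.RgdField Cfsg.Agent.KFacts.RgdTau Cfsg.Agent.KFacts.RgdNodes Cfsg.Agent.KFacts.RgdSyl

open scoped commutatorElement

universe v

variable {I W Y : Type*} [Fintype I] [DecidableEq I] [Group W] [Group Y] {M : CoxeterMatrix I}
  {cs : CoxeterSystem M W} {A : I → I → ℤ} {h : IsCartan M A} {p : ℕ} {T : Subgroup Y} {n : I → Y}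
  {X : (I → ℤ) → Subgroup Y}

/-- Every automorphism is an inner one times a frame automorphism. -/
theorem exists_frame_mul (R : RGD cs h p T n X) [Finite W] [Finite Y] [Fact p.Prime]
    (hG1 : RGD.Sup X {x | IsRoot cs h x} = ⊤) (α : MulAut Y) :
    ∃ k : Y, ∃ β ∈ Frame cs h X, α = MulAut.conj k * β := by
  have hG : GG cs h T X = ⊤ := GG_eq_top hG1
  set U := RGD.Sup X (RGD.Pos cs h) with hU
  have hUp : IsPGroup p ↥U := R.isPGroup_Upos
  have hidx : ¬ p ∣ U.index := by
    have h1 := not_dvd_relIndex R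
    rwa [hG, Subgroup.relIndex_top_right] at h1
  let S : Sylow p Y := hUp.toSylow hidx
  have hS : (S : Subgroup Y) = U := rfl
  obtain ⟨k, hk⟩ := MulAction.exists_smul_eq Y S (α • S)
  have h1 : Fix ((MulAut.conj k)⁻¹ * α) U := by
    have h2 : (k⁻¹ : Y) • (α • S) = S := by rw [← hk, inv_smul_smul]
    have h3 : ((MulAut.conj k)⁻¹ * α) • S = S := by
      rw [mul_smul]
      rw [← map_inv]
      exact h2
    have h4 : ((((MulAut.conj k)⁻¹ * α) • S : Sylow p Y) : Subgroup Y) = S := by rw [h3]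
    rw [Sylow.pointwise_smul_def, hS] at h4
    rw [fix_iff]
    exact h4
  obtain ⟨u, hu, h6, -, h7, -, -⟩ := exists_frame R hG h1
  refine ⟨k * u⁻¹, MulAut.conj u * ((MulAut.conj k)⁻¹ * α), ⟨h6, h7⟩, ?_⟩
  rw [map_mul, map_inv]
  group

/-- The permutation of a frame automorphism is unique. -/
theorem diag_unique (R : RGD cs h p T n X) [Finite W] {β : MulAut Y} {σ σ' : Equiv.Perm I}
    (D : Diag T X β σ) (D' : Diag T X β σ') : σ = σ' := by
  have h1 : Diag T X (β * β⁻¹) (σ * σ'⁻¹) := D.mul D'.inv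
  rw [mul_inv_cancel] at h1
  rw [← mul_inv_eq_one]
  ext i
  obtain ⟨u, hu, hu1⟩ := exists_ne_one R i
  exact Diag.apply_eq R h1 hu hu1 rfl

section

variable {K : I → Type v} [∀ i, Field (K i)] [∀ i, Finite (K i)] {x : ∀ i, K i → Y} {χ : ∀ i, Y → K i}

/-- The commutator of two semilinear frame automorphisms with commuting permutations. -/
theorem frame_derived (R : RGD cs h p T n X) [Finite W]
    (hG1 : RGD.Sup X {x | IsRoot cs h x} = ⊤)
    (C : ∀ i, Coord T (X (sr i)) (x i) (χ i))
    (hcomm : ∀ σ τ : Equiv.Perm I, (∀ i j, M (σ i) (σ j) = M i j) → (∀ i j, M (τ i) (τ j) = M i j) → σ * τ = τ * σ) :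
    derivedSeries (Frame cs h X) 3 = ⊥ := by
  have hG : GG cs h T X = ⊤ := GG_eq_top hG1
  have hdiag : ∀ β ∈ Frame cs h X, ∃ σ : Equiv.Perm I, Diag T X β σ := fun β hβ => exists_diag R hG hβ.1 hβ.2
  -- first step
  have h1 : ∀ β ∈ derivedSeries (Frame cs h X) 1, Diag T X (β : MulAut Y) 1 := by
    let A1 : Subgroup (Frame cs h X) :=
      { carrier := {β | Diag T X (β : MulAut Y) 1}
        mul_mem' := fun {a b} ha hb => by
          have := Diag.mul ha hb
          rwa [mul_one] at this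
        one_mem' := Diag.one
        inv_mem' := fun {a} ha => by
          have := Diag.inv ha
          rwa [inv_one] at this }
    have : derivedSeries (Frame cs h X) 1 ≤ A1 := by
      rw [derivedSeries_succ, derivedSeries_zero, Subgroup.commutator_le]
      intro a _ b _
      obtain ⟨σ, hσ⟩ := hdiag a a.2
      obtain ⟨τ, hτ⟩ := hdiag b b.2
      have h2 := ((hσ.mul hτ).mul hσ.inv).mul hτ.inv
      have h3 : σ * τ * σ⁻¹ * τ⁻¹ = 1 := by
        rw [hcomm σ τ (hσ.matrix (R := R)) (hτ.matrix (R := R))]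
        group
      rw [h3] at h2
      exact h2
    exact fun β hβ => this hβ
  -- second step
  have h2 : ∀ β ∈ derivedSeries (Frame cs h X) 2, NTau T X χ (β : MulAut Y) 1 := by
    let A2 : Subgroup (Frame cs h X) :=
      { carrier := {β | NTau T X χ (β : MulAut Y) 1}
        mul_mem' := fun {a b} ha hb => by
          have := NTau.mul ha hb
          rwa [mul_one] at this
        one_mem' := NTau.one
        inv_mem' := fun {a} ha => by
          have := NTau.inv ha
          rwa [inv_one] at this }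
    have : derivedSeries (Frame cs h X) 2 ≤ A2 := by
      rw [derivedSeries_succ, Subgroup.commutator_le]
      intro a ha b hb
      obtain ⟨σ, hσ⟩ := exists_ntau C (h1 a ha)
      obtain ⟨τ, hτ⟩ := exists_ntau C (h1 b hb)
      have h3 := ((hσ.mul hτ).mul hσ.inv).mul hτ.inv
      have h4 : σ * τ * σ⁻¹ * τ⁻¹ = 1 := by
        have h5 : σ * τ = τ * σ := by
          funext i
          exact Schreier.ClassBase.ringAut_comm (σ i) (τ i)
        rw [h5]
        group
      rw [h4] at h3
      exact h3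
    exact fun β hβ => this hβ
  -- third step
  rw [derivedSeries_succ, eq_bot_iff, Subgroup.commutator_le]
  intro a ha b hb
  rw [Subgroup.mem_bot, commutatorElement_eq_one_iff_mul_comm]
  apply Subtype.ext
  change (a : MulAut Y) * (b : MulAut Y) = (b : MulAut Y) * (a : MulAut Y)
  have ha2 := h2 a ha
  have hb2 := h2 b hb
  rw [← mul_inv_eq_one]
  have hD : Diag T X ((a : MulAut Y) * (b : MulAut Y) * ((b : MulAut Y) * (a : MulAut Y))⁻¹) 1 := by
    have := (ha2.diag.mul hb2.diag).mul (hb2.diag.mul ha2.diag).inv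
    simpa using this
  apply Diag.eq_one R hG1 hD
  intro i y hy
  obtain ⟨c, hc, ec⟩ := NTau.semi C ha2 i
  obtain ⟨d, hd, ed⟩ := NTau.semi C hb2 i
  have hcommX : ∀ y ∈ X (sr i), ((a : MulAut Y) * (b : MulAut Y)) y = ((b : MulAut Y) * (a : MulAut Y)) y := by
    intro y hy
    obtain ⟨t, rfl⟩ := ((C i).mem y).1 hy
    rw [MulAut.mul_apply, MulAut.mul_apply, ec, ed, ec, ed]
    congr 1
    change c * (d * t) = d * (c * t)
    ring
  have hmem : ((b : MulAut Y) * (a : MulAut Y))⁻¹ y ∈ X (sr i) := by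
    have h6 : Diag T X ((b : MulAut Y) * (a : MulAut Y))⁻¹ 1 := by
      have := (hb2.diag.mul ha2.diag).inv
      simpa using this
    exact (h6.pos i y).2 hy
  rw [MulAut.mul_apply, hcommX _ hmem, MulAut.apply_inv_self]

/-- **The derived length of `Out`** of a group with a root group datum of characteristic `p` with field coordinates
at the nodes and commutative group of diagram symmetries. -/
theorem ds_three_of_rgd (R : RGD cs h p T n X) [Finite W] [Finite Y] [Fact p.Prime]
    (hG1 : RGD.Sup X {x | IsRoot cs h x} = ⊤)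
    (C : ∀ i, Coord T (X (sr i)) (x i) (χ i))
    (hcomm : ∀ σ τ : Equiv.Perm I, (∀ i j, M (σ i) (σ j) = M i j) → (∀ i j, M (τ i) (τ j) = M i j) → σ * τ = τ * σ) :
    DS 3 Y := by
  refine ds_of_subgroup (Frame cs h X) 3 (exists_frame_mul R hG1) ?_
  rw [frame_derived R hG1 C hcomm, Subgroup.map_bot]
  exact bot_le

end

end Cfsg.Agent.H936
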