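import Cfsg.Agent.Schreier.ClassPSL
import Cfsg.Agent.Schreier.PSU
import Cfsg.Agent.Schreier.ClassPSp
import Cfsg.Agent.Schreier.ClassPOmega
import Cfsg.Agent.H936.DSBase

/-!
# Derived length of `Out` for the classical groups
-/

set_option autoImplicit false

namespace Cfsg.Agent.H936

open scoped commutatorElement

section PSL

open Matrix Cfsg.Agent.Schreier.Basic Cfsg.Agent.Schreier.ClassBase Cfsg.Agent.Schreier.ClassPSL
open Cfsg.Agent.ClassicalGeometry.AutPSL.Root Cfsg.Agent.ClassicalGeometry.AutPSL.Auto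
  Cfsg.Agent.ClassicalGeometry.AutPSL.Main

variable {F : Type*} [Field F] [Finite F] {n : ℕ}

theorem ds_psl (hn : 2 ≤ n) : DS 2 (Matrix.ProjectiveSpecialLinearGroup (Fin n) F) := by
  have := Fintype.ofFinite F
  obtain ⟨p, hp⟩ := CharP.exists F
  have hprime : Fact p.Prime := ⟨CharP.char_is_prime F p⟩
  refine ds_of_product lift cj.range
    {x | ∃ σ : F ≃+* F, x = fld σ ∨ x = fld σ * itr} ?_ ?_ ?_ ?_
  · rintro f ⟨σ, rfl | rfl⟩ x hx
    · exact cj_norm_fld σ hx
    · have h1 : fld σ * itr * x * (fld σ * itr)⁻¹ = fld σ * (itr * x * itr⁻¹) * (fld σ)⁻¹ := by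
        group
      rw [h1]
      exact cj_norm_fld σ (cj_norm_itr hx)
  · have hff := fun σ τ : F ≃+* F => fld_comm (ι := Fin n) σ τ
    have hif := fun σ : F ≃+* F => itr_mul_fld (ι := Fin n) σ
    rintro f ⟨σ, rfl | rfl⟩ g ⟨τ, rfl | rfl⟩
    · exact hff σ τ
    · rw [← mul_assoc, hff, mul_assoc, mul_assoc, hif]
    · rw [mul_assoc, hif, ← mul_assoc, hff, mul_assoc]
    · rw [mul_assoc, ← mul_assoc itr, hif, mul_assoc, ← mul_assoc, hff, mul_assoc (fld τ) itr,
        ← mul_assoc itr, hif]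
      simp only [mul_assoc]
  · intro α
    rcases Nat.lt_or_ge n 3 with h | h
    · obtain rfl : n = 2 := by omega
      obtain ⟨A, σ, hA⟩ := surj_two p α
      exact ⟨_, ⟨A, rfl⟩, _, ⟨σ, Or.inl rfl⟩, hA⟩
    · rcases surj_three p h α with ⟨A, σ, hA⟩ | ⟨A, σ, hA⟩
      · exact ⟨_, ⟨A, rfl⟩, _, ⟨σ, Or.inl rfl⟩, hA⟩
      · exact ⟨_, ⟨A, rfl⟩, _, ⟨σ, Or.inr rfl⟩, by rw [hA, mul_assoc]⟩
  · exact fun a ha b hb => lift_commutator a b ha hb

end PSL

section Two

/-- Two homomorphic images `f₁(A)`, `f₂(B)` with `B` commutative normalising `f₁(A)`. -/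
theorem ds_of_two {K A B : Type*} [Group K] [Group A] [Group B] (f₁ : A →* MulAut K) (f₂ : B →* MulAut K)
    (hB : ∀ b b' : B, b * b' = b' * b) (h : ∀ α : MulAut K, ∃ a b, α = f₁ a * f₂ b)
    (hn : ∀ a b, ∃ a', f₂ b * f₁ a * (f₂ b)⁻¹ = f₁ a')
    (hi : ∀ a a' : A, f₁ (a * a' * a⁻¹ * a'⁻¹) ∈ (MulAut.conj : K →* MulAut K).range) : DS 2 K := by
  refine ds_of_product (MonoidHom.id _) f₁.range (Set.range f₂) ?_ ?_ ?_ ?_
  · rintro _ ⟨b, rfl⟩ _ ⟨a, rfl⟩
    obtain ⟨a', ha'⟩ := hn a b
    exact ⟨a', ha'.symm⟩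
  · rintro _ ⟨b, rfl⟩ _ ⟨b', rfl⟩
    rw [← map_mul, hB, map_mul]
  · intro α
    obtain ⟨a, b, rfl⟩ := h α
    exact ⟨_, ⟨a, rfl⟩, _, ⟨b, rfl⟩, rfl⟩
  · rintro _ ⟨a, rfl⟩ _ ⟨a', rfl⟩
    have := hi a a'
    simpa using this

end Two

section PSU

open Cfsg.Agent.Schreier.PSU

theorem ds_psu {F : Type*} [Field F] {q n : ℕ} [Fintype F] (hF : Fintype.card F = q ^ 2) (hn : 3 ≤ n)
    (h32 : ¬ (n = 3 ∧ q = 2)) : DS 2 (Cfsg.PSU n F q) := by
  have hc : IsCyclic (F ≃+* F) := LieRecognition.FieldSemilinear.isCyclic_ringAut F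
  let _ : CommGroup (F ≃+* F) := IsCyclic.commGroup
  refine ds_of_two (f₁ (F := F) (q := q) (n := n)) f₂ (fun b b' => mul_comm b b') ?_
    (fun a b => ⟨_, conj_field b a⟩) f₁_commutator
  intro α
  obtain ⟨A, ρ, h⟩ := ClassicalGeometry.PSUAutMain.exists_toAut hF hn h32 α
  exact ⟨A, ρ, h.trans (toAut_eq A ρ)⟩

end PSU

section PSp

open Cfsg Cfsg.Agent.Schreier.Basic Cfsg.Agent.Schreier.ClassBase Cfsg.Agent.Schreier.ClassPSp
open Cfsg.Agent.ClassicalGeometry.SympAutSemi

/-- A homomorphism with image of index at most two. -/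
theorem ds_of_index_two {K A : Type*} [Group K] [Group A] (f : A →* MulAut K) (n : ℕ)
    (hi : f.range.index ≠ 0) (hi2 : f.range.index ≤ 2)
    (h : (derivedSeries A n).map f ≤ (MulAut.conj : K →* MulAut K).range) : DS (n + 1) K := by
  have h1 : derivedSeries (MulAut K) 1 ≤ f.range := by
    rcases Nat.lt_or_ge f.range.index 2 with h2 | h2
    · have h3 : f.range.index = 1 := by omega
      rw [Subgroup.index_eq_one] at h3
      rw [h3]; exact le_top
    · have h3 : f.range.index = 2 := by omega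
      have hN : f.range.Normal := Subgroup.normal_of_index_eq_two h3
      rw [derivedSeries_succ, derivedSeries_zero, Subgroup.commutator_le]
      intro a _ b _
      have hq : ∀ x y : MulAut K ⧸ f.range, x * y = y * x := by
        have hc : Nat.card (MulAut K ⧸ f.range) = 2 := h3
        have : Fact (Nat.Prime 2) := ⟨Nat.prime_two⟩
        have : IsCyclic (MulAut K ⧸ f.range) := isCyclic_of_prime_card hc
        exact fun x y => (IsCyclic.commGroup (α := MulAut K ⧸ f.range)).mul_comm x y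
      have h4 : QuotientGroup.mk' f.range (a * b * a⁻¹ * b⁻¹) = 1 := by
        rw [map_mul, map_mul, map_mul, map_inv, map_inv, hq (QuotientGroup.mk' f.range a)]
        group
      exact (QuotientGroup.eq_one_iff _).1 h4
  unfold DS
  rw [add_comm]
  refine (derivedSeries_add_le h1 n).trans ?_
  rw [← map_derivedSeries_of_surj f.rangeRestrict_surjective n, Subgroup.map_map]
  exact h

variable {m : ℕ} {F : Type*} [Field F] [Finite F]

/-- `PSp m F`. -/
theorem ds_psp (hm : 2 ≤ m) (h22 : m = 2 → 3 ≤ Nat.card F) : DS 3 (PSp m F) := by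
  have := Fintype.ofFinite F
  have hB : ∀ α : MulAut (PSp m F), Cfsg.Agent.ClassicalGeometry.AutPSpCount.Pres α →
      α ∈ (Psi m F).range := by
    intro α hα
    obtain ⟨g, hg⟩ := Cfsg.Agent.ClassicalGeometry.SympAutExists.exists_semi hm α hα
    exact ⟨g, hg⟩
  have hidx : (Psi m F).range.index ≠ 0 ∧ (Psi m F).range.index ≤ 2 := by
    by_cases hcase : m = 2 ∧ (2 : F) = 0
    · obtain ⟨rfl, h2⟩ := hcase
      have hchar : CharP F 2 := by
        obtain ⟨p, hp⟩ := CharP.exists F
        have h3 : p ∣ 2 := (CharP.cast_eq_zero_iff F p 2).1 (by exact_mod_cast h2)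
        have h4 : p.Prime := CharP.char_is_prime F p
        rwa [(Nat.prime_dvd_prime_iff_eq h4 Nat.prime_two).1 h3] at hp
      have ht : ∃ t : F, t ≠ 0 ∧ t ≠ 1 := by
        by_contra hcon
        push Not at hcon
        have h3 : Fintype.card F ≤ 2 := by
          classical
          have : (Finset.univ : Finset F) ⊆ {0, 1} := by
            intro t _
            by_cases h0 : t = 0
            · simp [h0]
            · simp [hcon t h0]
          exact (Finset.card_le_card this).trans (Finset.card_le_two)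
        have h4 := h22 rfl
        rw [Nat.card_eq_fintype_card] at h4
        omega
      rw [Cfsg.Agent.ClassicalGeometry.SympAutTwo.index_two ht hB]
      exact ⟨by norm_num, by norm_num⟩
    · have htop : (Psi m F).range = ⊤ := by
        rw [eq_top_iff]
        intro α _
        apply hB
        refine Cfsg.Agent.ClassicalGeometry.SympAutOddA.recog hm ?_ α
        by_cases hm2 : m = 2
        · right
          intro h2
          exact hcase ⟨hm2, h2⟩
        · left; omega
      rw [htop, Subgroup.index_top]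
      exact ⟨by norm_num, by norm_num⟩
  refine ds_of_index_two (Psi m F) 2 hidx.1 hidx.2 ?_
  rw [Subgroup.map_le_iff_le_comap]
  exact fun g hg => Psi_isom (derived_two hg)

end PSp

section POmega

open Cfsg.Agent.Schreier.Basic Cfsg.Agent.Schreier.ClassBase Cfsg.Agent.Schreier.ClassPOmega
open QuadraticMap Cfsg.Agent.LieClassical.OrthCore Cfsg.Agent.LieClassical.OrthTrans
  Cfsg.Agent.LieClassical.OrthSimple Cfsg.Agent.LieClassical.OrthForms
  Cfsg.Agent.ClassicalGeometry.OrthSemi Cfsg.Agent.ClassicalGeometry.OrthSemiForms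

section general

variable {F V : Type*} [Field F] [AddCommGroup V] [Module F V] {Q : QuadraticForm F V}

theorem ds_of_surjective [Finite F] [FiniteDimensional F V] (hG : Good Q)
    (hs : Function.Surjective (Psi Q)) : DS 3 (↥(E Q) ⧸ Subgroup.center ↥(E Q)) :=
  ds_of_surj (Psi Q) 3 hs (derived_three hG)

end general

variable {F : Type*} [Field F] [Finite F]

/-- `POmega` of an odd-dimensional form. -/
theorem ds_odd {m : ℕ} (hm : 3 ≤ m) (h2 : (2 : F) ≠ 0) :
    DS 3 (Cfsg.POmega F (Cfsg.quadFormOdd m F)) := by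
  have := Fintype.ofFinite F
  have hG := good_odd (F := F) (m := m) (by omega) h2
  have h1 := ds_of_surjective hG (Cfsg.Agent.AutOrth.Final.surjective_odd hm h2)
  have h3 := DS.of_equiv (pomegaEquiv hG).symm h1
  rwa [coe_oddForm] at h3

/-- `POmega` of a form of plus type. -/
theorem ds_plus {m : ℕ} (hm : 5 ≤ m) : DS 3 (Cfsg.POmega F (Cfsg.quadFormPlus m F)) := by
  have := Fintype.ofFinite F
  have hG := good_plus (F := F) (m := m) (by omega)
  have h1 := ds_of_surjective hG (Cfsg.Agent.AutOrth.Final.surjective_plus hm)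
  have h3 := DS.of_equiv (pomegaEquiv hG).symm h1
  rwa [coe_plusForm] at h3

/-- `POmega` of a form of minus type. -/
theorem ds_minus {m : ℕ} (hm : 4 ≤ m) (a b : F)
    (hab : ∀ z₁ z₂ : F, z₁ ^ 2 + a * z₁ * z₂ + b * z₂ ^ 2 = 0 → z₁ = 0 ∧ z₂ = 0) :
    DS 3 (Cfsg.POmega F (Cfsg.quadFormMinus (m - 1) F a b)) := by
  have := Fintype.ofFinite F
  have hG := good_minus (F := F) (m := m - 1) (by omega) a b hab
  have h1 := ds_of_surjective hG (Cfsg.Agent.AutOrth.Final.surjective_minus (by omega) hab)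
  have h3 := DS.of_equiv (pomegaEquiv hG).symm h1
  rwa [coe_minusForm] at h3

end POmega

end Cfsg.Agent.H936
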