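import Cfsg.Agent.StandardComponent.AltAut
import Cfsg.Agent.OddCyclic.EmpFFAlt
import Cfsg.Agent.S0254
import Cfsg.Agent.H936.DSClass

/-!
# Derived length of `Out` for the alternating groups
-/

set_option autoImplicit false

namespace Cfsg.Agent.H936

open Equiv

theorem ds_of_conj {n : ℕ} (h : ∀ e : MulAut (alternatingGroup (Fin n)), ∃ σ : Perm (Fin n),
    ∀ x : alternatingGroup (Fin n), (e x : Perm (Fin n)) = σ * x * σ⁻¹) : DS 1 (alternatingGroup (Fin n)) := by
  apply ds_one_of_sq
  intro α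
  obtain ⟨σ, hσ⟩ := h α
  have hs : σ * σ ∈ alternatingGroup (Fin n) := by
    rw [Perm.mem_alternatingGroup, map_mul]
    rcases Int.units_eq_one_or (Perm.sign σ) with h | h <;> rw [h] <;> decide
  refine ⟨⟨σ * σ, hs⟩, ?_⟩
  apply MulEquiv.ext
  intro x
  apply Subtype.ext
  rw [MulAut.mul_apply, hσ, hσ, MulAut.conj_apply]
  push_cast
  group

theorem ds_alt {G : Type*} [Group G] (h : Cfsg.IsAlternating G) : DS 2 G := by
  obtain ⟨n, hn, ⟨e⟩⟩ := h
  refine DS.of_equiv e.symm ?_
  rcases Nat.lt_or_ge n 7 with h7 | h7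
  · by_cases h5 : n = 5
    · subst h5
      exact (ds_of_conj Cfsg.Agent.OddCyclic.EmpFFAlt.exists_conj).mono (by norm_num)
    · obtain rfl : n = 6 := by omega
      let F := GaloisField 3 2
      have : Fact (Nat.Prime 3) := ⟨Nat.prime_three⟩
      have hF : Fintype F := Fintype.ofFinite F
      have hc : Fintype.card F = 9 := by
        rw [← Nat.card_eq_fintype_card, GaloisField.card 3 2 (by norm_num)]
        norm_num
      obtain ⟨f⟩ := Cfsg.Agent.S0254.result (F := F) hc
      exact DS.of_equiv f (ds_psl (F := F) (n := 2) le_rfl)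
  · obtain ⟨m, rfl⟩ := Nat.exists_eq_add_of_le' (show 2 ≤ n by omega)
    exact (ds_of_conj (Cfsg.Agent.StandardComponent.AltAut.exists_conj (by omega))).mono (by norm_num)

end Cfsg.Agent.H936
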