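import Cfsg.Agent.S2607
import Cfsg.Agent.S2608
import Cfsg.Agent.H70.SzOut
import Cfsg.Agent.H936.DSClass

/-!
# Derived length of `Out` for `PΩ₈⁺(q)` and `Sz(q)`
-/

set_option autoImplicit false

namespace Cfsg.Agent.H936

theorem ds_of_out_bot {n : ℕ} {K : Type*} [Group K] (h : derivedSeries (Cfsg.Out K) n = ⊥) : DS n K :=
  ds_of_quotient (Cfsg.Inn K) le_rfl h

theorem derivedSeries_eq_bot_of_equiv {n : ℕ} {A B : Type*} [Group A] [Group B] (e : A ≃* B)
    (h : derivedSeries B n = ⊥) : derivedSeries A n = ⊥ := by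
  rw [eq_bot_iff]
  intro a ha
  have h1 : e a ∈ derivedSeries B n := map_derivedSeries_le e.toMonoidHom n ⟨a, ha, rfl⟩
  rw [h, Subgroup.mem_bot] at h1
  rw [Subgroup.mem_bot]
  exact e.injective (by rw [h1, map_one])

theorem derivedSeries_prod_eq_bot {n : ℕ} {A B : Type*} [Group A] [Group B] (hA : derivedSeries A n = ⊥)
    (hB : derivedSeries B n = ⊥) : derivedSeries (A × B) n = ⊥ := by
  rw [eq_bot_iff]
  intro x hx
  have h1 : x.1 ∈ derivedSeries A n := map_derivedSeries_le (MonoidHom.fst A B) n ⟨x, hx, rfl⟩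
  have h2 : x.2 ∈ derivedSeries B n := map_derivedSeries_le (MonoidHom.snd A B) n ⟨x, hx, rfl⟩
  rw [hA, Subgroup.mem_bot] at h1
  rw [hB, Subgroup.mem_bot] at h2
  exact Subgroup.mem_bot.2 (Prod.ext h1 h2)

theorem derivedSeries_comm {A : Type*} [Group A] (h : ∀ a b : A, a * b = b * a) {n : ℕ} (hn : 1 ≤ n) :
    derivedSeries A n = ⊥ := by
  rw [eq_bot_iff]
  refine (derivedSeries_antitone A hn).trans ?_
  rw [derivedSeries_succ, derivedSeries_zero, Subgroup.commutator_le]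
  intro a _ b _
  rw [Subgroup.mem_bot, commutatorElement_eq_one_iff_mul_comm]
  exact h a b

theorem derivedSeries_perm_three {n : ℕ} (hn : 2 ≤ n) : derivedSeries (Equiv.Perm (Fin 3)) n = ⊥ := by
  rw [eq_bot_iff]
  refine (derivedSeries_antitone _ hn).trans ?_
  have h1 : derivedSeries (Equiv.Perm (Fin 3)) 1 ≤ (Equiv.Perm.sign : Equiv.Perm (Fin 3) →* ℤˣ).ker := by
    rw [derivedSeries_succ, derivedSeries_zero, Subgroup.commutator_le]
    intro a _ b _
    rw [MonoidHom.mem_ker, map_commutatorElement, commutatorElement_eq_one_iff_mul_comm, mul_comm]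
  rw [derivedSeries_succ]
  refine (Subgroup.commutator_mono h1 h1).trans ?_
  rw [Subgroup.commutator_le]
  intro a ha b hb
  rw [Subgroup.mem_bot, commutatorElement_eq_one_iff_mul_comm]
  have : ∀ a b : Equiv.Perm (Fin 3), Equiv.Perm.sign a = 1 → Equiv.Perm.sign b = 1 → a * b = b * a := by
    decide +kernel
  exact this a b (MonoidHom.mem_ker.1 ha) (MonoidHom.mem_ker.1 hb)

/-- The four group of `S₄`. -/
def vfour : Subgroup (Equiv.Perm (Fin 4)) where
  carrier := {g | Equiv.Perm.sign g = 1 ∧ g * g = 1}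
  mul_mem' := by
    have : ∀ a b : Equiv.Perm (Fin 4), (Equiv.Perm.sign a = 1 ∧ a * a = 1) → (Equiv.Perm.sign b = 1 ∧ b * b = 1) →
      (Equiv.Perm.sign (a * b) = 1 ∧ (a * b) * (a * b) = 1) := by decide +kernel
    exact fun {a b} ha hb => this a b ha hb
  one_mem' := by
    show Equiv.Perm.sign (1 : Equiv.Perm (Fin 4)) = 1 ∧ (1 : Equiv.Perm (Fin 4)) * 1 = 1
    simp
  inv_mem' := by
    intro a ha
    refine ⟨?_, ?_⟩
    · rw [map_inv, ha.1, inv_one]
    · rw [← mul_inv_rev, ha.2, inv_one]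

theorem derivedSeries_perm_four {n : ℕ} (hn : 3 ≤ n) : derivedSeries (Equiv.Perm (Fin 4)) n = ⊥ := by
  rw [eq_bot_iff]
  refine (derivedSeries_antitone _ hn).trans ?_
  have h1 : derivedSeries (Equiv.Perm (Fin 4)) 1 ≤ (Equiv.Perm.sign : Equiv.Perm (Fin 4) →* ℤˣ).ker := by
    rw [derivedSeries_succ, derivedSeries_zero, Subgroup.commutator_le]
    intro a _ b _
    rw [MonoidHom.mem_ker, map_commutatorElement, commutatorElement_eq_one_iff_mul_comm, mul_comm]
  have h2 : derivedSeries (Equiv.Perm (Fin 4)) 2 ≤ vfour := by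
    rw [derivedSeries_succ]
    refine (Subgroup.commutator_mono h1 h1).trans ?_
    rw [Subgroup.commutator_le]
    intro a ha b hb
    have : ∀ a b : Equiv.Perm (Fin 4), Equiv.Perm.sign a = 1 → Equiv.Perm.sign b = 1 →
        (Equiv.Perm.sign (a * b * a⁻¹ * b⁻¹) = 1 ∧ (a * b * a⁻¹ * b⁻¹) * (a * b * a⁻¹ * b⁻¹) = 1) := by
      decide +kernel
    exact this a b (MonoidHom.mem_ker.1 ha) (MonoidHom.mem_ker.1 hb)
  rw [derivedSeries_succ]
  refine (Subgroup.commutator_mono h2 h2).trans ?_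
  rw [Subgroup.commutator_le]
  intro a ha b hb
  rw [Subgroup.mem_bot, commutatorElement_eq_one_iff_mul_comm]
  have h3 := vfour.mul_mem ha hb
  have h4 : a * b * (a * b) = 1 := h3.2
  have ha' : a * a = 1 := ha.2
  have hb' : b * b = 1 := hb.2
  calc a * b = a * (a * b * (a * b)) * b := by rw [h4, mul_one]
    _ = (a * a) * (b * a) * (b * b) := by group
    _ = b * a := by rw [ha', hb', one_mul, mul_one]

/-- `PΩ₈⁺(q)`. -/
theorem ds_plus_four {F : Type*} [Field F] [Finite F] : DS 3 (Cfsg.POmega F (Cfsg.quadFormPlus 4 F)) := by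
  have := Fintype.ofFinite F
  obtain ⟨p, hp⟩ := CharP.exists F
  have hprime : Fact p.Prime := ⟨CharP.char_is_prime F p⟩
  obtain ⟨f, -, hf⟩ := FiniteField.card F p
  apply ds_of_out_bot
  by_cases h2 : p = 2
  · subst h2
    have h := Cfsg.Agent.S2607.result (F := F) (f := f) (m := 4) f.pos hf le_rfl
    rw [if_pos rfl] at h
    obtain ⟨e⟩ := h
    exact derivedSeries_eq_bot_of_equiv e (derivedSeries_prod_eq_bot (derivedSeries_perm_three (by norm_num))
      (derivedSeries_comm (fun a b => mul_comm a b) (by norm_num)))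
  · have h := Cfsg.Agent.S2608.result (F := F) (p := p) (f := f) (m := 4) f.pos hf h2 le_rfl
    rw [if_pos rfl] at h
    obtain ⟨e⟩ := h
    exact derivedSeries_eq_bot_of_equiv e (derivedSeries_prod_eq_bot (derivedSeries_perm_four le_rfl)
      (derivedSeries_comm (fun a b => mul_comm a b) (by norm_num)))

/-- `PΩ⁺(2m, q)`. -/
theorem ds_plus' {F : Type*} [Field F] [Finite F] {m : ℕ} (hm : 4 ≤ m) :
    DS 3 (Cfsg.POmega F (Cfsg.quadFormPlus m F)) := by
  rcases Nat.lt_or_ge m 5 with h | h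
  · obtain rfl : m = 4 := by omega
    exact ds_plus_four
  · exact ds_plus h

open Cfsg.Agent.ThreePrime.SzRel Cfsg.Agent.LieRecognition.SzMatrix in
/-- `Sz(q)`. -/
theorem ds_sz {F : Type*} [Field F] [Fintype F] {m : ℕ} (hm : 1 ≤ m) (hF : Fintype.card F = 2 ^ (2 * m + 1)) :
    DS 1 ↥(Cfsg.Lie.Sz F (2 ^ (m + 1))) := by
  have h8 : 8 ≤ Nat.card F := by
    rw [Nat.card_eq_fintype_card, hF]
    exact Rel.eight_le hm
  obtain ⟨S, hS⟩ := H70.SzOut.exists_sylow hm hF
  refine ds_of_hom (H70.SzOut.fieldAut (good hF)) 1 ?_ ?_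
  · intro α
    obtain ⟨g, hg⟩ := H70.SzOut.exists_fix (ofGood (good hF)) S hS α
    obtain ⟨σ, k, hσ⟩ := H70.SzOut.eq_of_fix h8 (good hF) hg
    refine ⟨g⁻¹ * (good hF).d k, σ, ?_⟩
    rw [map_mul, mul_assoc, ← hσ, ← mul_assoc, ← map_mul, inv_mul_cancel, map_one, one_mul]
  · rw [derivedSeries_comm (fun a b => Schreier.ClassBase.ringAut_comm a b) le_rfl, Subgroup.map_bot]
    exact bot_le

theorem ds_suzuki {G : Type*} [Group G] (h : Cfsg.Lie.IsoSuzuki G) : DS 1 G := by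
  obtain ⟨K, i1, i2, m, hm, hK, ⟨e⟩⟩ := h
  exact DS.of_equiv e.symm (ds_sz hm hK)

end Cfsg.Agent.H936
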