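import Cfsg.Agent.H71.FldAut
import Cfsg.Agent.Schreier.ClassBase
import Cfsg.Agent.H936.DSBase

/-!
# Derived length of `Out` for `²G₂(q)` and `²F₄(q)`
-/

set_option autoImplicit false

namespace Cfsg.Agent.H936

open Cfsg.Lie

theorem derivedSeries_comm' {A : Type*} [Group A] (h : ∀ a b : A, a * b = b * a) :
    derivedSeries A 1 = ⊥ := by
  rw [eq_bot_iff, derivedSeries_succ, derivedSeries_zero, Subgroup.commutator_le]
  intro a _ b _
  rw [Subgroup.mem_bot, commutatorElement_eq_one_iff_mul_comm]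
  exact h a b

theorem ds_of_fld {F : Type*} [Field F] [Finite F] {K : Type*} [Group K] (f : (F ≃+* F) → MulAut K)
    (hf : ∀ τ ρ, f (τ * ρ) = f τ * f ρ) (h : ∀ α : MulAut K, ∃ g τ, α = MulAut.conj g * f τ) : DS 1 K := by
  refine ds_of_hom (MonoidHom.mk' f hf) 1 (fun α => ?_) ?_
  · obtain ⟨g, τ, h⟩ := h α
    exact ⟨g, τ, h⟩
  · rw [derivedSeries_comm' (fun a b => Schreier.ClassBase.ringAut_comm a b), Subgroup.map_bot]
    exact bot_le

theorem ds_ree {G : Type*} [Group G] (h : IsoRee G) : DS 1 G := by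
  obtain ⟨K, _, _, m, hm, hK, ⟨e⟩⟩ := h
  exact DS.of_equiv e.symm (ds_of_fld (fun τ => S2127.fld τ (3 ^ m)) (fun τ ρ => H71.FldAut.fldG_mul τ ρ (3 ^ m))
    (H71.FldAut.ree_aut hm hK))

theorem ds_2f4 {G : Type*} [Group G] (h : Iso2F4 G) : DS 1 G := by
  obtain ⟨K, _, _, m, hm, hK, ⟨e⟩⟩ := h
  exact DS.of_equiv e.symm (ds_of_fld (fun τ => S2128.fld τ (2 ^ m)) (fun τ ρ => H71.FldAut.fldF_mul τ ρ (2 ^ m))
    (H71.FldAut.twF4_aut hm hK))

end Cfsg.Agent.H936
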