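import Cfsg.Prelude.Def_Classification2
import Cfsg.Prelude.Def_KGroupFacts
import Cfsg.Agent.S2060
import Cfsg.Agent.S2061
import Cfsg.Agent.S2062
import Cfsg.Agent.S2063
import Cfsg.Agent.S2064
import Cfsg.Agent.S2065
import Cfsg.Agent.S2066
import Cfsg.Agent.S2067
import Cfsg.Agent.S2068
import Cfsg.Agent.S2069
import Cfsg.Agent.S2070
import Cfsg.Agent.S2071
import Cfsg.Agent.S2072
import Cfsg.Agent.S2073
import Cfsg.Agent.S2074
import Cfsg.Agent.S2075
import Cfsg.Agent.S2076
import Cfsg.Agent.S2077
import Cfsg.Agent.S2078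
import Cfsg.Agent.S2079
import Cfsg.Agent.S2080
import Cfsg.Agent.S2081
import Cfsg.Agent.S2082
import Cfsg.Agent.S2083
import Cfsg.Agent.S2084
import Cfsg.Agent.S2085
import Cfsg.Agent.H936.DSBase

/-!
# Derived length of `Out` for the sporadic groups
-/

set_option autoImplicit false

namespace Cfsg.Agent.H936

open Cfsg

theorem ds_of_card_one {K : Type*} [Group K] (h : Nat.card (Cfsg.Out K) = 1) : DS 1 K := by
  have h1 : (Cfsg.Inn K).index = 1 := h
  exact ds_one_of_index (by rw [show ((MulAut.conj : K →* MulAut K).range).index = 1 from h1]; norm_num)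
    (by rw [show ((MulAut.conj : K →* MulAut K).range).index = 1 from h1]; norm_num)

theorem ds_of_card_two {K : Type*} [Group K] (h : Nat.card (Cfsg.Out K) = 2) : DS 1 K := by
  have h1 : (Cfsg.Inn K).index = 2 := h
  exact ds_one_of_index (by rw [show ((MulAut.conj : K →* MulAut K).range).index = 2 from h1]; norm_num)
    (by rw [show ((MulAut.conj : K →* MulAut K).range).index = 2 from h1])

/-- **The sporadic groups.** -/
theorem ds_sporadic {G : Type*} [Group G] (h : IsSporadicGroup G) : DS 1 G := by
  rcases h with h | h | h | h | h | h | h | h | h | h | h | h | h | h | h | h | h | h | h |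
      h | h | h | h | h | h | h
  · obtain ⟨e⟩ := h; exact DS.of_equiv e.symm (ds_of_card_one S2060.result)
  · obtain ⟨e⟩ := h; exact DS.of_equiv e.symm (ds_of_card_two S2061.result)
  · obtain ⟨e⟩ := h; exact DS.of_equiv e.symm (ds_of_card_two S2062.result)
  · obtain ⟨e⟩ := h; exact DS.of_equiv e.symm (ds_of_card_one S2063.result)
  · obtain ⟨e⟩ := h; exact DS.of_equiv e.symm (ds_of_card_one S2064.result)
  · obtain ⟨e⟩ := h; exact DS.of_equiv e.symm (ds_of_card_one S2065.result)
  · obtain ⟨e⟩ := h; exact DS.of_equiv e.symm (ds_of_card_two S2066.result)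
  · obtain ⟨F, _, _, ω, hF, hω, ⟨e⟩⟩ := h
    exact DS.of_equiv e.symm (ds_of_card_two (S2067.result hF ω hω))
  · obtain ⟨e⟩ := h; exact DS.of_equiv e.symm (ds_of_card_one S2068.result)
  · obtain ⟨e⟩ := h; exact DS.of_equiv e.symm (ds_of_card_one S2069.result)
  · obtain ⟨e⟩ := h; exact DS.of_equiv e.symm (ds_of_card_one S2070.result)
  · obtain ⟨e⟩ := h; exact DS.of_equiv e.symm (ds_of_card_one S2071.result)
  all_goals obtain ⟨e⟩ := h
  all_goals first
    | exact DS.of_equiv e.symm (ds_of_card_two S2072.result)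
    | exact DS.of_equiv e.symm (ds_of_card_two S2073.result)
    | exact DS.of_equiv e.symm (ds_of_card_two S2074.result)
    | exact DS.of_equiv e.symm (ds_of_card_two S2075.result)
    | exact DS.of_equiv e.symm (ds_of_card_one S2076.result)
    | exact DS.of_equiv e.symm (ds_of_card_one S2077.result)
    | exact DS.of_equiv e.symm (ds_of_card_two S2078.result)
    | exact DS.of_equiv e.symm (ds_of_card_two S2079.result)
    | exact DS.of_equiv e.symm (ds_of_card_one S2080.result)
    | exact DS.of_equiv e.symm (ds_of_card_two S2081.result)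
    | exact DS.of_equiv e.symm (ds_of_card_two S2082.result)
    | exact DS.of_equiv e.symm (ds_of_card_one S2083.result)
    | exact DS.of_equiv e.symm (ds_of_card_one S2084.result)
    | exact DS.of_equiv e.symm (ds_of_card_one S2085.result)

end Cfsg.Agent.H936
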