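import Cfsg.Prelude.Def_LieTwisted
import Cfsg.Agent.TitsK.Inst
import Cfsg.Agent.TitsK.SheetT
import Cfsg.Agent.FourTwo.Perf
import Cfsg.Agent.H936.DSBase

/-!
# Derived length of `Out` for the Tits group
-/

set_option autoImplicit false

namespace Cfsg.Agent.H936

open Cfsg

theorem ds_of_dvd_two {K : Type*} [Group K] (h : (MulAut.conj : K →* MulAut K).range.index ∣ 2) : DS 1 K :=
  ds_one_of_index (fun h0 => by rw [h0, zero_dvd_iff] at h; exact absurd h (by norm_num))
    (Nat.le_of_dvd (by norm_num) h)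

theorem ds_tits_TT : DS 1 ↥Cfsg.Agent.TitsK.TT := by
  have hfin : Finite Cfsg.Agent.FourTwo.Base.LL := Cfsg.Agent.FourTwo.Perf.instFiniteLL
  have h := Cfsg.Agent.TitsK.tdata.index_inn
  refine ds_of_dvd_two ?_
  refine dvd_trans ?_ h
  exact dvd_refl _

theorem ds_tits {K : Type*} [Group K] (h : Lie.IsoTits K) : DS 1 K := by
  obtain ⟨e⟩ := h
  obtain ⟨e'⟩ := Cfsg.Agent.TitsK.exists_equiv
  have h1 := ds_tits_TT
  exact DS.of_equiv (K := ↥Cfsg.Agent.TitsK.TT) (e.trans e').symm h1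

end Cfsg.Agent.H936
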