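import Cfsg.Agent.H919.SevenTwo
import Cfsg.Agent.H917.OmAlt2
import Cfsg.Agent.H953.Sympl

/-!
# `A₇` in `Sp₆(q)`, `q` even: an invariant quadratic form (task 2972 of helper914)

`a7_two`.
-/

set_option autoImplicit false
set_option linter.unusedSectionVars false

namespace Cfsg.Agent.H936.SixA7Two

open Cfsg Cfsg.Geo Matrix Module Cfsg.Agent.H915.LD Cfsg.Agent.H919.Q2

universe u v

section rep

variable {K : Type u} [Field K] {V : Type v} [AddCommGroup V] [Module K V] [FiniteDimensional K V]
  {r : alternatingGroup (Fin 7) →* Module.End K V}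

/-- The rank relation. -/
theorem rank_rel (h2 : (2 : K) = 0) :
    finrank K V = rk (prj r pt) + rk (prj r ps + prj r pt * prj r ps) +
        rk (prj r (pt * ps) + prj r pt * prj r ps) + rk (prj r (pt * (ps * ps)) + prj r pt * prj r ps) ∧
      rk (prj r ps) = rk (prj r pt * prj r ps) + rk (prj r ps + prj r pt * prj r ps) ∧
      rk (prj r (pt * ps)) = rk (prj r pt * prj r ps) + rk (prj r (pt * ps) + prj r pt * prj r ps) ∧
      rk (prj r (pt * (ps * ps))) = rk (prj r pt * prj r ps) + rk (prj r (pt * (ps * ps)) + prj r pt * prj r ps) ∧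
      (prj r pt * prj r ps) * (prj r pt * prj r ps) = prj r pt * prj r ps ∧
      prj r pt * prj r ps = prj r ps * prj r pt ∧
      (prj r ps + prj r pt * prj r ps) * (prj r ps + prj r pt * prj r ps) = prj r ps + prj r pt * prj r ps ∧
      (prj r (pt * ps) + prj r pt * prj r ps) * (prj r (pt * ps) + prj r pt * prj r ps) =
        prj r (pt * ps) + prj r pt * prj r ps := by
  have hTT := prj_idem (r := r) h2 pt_three
  have hSS := prj_idem (r := r) h2 ps_three
  set t := r pt with ht
  set s := r ps with hs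
  set T := prj r pt with hT
  set S := prj r ps with hS
  set U := prj r (pt * ps) with hU
  set U' := prj r (pt * (ps * ps)) with hU'
  have hts : t * s = s * t := by rw [ht, hs, ← map_mul, pt_ps, map_mul]
  have ht3 : t * t * t = 1 := r_three pt_three
  have hs3 : s * s * s = 1 := r_three ps_three
  have eT : T = 1 + t + t * t := rfl
  have eS : S = 1 + s + s * s := rfl
  have eU : U = 1 + t * s + t * s * (t * s) := by rw [hU]; unfold prj; rw [map_mul]
  have eU' : U' = 1 + t * (s * s) + t * (s * s) * (t * (s * s)) := by rw [hU']; unfold prj; rw [map_mul, map_mul]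
  have hUU : U * U = U := prj_idem h2 (by decide +kernel)
  have hUU' : U' * U' = U' := prj_idem h2 (by decide +kernel)
  have hTt : T * t = T := prj_r pt_three
  have hSs : S * s = S := prj_r ps_three
  -- normal forms
  have n1 : t * s * (t * s) = t * t * (s * s) := by
    calc t * s * (t * s) = t * (s * t) * s := by noncomm_ring
      _ = t * (t * s) * s := by rw [hts]
      _ = _ := by noncomm_ring
  have n2 : t * (s * s) * (t * (s * s)) = t * t * s := by
    have k1 : s * s * t = t * (s * s) := by rw [mul_assoc, ← hts, ← mul_assoc, ← hts, mul_assoc]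
    calc t * (s * s) * (t * (s * s)) = t * (s * s * t) * (s * s) := by noncomm_ring
      _ = t * (t * (s * s)) * (s * s) := by rw [k1]
      _ = t * t * (s * s * s) * s := by noncomm_ring
      _ = _ := by rw [hs3, mul_one]
  rw [n1] at eU
  rw [n2] at eU'
  have hTS : T * S = S * T := by
    rw [eT, eS]
    have k1 : s * s * t = t * (s * s) := by rw [mul_assoc, ← hts, ← mul_assoc, ← hts, mul_assoc]
    have k2 : t * t * s = s * (t * t) := by rw [mul_assoc, hts, ← mul_assoc, hts, mul_assoc]
    have k3 : t * t * (s * s) = s * s * (t * t) := by rw [← mul_assoc, k2, mul_assoc, k2, mul_assoc]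
    calc (1 + t + t * t) * (1 + s + s * s) = 1 + s + s * s + t + t * s + t * (s * s) + t * t + t * t * s +
          t * t * (s * s) := by noncomm_ring
      _ = 1 + s + s * s + t + s * t + s * s * t + t * t + s * (t * t) + s * s * (t * t) := by rw [hts, k1, k2, k3]
      _ = _ := by noncomm_ring
  have hTt2 : T * (t * t) = T := by rw [← mul_assoc, hTt, hTt]
  have hTU : T * U = T * S := by
    rw [eU, eS]
    calc T * (1 + t * s + t * t * (s * s)) = T + T * t * s + T * (t * t) * (s * s) := by noncomm_ring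
      _ = T + T * s + T * (s * s) := by rw [hTt, hTt2]
      _ = _ := by noncomm_ring
  have hTU' : T * U' = T * S := by
    rw [eU', eS]
    calc T * (1 + t * (s * s) + t * t * s) = T + T * t * (s * s) + T * (t * t) * s := by noncomm_ring
      _ = T + T * s + T * (s * s) := by rw [hTt, hTt2]; abel
      _ = _ := by noncomm_ring
  have h1s := fun A : Module.End K V => add_self_end (V := V) h2 A
  obtain ⟨Z, hZ⟩ : ∃ Z, Z = T * S := ⟨_, rfl⟩
  have hZ' : Z = S * T := by rw [hZ, hTS]
  rw [← hZ] at hTU hTU'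
  have hTZ : T * Z = Z := by rw [hZ, ← mul_assoc, hTT]
  have hSZ : S * Z = Z := by rw [hZ', ← mul_assoc, hSS]
  have hZS : Z * S = Z := by rw [hZ, mul_assoc, hSS]
  have hZT : Z * T = Z := by rw [hZ', mul_assoc, hTT]
  have hZZ : Z * Z = Z := by
    calc Z * Z = Z * (T * S) := by rw [← hZ]
      _ = Z * T * S := by rw [mul_assoc]
      _ = Z := by rw [hZT, hZS]
  have hUts : U * (t * s) = U := by
    rw [ht, hs, ← map_mul]
    exact prj_r (by decide +kernel)
  -- everything commutes
  have hst2 : s * s * t = t * (s * s) := by rw [mul_assoc, ← hts, ← mul_assoc, ← hts, mul_assoc]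
  have htU : t * U = U * t := by
    rw [eU, mul_add, mul_add, add_mul, add_mul, mul_one, one_mul]
    congr 1
    · congr 1
      rw [mul_assoc, ← hts]
    · rw [mul_assoc (t * t), hst2]
      noncomm_ring
  have hsU : s * U = U * s := by
    have k2 : t * t * s = s * (t * t) := by rw [mul_assoc, hts, ← mul_assoc, hts, mul_assoc]
    rw [eU, mul_add, mul_add, add_mul, add_mul, mul_one, one_mul]
    congr 1
    · congr 1
      rw [← mul_assoc, ← hts]
    · rw [← mul_assoc, ← k2]
      noncomm_ring
  have hUt : U * t = U * (s * s) := by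
    calc U * t = U * t * (s * s * s) := by rw [hs3, mul_one]
      _ = U * (t * s) * (s * s) := by noncomm_ring
      _ = _ := by rw [hUts]
  have hUS : U * S = Z := by
    have k1 : U * S = S * U := by
      rw [eS, mul_add, mul_add, add_mul, add_mul, mul_one, one_mul, ← hsU, ← mul_assoc, ← hsU, mul_assoc, ← hsU, mul_assoc]
    have hSs2 : S * (s * s) = S := by rw [← mul_assoc, hSs, hSs]
    rw [k1, eU, hZ', eT]
    have k3 : t * t * (s * s) = s * s * (t * t) := by
      symm
      calc s * s * (t * t) = s * s * t * t := by noncomm_ring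
        _ = t * (s * s) * t := by rw [hst2]
        _ = t * (s * s * t) := by noncomm_ring
        _ = t * (t * (s * s)) := by rw [hst2]
        _ = t * t * (s * s) := by noncomm_ring
    calc S * (1 + t * s + t * t * (s * s)) = S * (1 + s * t + s * s * (t * t)) := by rw [hts, k3]
      _ = S + S * s * t + S * (s * s) * (t * t) := by noncomm_ring
      _ = S + S * t + S * (t * t) := by rw [hSs, hSs2]
      _ = _ := by noncomm_ring
  have hUU'1 : U * U' = Z := by
    rw [eU', ← hUS, eS]
    have a1 : U * t * (t * s) = U * t := by rw [← htU, mul_assoc, hUts]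
    calc U * (1 + t * (s * s) + t * t * s) = U + U * (t * s) * s + U * t * (t * s) := by noncomm_ring
      _ = U + U * s + U * t := by rw [hUts, a1]
      _ = U + U * s + U * (s * s) := by rw [hUt]
      _ = _ := by noncomm_ring
  have hU'U : U' * U = Z := by
    rw [← hUU'1, eU']
    have k1 : s * s * U = U * (s * s) := by rw [mul_assoc, hsU, ← mul_assoc, hsU, mul_assoc]
    have k2 : t * t * U = U * (t * t) := by rw [mul_assoc, htU, ← mul_assoc, htU, mul_assoc]
    calc (1 + t * (s * s) + t * t * s) * U = U + t * (s * s * U) + t * t * (s * U) := by noncomm_ring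
      _ = U + t * U * (s * s) + t * t * U * s := by rw [k1, hsU]; noncomm_ring
      _ = U + U * t * (s * s) + U * (t * t) * s := by rw [htU, k2]
      _ = _ := by noncomm_ring
  have hsum : U + U' = 1 + T + S + Z := by
    have k : 1 + T + S + Z = (1 + T) * (1 + S) := by rw [hZ]; noncomm_ring
    have kT : 1 + T = t + t * t := by
      calc 1 + T = (1 + 1) + (t + t * t) := by rw [eT]; abel
        _ = _ := by rw [h1s, zero_add]
    have kS : 1 + S = s + s * s := by
      calc 1 + S = (1 + 1) + (s + s * s) := by rw [eS]; abel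
        _ = _ := by rw [h1s, zero_add]
    rw [k, kT, kS, eU, eU']
    calc 1 + t * s + t * t * (s * s) + (1 + t * (s * s) + t * t * s) =
        (1 + 1) + (t * s + t * t * (s * s) + t * (s * s) + t * t * s) := by abel
      _ = _ := by rw [h1s, zero_add]; noncomm_ring
  have hUZ : U * Z = Z := by rw [← hUS, ← mul_assoc, hUU]
  have hZU : Z * U = Z := by
    have : S * U = Z := by
      rw [← hUS, eS]
      have k1 : s * s * U = U * (s * s) := by rw [mul_assoc, hsU, ← mul_assoc, hsU, mul_assoc]
      calc (1 + s + s * s) * U = U + s * U + s * s * U := by noncomm_ring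
        _ = U + U * s + U * (s * s) := by rw [hsU, k1]
        _ = _ := by noncomm_ring
    calc Z * U = T * (S * U) := by rw [← mul_assoc, ← hZ]
      _ = Z := by rw [this, hTZ]
  have hU'Z : U' * Z = Z := by rw [← hU'U, ← mul_assoc, hUU']
  have hZU' : Z * U' = Z := by rw [← hUU'1, mul_assoc, hUU']
  -- ranks
  have ra := rk_sub (V := V) h2 hTT (mul_one 1) (mul_one T) (one_mul T)
  rw [rk_one] at ra
  have rc := rk_sub h2 hZZ hSS hZS hSZ
  have rd := rk_sub h2 rc.2 ra.2 (by
    calc (S + Z) * (1 + T) = S + Z + (S * T + Z * T) := by noncomm_ring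
      _ = S + Z := by rw [← hZ', hZT, h1s, add_zero]) (by
    calc (1 + T) * (S + Z) = S + Z + (T * S + T * Z) := by noncomm_ring
      _ = S + Z := by rw [← hZ, hTZ, h1s, add_zero])
  have hP : 1 + T + (S + Z) = U + U' := by rw [hsum]; abel
  rw [hP] at rd
  have re := rk_sub h2 hZZ hUU hZU hUZ
  have rf := rk_sub h2 hZZ hUU' hZU' hU'Z
  have rg := rk_sub h2 re.2 rd.2 (by
    calc (U + Z) * (U + U') = U * U + U * U' + Z * U + Z * U' := by noncomm_ring
      _ = U + Z + (Z + Z) := by rw [hUU, hUU'1, hZU, hZU']; abel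
      _ = _ := by rw [h1s, add_zero]) (by
    calc (U + U') * (U + Z) = U * U + U * Z + U' * U + U' * Z := by noncomm_ring
      _ = U + Z + (Z + Z) := by rw [hUU, hUZ, hU'U, hU'Z]; abel
      _ = _ := by rw [h1s, add_zero])
  have hQ : U + U' + (U + Z) = U' + Z := by
    calc U + U' + (U + Z) = (U + U) + (U' + Z) := by abel
      _ = _ := by rw [h1s, zero_add]
  rw [hQ] at rg
  rw [← hZ]
  refine ⟨by omega, by omega, by omega, by omega, hZZ, ?_, rc.2, re.2⟩
  rw [← hZ']

/-- a self-adjoint idempotent has even rank -/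
theorem even_rk (B : LinearMap.BilinForm K V) (hA : B.IsAlt) (hnd : ∀ u, (∀ v, B u v = 0) → u = 0)
    {p : Module.End K V} (hp : p * p = p) (hadj : ∀ v w, B (p v) w = B v (p w)) : Even (rk p) := by
  unfold rk
  refine H953.even_finrank_of_alt (B.restrict (LinearMap.range p)) (fun u => hA u.1) ?_
  rintro ⟨u, u', rfl⟩ hu
  apply Subtype.ext
  change p u' = 0
  apply hnd
  intro w
  have h1 := hu ⟨p w, ⟨w, rfl⟩⟩
  have h2 : B (p u') (p w) = 0 := h1
  rw [← hadj, ← Module.End.mul_apply, hp] at h2
  exact h2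

theorem adj_prj {B : LinearMap.BilinForm K V} (hB : ∀ g v w, B (r g v) (r g w) = B v w)
    {g : alternatingGroup (Fin 7)} (hg : g * g * g = 1) (v w : V) : B (prj r g v) w = B v (prj r g w) := by
  have h3 : ∀ v, r g (r g (r g v)) = v := fun v => LinearMap.congr_fun (r_three (r := r) hg) v
  have a1 : ∀ v w, B (r g v) w = B v (r g (r g w)) := fun v w => by rw [← hB g v, h3]
  have a2 : ∀ v w, B (r g (r g v)) w = B v (r g w) := fun v w => by rw [a1, a1, h3]
  unfold prj
  simp only [LinearMap.add_apply, Module.End.one_apply, Module.End.mul_apply, map_add, a1, h3]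
  ring

theorem adj_add {B : LinearMap.BilinForm K V} {X Y : Module.End K V} (hX : ∀ v w, B (X v) w = B v (X w))
    (hY : ∀ v w, B (Y v) w = B v (Y w)) (v w : V) : B ((X + Y) v) w = B v ((X + Y) w) := by
  simp only [LinearMap.add_apply, map_add, hX, hY]

theorem adj_mul {B : LinearMap.BilinForm K V} {X Y : Module.End K V} (hX : ∀ v w, B (X v) w = B v (X w))
    (hY : ∀ v w, B (Y v) w = B v (Y w)) (hc : X * Y = Y * X) (v w : V) :
    B ((X * Y) v) w = B v ((X * Y) w) := by
  rw [hc, Module.End.mul_apply, hY, hX, ← Module.End.mul_apply, hc]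

/-- **The ranks.** -/
theorem ranks (h2 : (2 : K) = 0) (B : LinearMap.BilinForm K V) (hA : B.IsAlt) (hnd : ∀ u, (∀ v, B u v = 0) → u = 0)
    (hB : ∀ g v w, B (r g v) (r g w) = B v w) (h6 : finrank K V = 6) (hinj : Function.Injective r) :
    rk (prj r pt) = 4 ∨ rk (prj r (pt * ps)) = 4 := by
  obtain ⟨e1, e2, e3, e4, i1, i2, i3, i4⟩ := rank_rel (r := r) h2
  have aT := adj_prj (r := r) hB pt_three
  have aS := adj_prj (r := r) hB ps_three
  have aU := adj_prj (r := r) hB (g := pt * ps) (by decide +kernel)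
  have aZ := adj_mul aT aS i2
  obtain ⟨a, ha⟩ := even_rk B hA hnd i3 (adj_add aS aZ)
  obtain ⟨b, hb⟩ := even_rk B hA hnd i4 (adj_add aU aZ)
  obtain ⟨c, hc⟩ := even_rk B hA hnd i1 aZ
  have hy : rk (prj r (pt * (ps * ps))) = rk (prj r (pt * ps)) := by
    obtain ⟨w, hw⟩ := conj_u
    rw [← hw, rk_prj_conj]
  have hx : rk (prj r ps) = rk (prj r pt) := by
    obtain ⟨w, hw⟩ := conj_ts
    rw [← hw, rk_prj_conj]
  have hne : rk (prj r pt) ≠ 6 := by
    intro h
    have h3 : LinearMap.range (prj r pt) = ⊤ := Submodule.eq_top_of_finrank_eq (by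
      unfold rk at h
      rw [h, h6])
    have h4 : r pt = r 1 := by
      apply LinearMap.ext
      intro v
      rw [map_one, Module.End.one_apply]
      apply fixed_of_prj pt_three
      rw [h3]
      trivial
    exact absurd (hinj h4) (by decide +kernel)
  omega

/-- the stabilizer of a vector -/
def fixer (r : alternatingGroup (Fin 7) →* Module.End K V) (v : V) : Subgroup (alternatingGroup (Fin 7)) where
  carrier := {g | r g v = v}
  one_mem' := by
    change r 1 v = v
    rw [map_one]; rfl
  mul_mem' := fun {a b} ha hb => by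
    change r (a * b) v = v
    have ha' : r a v = v := ha
    have hb' : r b v = v := hb
    rw [map_mul, Module.End.mul_apply, hb', ha']
  inv_mem' := fun {a} ha => by
    change r a⁻¹ v = v
    have ha' : r a v = v := ha
    have h1 : r a⁻¹ * r a = 1 := by rw [← map_mul, inv_mul_cancel, map_one]
    calc r a⁻¹ v = r a⁻¹ (r a v) := by rw [ha']
      _ = v := LinearMap.congr_fun h1 v

theorem no_fixed (h6 : finrank K V = 6) (hirr : ∀ W : Submodule K V, (∀ g, ∀ w ∈ W, r g w ∈ W) → W = ⊥ ∨ W = ⊤)
    {v : V} (hv : ∀ g, r g v = v) : v = 0 := by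
  rcases hirr (Submodule.span K {v}) (by
    intro g w hw
    obtain ⟨c, rfl⟩ := Submodule.mem_span_singleton.1 hw
    rw [map_smul, hv]
    exact hw) with h | h
  · exact Submodule.span_singleton_eq_bot.1 h
  · exfalso
    have h1 := finrank_span_le_card (R := K) ({v} : Set V)
    rw [h, finrank_top, h6, Set.toFinset_singleton, Finset.card_singleton] at h1
    omega

theorem mem_fix (h2 : (2 : K) = 0) {g : alternatingGroup (Fin 7)} (hg : g * g * g = 1) {v : V} :
    v ∈ LinearMap.range (prj r g) ↔ r g v = v :=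
  ⟨fixed_of_prj hg, fun h => ⟨v, prj_fix h2 h⟩⟩

section elts

open Equiv Equiv.Perm

/-- an element of `A₇` -/
def mk7 (p : Perm (Fin 7)) (h : sign p = 1 := by decide) : alternatingGroup (Fin 7) :=
  ⟨p, mem_alternatingGroup.2 h⟩

/-- `(1 2 3)(4 5 6)` -/
def gy : alternatingGroup (Fin 7) := mk7 (swap 1 2 * swap 2 3 * swap 4 5 * swap 5 6)

theorem conj_gy : ∃ w : alternatingGroup (Fin 7), w * (pt * ps) * w⁻¹ = gy := by
  refine ⟨mk7 (swap 0 1 * swap 1 2 * swap 2 3 * swap 3 4 * swap 4 5 * swap 5 6), ?_⟩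
  decide +kernel

/-- the seven-cycle -/
def g7 : alternatingGroup (Fin 7) := mk7 (swap 0 1 * swap 1 2 * swap 2 3 * swap 3 4 * swap 4 5 * swap 5 6)
/-- `(1 2 3)` -/
def g1 : alternatingGroup (Fin 7) := mk7 (swap 1 2 * swap 2 3)
/-- `(2 3 4)` -/
def g2 : alternatingGroup (Fin 7) := mk7 (swap 2 3 * swap 3 4)
/-- `(2 3 5)` -/
def g3 : alternatingGroup (Fin 7) := mk7 (swap 2 3 * swap 3 5)

end elts

/-- the second case is impossible -/
theorem case_u (h2 : (2 : K) = 0) (h6 : finrank K V = 6)
    (hirr : ∀ W : Submodule K V, (∀ g, ∀ w ∈ W, r g w ∈ W) → W = ⊥ ∨ W = ⊤) (h : rk (prj r (pt * ps)) = 4) : False := by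
  obtain ⟨w, hw⟩ := conj_gy
  have hy : rk (prj r gy) = 4 := by rw [← hw, rk_prj_conj, h]
  unfold rk at h hy
  have d1 := Submodule.finrank_sup_add_finrank_inf_eq (LinearMap.range (prj r (pt * ps))) (LinearMap.range (prj r gy))
  have d2 := Submodule.finrank_le (LinearMap.range (prj r (pt * ps)) ⊔ LinearMap.range (prj r gy))
  have d5 : LinearMap.range (prj r (pt * ps)) ⊓ LinearMap.range (prj r gy) ≠ ⊥ := by
    intro h0
    rw [h0, finrank_bot] at d1
    omega
  obtain ⟨v, ⟨hv1, hv2⟩, hv0⟩ := Submodule.exists_mem_ne_zero_of_ne_bot d5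
  apply hv0
  apply no_fixed h6 hirr
  have k1 : pt * ps ∈ fixer r v := fixed_of_prj (by decide +kernel) hv1
  have k2 : gy ∈ fixer r v := fixed_of_prj (by decide +kernel) hv2
  have h4 := H637.SevenA7.eq_top_of (fixer r v) ((pt * ps) * (pt * ps) * gy * (pt * ps) * gy * gy)
    ((pt * ps) * gy * (pt * ps) * gy)
    (mul_mem (mul_mem (mul_mem (mul_mem (mul_mem k1 k1) k2) k1) k2) k2) (mul_mem (mul_mem (mul_mem k1 k2) k1) k2)
    (by decide +kernel) (card_support_eq_three_iff.1 (by decide +kernel))
  intro g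
  have : g ∈ fixer r v := by rw [h4]; trivial
  exact this

/-- a common fixed vector of `A₆` -/
theorem case_t (h2 : (2 : K) = 0) (h6 : finrank K V = 6)
    (hirr : ∀ W : Submodule K V, (∀ g, ∀ w ∈ W, r g w ∈ W) → W = ⊥ ∨ W = ⊤) (h : rk (prj r pt) = 4) :
    ∃ v : V, v ≠ 0 ∧ r pt v = v ∧ r g2 v = v ∧ r g3 v = v := by
  have hc : ∀ g : alternatingGroup (Fin 7), (∃ w, w * pt * w⁻¹ = g) → finrank K (LinearMap.range (prj r g)) = 4 := by
    rintro g ⟨w, rfl⟩
    have := rk_prj_conj (r := r) w pt
    unfold rk at this h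
    rw [this, h]
  have k0 := hc pt ⟨1, by group⟩
  have k1 := hc g1 ⟨g7, by decide +kernel⟩
  have k2 := hc g2 ⟨g7 * g7, by decide +kernel⟩
  have k3 := hc g3 ⟨mk7 (Equiv.swap 0 2 * Equiv.swap 2 5 * Equiv.swap 5 6 * Equiv.swap 6 4 * Equiv.swap 4 1 * Equiv.swap 1 3), by decide +kernel⟩
  set A := LinearMap.range (prj r pt) with hA
  set B := LinearMap.range (prj r g1) with hB
  set C := LinearMap.range (prj r g2) with hC
  set D := LinearMap.range (prj r g3) with hD
  have m0 : ∀ {v}, v ∈ A ↔ r pt v = v := mem_fix h2 pt_three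
  have m1 : ∀ {v}, v ∈ B ↔ r g1 v = v := mem_fix h2 (by decide +kernel)
  have m2 : ∀ {v}, v ∈ C ↔ r g2 v = v := mem_fix h2 (by decide +kernel)
  have m3 : ∀ {v}, v ∈ D ↔ r g3 v = v := mem_fix h2 (by decide +kernel)
  -- `A ⊓ B` has dimension at most three
  have d3 : finrank K (A ⊓ B : Submodule K V) ≤ 3 := by
    by_contra hcon
    have h7 : A ⊓ B = A := Submodule.eq_of_le_of_finrank_le inf_le_left (by rw [k0]; omega)
    have h8 : A ⊓ B = B := Submodule.eq_of_le_of_finrank_le inf_le_right (by rw [k1]; omega)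
    have h9 : A = B := h7.symm.trans h8
    let H : Subgroup (alternatingGroup (Fin 7)) :=
      { carrier := {g | ∀ v, v ∈ A ↔ r g v ∈ A}
        one_mem' := by
          intro v
          rw [map_one, Module.End.one_apply]
        mul_mem' := fun {a b} ha hb v => by
          rw [map_mul, Module.End.mul_apply, ← ha, ← hb]
        inv_mem' := fun {a} ha v => by
          have h1 : r a * r a⁻¹ = 1 := by rw [← map_mul, mul_inv_cancel, map_one]
          have h3 : r a (r a⁻¹ v) = v := LinearMap.congr_fun h1 v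
          rw [ha (r a⁻¹ v), h3] }
    have e1 : pt ∈ H := by
      intro v
      have hh : pt * pt * pt = 1 := pt_three
      constructor
      · intro hv
        rw [m0.1 hv]
        exact hv
      · intro hv
        have h3 : r pt (r pt (r pt v)) = v := LinearMap.congr_fun (r_three (r := r) hh) v
        have h5 := m0.1 hv
        rw [h5, h5] at h3
        rw [← h3]
        exact hv
    have e2 : g7 ∈ H := by
      intro v
      have hg : g1 = g7 * pt * g7⁻¹ := by decide +kernel
      have h1 : r g7⁻¹ * r g7 = 1 := by rw [← map_mul, inv_mul_cancel, map_one]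
      have h3 : r g7⁻¹ (r g7 v) = v := LinearMap.congr_fun h1 v
      have h1' : r g7 * r g7⁻¹ = 1 := by rw [← map_mul, mul_inv_cancel, map_one]
      have h5 : r g1 (r g7 v) = r g7 (r pt v) := by
        rw [hg, map_mul, map_mul, Module.End.mul_apply, Module.End.mul_apply, h3]
      rw [m0]
      conv_rhs => rw [h9, m1, h5]
      constructor
      · intro hv
        rw [hv]
      · intro hv
        have h10 := congrArg (r g7⁻¹) hv
        rw [h3] at h10
        calc r pt v = r g7⁻¹ (r g7 (r pt v)) := (LinearMap.congr_fun h1 (r pt v)).symm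
          _ = v := h10
    have e3 := H637.SevenA7.eq_top_of H g7 pt e2 e1 (by decide +kernel)
      (card_support_eq_three_iff.1 (by decide +kernel))
    rcases hirr A (fun g w hw => by
      have : g ∈ H := by rw [e3]; trivial
      exact (this w).1 hw) with h10 | h10
    · rw [h10, finrank_bot] at k0
      omega
    · rw [h10, finrank_top, h6] at k0
      omega
  have n1 : A ⊓ C ≤ A ⊓ B := by
    intro v hv
    have a1 : pt ∈ fixer r v := m0.1 hv.1
    have a2 : g2 ∈ fixer r v := m2.1 hv.2
    have a3 : g1 = g2 * pt * pt * g2 * g2 * pt := by decide +kernel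
    have a4 : g1 ∈ fixer r v := by
      rw [a3]
      exact mul_mem (mul_mem (mul_mem (mul_mem (mul_mem a2 a1) a1) a2) a2) a1
    exact ⟨hv.1, m1.2 a4⟩
  have n2 : A ⊓ D ≤ A ⊓ B := by
    intro v hv
    have a1 : pt ∈ fixer r v := m0.1 hv.1
    have a2 : g3 ∈ fixer r v := m3.1 hv.2
    have a3 : g1 = g3 * pt * pt * g3 * g3 * pt := by decide +kernel
    have a4 : g1 ∈ fixer r v := by
      rw [a3]
      exact mul_mem (mul_mem (mul_mem (mul_mem (mul_mem a2 a1) a1) a2) a2) a1
    exact ⟨hv.1, m1.2 a4⟩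
  have d1 := Submodule.finrank_sup_add_finrank_inf_eq A C
  have d2 := Submodule.finrank_le (A ⊔ C)
  have d4 := Submodule.finrank_sup_add_finrank_inf_eq A D
  have d5 := Submodule.finrank_le (A ⊔ D)
  have d6 := Submodule.finrank_sup_add_finrank_inf_eq (A ⊓ C) (A ⊓ D)
  have d7 : finrank K ((A ⊓ C) ⊔ (A ⊓ D) : Submodule K V) ≤ 3 :=
    (Submodule.finrank_mono (sup_le n1 n2)).trans d3
  have d8 : (A ⊓ C) ⊓ (A ⊓ D) ≠ ⊥ := by
    intro h0
    rw [h0, finrank_bot] at d6
    omega
  obtain ⟨v, ⟨hv1, hv2⟩, hv0⟩ := Submodule.exists_mem_ne_zero_of_ne_bot d8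
  exact ⟨v, hv0, m0.1 hv1.1, m2.1 hv1.2, m3.1 hv2.2⟩

section six

open Equiv Equiv.Perm

/-- an element of `A₆` -/
def mk6 (p : Perm (Fin 6)) (h : sign p = 1 := by decide) : alternatingGroup (Fin 6) :=
  ⟨p, mem_alternatingGroup.2 h⟩

set_option maxRecDepth 20000 in
/-- `A₆` is generated by `(0 1 2)`, `(2 3 4)`, `(2 3 5)` -/
theorem fix_six {v : V} (h0 : r pt v = v) (h2 : r g2 v = v) (h3 : r g3 v = v) {g : alternatingGroup (Fin 7)}
    (hg : (g : Perm (Fin 7)) 6 = 6) : r g v = v := by
  obtain ⟨x, rfl⟩ := H917.Om.mem_range_up (n := 6) hg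
  have m0 : mk6 (swap 0 1 * swap 1 2) ∈ (fixer r v).comap (H917.Om.up 6) := by
    change r (H917.Om.up 6 _) v = v
    have e : H917.Om.up 6 (mk6 (swap 0 1 * swap 1 2)) = pt := by decide
    rw [e, h0]
  have m2 : mk6 (swap 2 3 * swap 3 4) ∈ (fixer r v).comap (H917.Om.up 6) := by
    change r (H917.Om.up 6 _) v = v
    have e : H917.Om.up 6 (mk6 (swap 2 3 * swap 3 4)) = g2 := by decide
    rw [e, h2]
  have m3 : mk6 (swap 2 3 * swap 3 5) ∈ (fixer r v).comap (H917.Om.up 6) := by
    change r (H917.Om.up 6 _) v = v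
    have e : H917.Om.up 6 (mk6 (swap 2 3 * swap 3 5)) = g3 := by decide
    rw [e, h3]
  have h4 := H917.Om.eq_top_prim ((fixer r v).comap (H917.Om.up 6)) 5 _ _ _ (mul_mem m0 m2) m3 m0
    (by decide) (by decide) (by decide) (card_support_eq_three_iff.1 (by decide))
  have : x ∈ (fixer r v).comap (H917.Om.up 6) := by rw [h4]; trivial
  exact this

end six

/-- **The permuted basis.** -/
theorem exists_basis (h2 : (2 : K) = 0) (B : LinearMap.BilinForm K V) (hA : B.IsAlt)
    (hnd : ∀ u, (∀ v, B u v = 0) → u = 0) (hB : ∀ g v w, B (r g v) (r g w) = B v w) (h6 : finrank K V = 6)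
    (hinj : Function.Injective r) (hirr : ∀ W : Submodule K V, (∀ g, ∀ w ∈ W, r g w ∈ W) → W = ⊥ ∨ W = ⊤) :
    ∃ b : Module.Basis (Fin 6) K V, ∀ g : alternatingGroup (Fin 7), (g : Equiv.Perm (Fin 7)) 6 = 6 →
      ∀ i, ∃ j, r g (b i) = b j := by
  rcases ranks h2 B hA hnd hB h6 hinj with h | h
  · obtain ⟨v, hv0, k0, k2, k3⟩ := case_t h2 h6 hirr h
    obtain ⟨u, hu, hu2⟩ := H637.SevenA8.exists_translates (by norm_num) r (6 : Fin 7) v
      (fun g hg => fix_six k0 k2 k3 hg)
    have hsum : ∑ i, u i = 0 := by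
      apply no_fixed h6 hirr
      intro g
      rw [map_sum, ← Equiv.sum_comp (g : Equiv.Perm (Fin 7)) u]
      exact Finset.sum_congr rfl fun i _ => hu2 g i
    have hspan : Submodule.span K (Set.range u) = ⊤ := by
      rcases hirr (Submodule.span K (Set.range u)) (by
        intro g w hw
        induction hw using Submodule.span_induction with
        | mem x hx =>
          obtain ⟨i, rfl⟩ := hx
          rw [hu2]
          exact Submodule.subset_span ⟨_, rfl⟩
        | zero => rw [map_zero]; exact Submodule.zero_mem _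
        | add x y _ _ hx hy => rw [map_add]; exact Submodule.add_mem _ hx hy
        | smul c x _ hx => rw [map_smul]; exact Submodule.smul_mem _ _ hx) with h3 | h3
      · exfalso
        apply hv0
        rw [← hu]
        have h4 : u 6 ∈ Submodule.span K (Set.range u) := Submodule.subset_span ⟨6, rfl⟩
        rw [h3] at h4
        exact (Submodule.mem_bot K).1 h4
      · exact h3
    let b : Fin 6 → V := fun i => u i.castSucc
    have hb : (⊤ : Submodule K V) ≤ Submodule.span K (Set.range b) := by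
      rw [← hspan, Submodule.span_le]
      rintro _ ⟨i, rfl⟩
      by_cases hi : i = Fin.last 6
      · have h3 : u (Fin.last 6) = -∑ j, b j := by
          rw [Fin.sum_univ_castSucc] at hsum
          exact eq_neg_of_add_eq_zero_right hsum
        rw [hi, h3]
        exact Submodule.neg_mem _ (Submodule.sum_mem _ fun j _ => Submodule.subset_span ⟨j, rfl⟩)
      · obtain ⟨j, rfl⟩ := Fin.exists_castSucc_eq.2 hi
        exact Submodule.subset_span ⟨j, rfl⟩
    refine ⟨basisOfTopLeSpanOfCardEqFinrank b hb (by rw [Fintype.card_fin, h6]), fun g hg i => ?_⟩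
    rw [coe_basisOfTopLeSpanOfCardEqFinrank]
    change ∃ j, r g (u i.castSucc) = u (Fin.castSucc j)
    rw [hu2]
    have h3 : (g : Equiv.Perm (Fin 7)) i.castSucc ≠ Fin.last 6 := by
      intro h4
      have h5 : (g : Equiv.Perm (Fin 7)) i.castSucc = (g : Equiv.Perm (Fin 7)) 6 := by rw [hg, h4]; rfl
      have h7 := (g : Equiv.Perm (Fin 7)).injective h5
      exact absurd h7 (Fin.castSucc_lt_last i).ne
    obtain ⟨j, hj⟩ := Fin.exists_castSucc_eq.2 h3
    exact ⟨j, by rw [hj]⟩
  · exact (case_u h2 h6 hirr h).elim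

end rep

/-- **`A₇` in dimension 6, characteristic two: an invariant quadratic form.** -/
theorem a7_two {F : Type u} [Field F] [Finite F] [CharP F 2] {ι : Type} [Fintype ι] [DecidableEq ι]
    {P : Subgroup (GL ι F)} (hC : Core P) (hA : FixA P) (hn : Fintype.card ι = 6)
    (hZ : (scalars ι F).subgroupOf P = ⊥) (e : Soc P ≃* alternatingGroup (Fin 7)) : FixQ P := by
  obtain ⟨f, hf, hfix⟩ := hA
  have h2 : (2 : F) = 0 := by
    have := CharP.cast_eq_zero F 2
    exact_mod_cast this
  have hinj : Function.Injective (toSoc P) := by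
    rw [← MonoidHom.ker_eq_bot_iff, ker_toSoc, hZ]
  let φ : P ≃* alternatingGroup (Fin 7) := (MulEquiv.ofBijective (toSoc P) ⟨hinj, toSoc_surjective P⟩).trans e
  let θ : alternatingGroup (Fin 7) →* GL ι F := P.subtype.comp φ.symm.toMonoidHom
  have hθ : Function.Injective θ := P.subtype_injective.comp φ.symm.injective
  have hθP : (⊤ : Subgroup (alternatingGroup (Fin 7))).map θ = P := by
    ext g
    constructor
    · rintro ⟨x, -, rfl⟩
      exact (φ.symm x).2
    · intro hg
      refine ⟨φ ⟨g, hg⟩, trivial, ?_⟩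
      change ((φ.symm (φ ⟨g, hg⟩) : P) : GL ι F) = g
      rw [MulEquiv.symm_apply_apply]
  have hmem : ∀ g, θ g ∈ P := fun g => (φ.symm g).2
  let r : alternatingGroup (Fin 7) →* Module.End F (ι → F) :=
    ((Matrix.toLinAlgEquiv' (R := F) (n := ι)).toAlgHom.toMonoidHom.comp (Units.coeHom (Matrix ι ι F))).comp θ
  have hr : ∀ g v, r g v = (θ g : Matrix ι ι F) *ᵥ v := fun g v => rfl
  have hinv : InvB P f := invB_of_fixes hfix
  have hirr : ∀ W : Submodule F (ι → F), (∀ g, ∀ w ∈ W, r g w ∈ W) → W = ⊥ ∨ W = ⊤ := by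
    intro W hW
    apply hC.absIrred.1 W
    rintro _ ⟨g, hg, rfl⟩
    rw [← hθP] at hg
    obtain ⟨x, -, rfl⟩ := hg
    rintro _ ⟨w, hw, rfl⟩
    exact hW x w hw
  obtain ⟨b, hb⟩ := exists_basis (r := r) h2 (H953.toBil hf) (H953.toBil_isAlt hf) (fun u h => H953.toBil_nd hf u h)
    (fun g v w => by
      rw [H953.toBil_apply, H953.toBil_apply, hr, hr]
      exact hinv _ (hmem g) v w)
    (by rw [Module.finrank_fintype_fun_eq_card, hn]) (by
      intro g g' h
      apply hθ
      apply Units.ext
      exact (Matrix.toLinAlgEquiv' (R := F) (n := ι)).injective h) hirr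
  let St : Subgroup (alternatingGroup (Fin 7)) := MulAction.stabilizer (alternatingGroup (Fin 7)) (6 : Fin 7)
  have hle : St.map θ ≤ P := by
    rw [← hθP]
    exact Subgroup.map_mono le_top
  refine fixQ_of_sub (K := St.map θ) h2 hf hinv hle ?_ (of_monomial h2 hf (hinv.mono hle) b ?_)
  · have htr : MulAction.IsPretransitive (alternatingGroup (Fin 7)) (Fin 7) := by
      refine ⟨fun i j => ?_⟩
      obtain ⟨g, hg⟩ := H637.SevenA8.exists_map (by norm_num) i j
      exact ⟨g, hg⟩
    have h3 : (St.map θ).relIndex P = 7 := by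
      rw [← hθP, Subgroup.relIndex_map_map_of_injective _ _ hθ, Subgroup.relIndex_top_right,
        MulAction.index_stabilizer_of_transitive, Nat.card_eq_fintype_card, Fintype.card_fin]
    rw [h3]
    decide
  · rintro _ ⟨g, hg, rfl⟩ i
    obtain ⟨j, hj⟩ := hb g hg i
    refine ⟨1, j, ?_⟩
    rw [one_smul, ← hj, hr]

end Cfsg.Agent.H936.SixA7Two
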