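import Mathlib
import Cfsg.Agent.H936.AutPow
import Cfsg.Agent.H936.DSFour

/-!
# Subgroups of symmetric groups: reduction to the subgroups maximal among those not containing the alternating group
-/

set_option autoImplicit false

open Equiv

namespace Cfsg.Agent.H936

theorem derivedSeries_eq_bot_of_inj {A B : Type*} [Group A] [Group B] {f : A →* B} (hf : Function.Injective f)
    {k : ℕ} (h : derivedSeries B k = ⊥) : derivedSeries A k = ⊥ := by
  rw [eq_bot_iff]
  intro x hx
  have h1 : f x ∈ derivedSeries B k := map_derivedSeries_le f k ⟨x, hx, rfl⟩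
  rw [h, Subgroup.mem_bot] at h1
  rw [Subgroup.mem_bot]
  exact (map_eq_one_iff f hf).1 h1

theorem derivedSeries_perm_le_four {α : Type*} [Finite α] (h : Nat.card α ≤ 4) :
    derivedSeries (Perm α) 3 = ⊥ := by
  have := Fintype.ofFinite α
  have h1 : Fintype.card α ≤ Fintype.card (Fin 4) := by
    rw [Nat.card_eq_fintype_card] at h
    simpa using h
  obtain ⟨e⟩ := Function.Embedding.nonempty_of_card_le h1
  exact derivedSeries_eq_bot_of_inj (f := Perm.viaEmbeddingHom e) (Perm.viaEmbeddingHom_injective e)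
    (derivedSeries_perm_four le_rfl)

theorem ps_perm (α : Type*) [Finite α] : PS 3 (Perm α) := by
  classical
  by_cases h : Nat.card α ≤ 4
  · exact PS.of_bot (derivedSeries_perm_le_four h)
  · have := Fintype.ofFinite α
    have h5 : 5 ≤ Nat.card α := by omega
    have h1 : derivedSeries (Perm α) 1 = alternatingGroup α := by
      rw [derivedSeries_one, alternatingGroup.commutator_perm_eq h5]
    have h2 : PS 1 (Perm α) := by
      unfold PS
      rw [derivedSeries_succ, h1, commutator_alternatingGroup_eq_self h5]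
    exact h2.mono (by norm_num)

variable {Ω : Type*} [Fintype Ω] [DecidableEq Ω]

theorem ps_of_alt_le (h5 : 5 ≤ Nat.card Ω) {H : Subgroup (Perm Ω)} (h : alternatingGroup Ω ≤ H) : PS 1 H := by
  refine PS.of_perfect (commutator_alternatingGroup_eq_self h5) h ?_
  rw [derivedSeries_one, alternatingGroup.commutator_perm_eq h5]

theorem ps_inf_alt {k : ℕ} {V : Subgroup (Perm Ω)} (h : PS k V) : PS k ↥(alternatingGroup Ω ⊓ V) := by
  have h1 : derivedSeries V k ≤ (alternatingGroup Ω).subgroupOf V := by
    have h2 : derivedSeries V k ≤ derivedSeries V 1 := by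
      rw [← h.eq (Nat.le_succ k)]
      exact derivedSeries_antitone V (by omega)
    refine h2.trans ?_
    rw [derivedSeries_one]
    have h3 : (alternatingGroup Ω).subgroupOf V = (Perm.sign.comp V.subtype).ker := rfl
    rw [h3]
    exact Abelianization.commutator_subset_ker _
  have h2 := h.of_le h1
  rw [← Subgroup.inf_subgroupOf_right] at h2
  exact PS.of_equiv (Subgroup.subgroupOfEquivOfLe inf_le_right) h2

/-- A group of permutations preserving a non-trivial relation does not contain the alternating group. -/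
theorem not_alt_le_of_rel (h4 : 4 ≤ Nat.card Ω) (R : Ω → Ω → Prop) {W : Subgroup (Perm Ω)}
    (hW : ∀ w ∈ W, ∀ a b, R a b → R (w a) (w b)) {x y z : Ω} (hxy : x ≠ y) (hxz : x ≠ z) 
    (h1 : R x y) (h2 : ¬ R x z) : ¬ alternatingGroup Ω ≤ W := by
  intro hle
  have hyz : y ≠ z := by
    rintro rfl
    exact h2 h1
  have h3 : ∃ u, u ∉ ({x, y, z} : Finset Ω) := by
    by_contra hcon
    push Not at hcon
    have h4' : Finset.univ ⊆ ({x, y, z} : Finset Ω) := fun u _ => hcon u
    have h5 := Finset.card_le_card h4'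
    have h6 : ({x, y, z} : Finset Ω).card ≤ 3 := Finset.card_le_three
    rw [Finset.card_univ, ← Nat.card_eq_fintype_card] at h5
    omega
  obtain ⟨u, hu⟩ := h3
  simp only [Finset.mem_insert, Finset.mem_singleton, not_or] at hu
  obtain ⟨hux, huy, huz⟩ := hu
  have hg : swap y z * swap y u ∈ alternatingGroup Ω := by
    rw [Perm.mem_alternatingGroup, Perm.sign_mul, Perm.sign_swap hyz, Perm.sign_swap (Ne.symm huy)]
    rfl
  -- maps `z` to `y`
  have hg' := hW _ (Subgroup.inv_mem _ (hle hg)) x y h1
  have e1 : (swap y z * swap y u)⁻¹ x = x := by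
    rw [mul_inv_rev, swap_inv, swap_inv, Perm.mul_apply, swap_apply_of_ne_of_ne hxy hxz,
      swap_apply_of_ne_of_ne hxy (Ne.symm hux)]
  have e2 : (swap y z * swap y u)⁻¹ y = z := by
    rw [mul_inv_rev, swap_inv, swap_inv, Perm.mul_apply, swap_apply_left,
      swap_apply_of_ne_of_ne (Ne.symm hyz) (Ne.symm huz)]
  rw [e1, e2] at hg'
  exact h2 hg'

theorem exists_max {V : Subgroup (Perm Ω)} (hV : ¬ alternatingGroup Ω ≤ V) :
    ∃ W, V ≤ W ∧ ¬ alternatingGroup Ω ≤ W ∧ ∀ X, W ≤ X → ¬ alternatingGroup Ω ≤ X → X = W := by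
  have hfin : Set.Finite {W : Subgroup (Perm Ω) | V ≤ W ∧ ¬ alternatingGroup Ω ≤ W} := Set.toFinite _
  obtain ⟨W, hW⟩ := hfin.exists_maximal ⟨V, le_rfl, hV⟩
  refine ⟨W, hW.prop.1, hW.prop.2, fun X hX hX' => ?_⟩
  exact le_antisymm (hW.le_of_ge ⟨hW.prop.1.trans hX, hX'⟩ hX) hX

/-- **Reduction to the subgroups maximal among those not containing the alternating group.** -/
theorem reduction {k : ℕ} (hk : 1 ≤ k) (h5 : 5 ≤ Nat.card Ω)
    (hmain : ∀ V : Subgroup (Perm Ω), ¬ alternatingGroup Ω ≤ V →
      (∀ W, V ≤ W → ¬ alternatingGroup Ω ≤ W → W = V) → PS k V) :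
    (∀ H : Subgroup (Perm Ω), IsCoatom H → PS k H) ∧
      ∀ H : Subgroup (alternatingGroup Ω), IsCoatom H → PS k H := by
  constructor
  · intro H hH
    by_cases hle : alternatingGroup Ω ≤ H
    · exact (ps_of_alt_le h5 hle).mono hk
    · obtain ⟨W, h1, h2, h3⟩ := exists_max hle
      have h4 : W = H := by
        rcases hH.le_iff.1 h1 with h | h
        · exact absurd (h ▸ le_top) h2
        · exact h
      rw [← h4]
      exact hmain W h2 h3
  · intro H hH
    have hle : ¬ alternatingGroup Ω ≤ H.map (alternatingGroup Ω).subtype := by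
      intro hle
      apply hH.1
      rw [eq_top_iff]
      intro x _
      obtain ⟨y, hy, hyx⟩ := hle x.2
      have : y = x := Subtype.ext hyx
      exact this ▸ hy
    obtain ⟨W, h1, h2, h3⟩ := exists_max hle
    have h4 : W.subgroupOf (alternatingGroup Ω) = H := by
      have h5 : H ≤ W.subgroupOf (alternatingGroup Ω) := by
        rw [Subgroup.subgroupOf, ← Subgroup.map_le_iff_le_comap]
        exact h1
      rcases hH.le_iff.1 h5 with h | h
      · rw [Subgroup.subgroupOf_eq_top] at h
        exact absurd h h2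
      · exact h
    have h6 := ps_inf_alt (hmain W h2 h3)
    rw [← h4]
    rw [← Subgroup.inf_subgroupOf_left]
    exact PS.of_equiv (Subgroup.subgroupOfEquivOfLe inf_le_left).symm h6

omit [Fintype Ω] [DecidableEq Ω] in
theorem small_case [Finite Ω] {k : ℕ} (hk : 3 ≤ k) (h4 : Nat.card Ω ≤ 4) {A : Type*} [Group A] (f : A →* Perm Ω)
    (hf : Function.Injective f) : PS k A :=
  (PS.of_bot (derivedSeries_eq_bot_of_inj hf (derivedSeries_perm_le_four h4))).mono hk

end Cfsg.Agent.H936
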