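import Mathlib
import Cfsg.Agent.H936.PSSym

/-!
# Intransitive, imprimitive and product-action overgroups
-/

set_option autoImplicit false

open Equiv

namespace Cfsg.Agent.H936

/-- `V` is contained in a group `W` not containing the alternating group, with `W⁽⁶⁾` perfect. -/
def Good {Ω : Type*} [Fintype Ω] [DecidableEq Ω] (V : Subgroup (Perm Ω)) : Prop :=
  ∃ W, V ≤ W ∧ ¬ alternatingGroup Ω ≤ W ∧ PS 6 W

theorem Good.transport {Ω Ω' : Type*} [Fintype Ω] [DecidableEq Ω] [Fintype Ω'] [DecidableEq Ω'] (φ : Ω ≃ Ω')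
    {V : Subgroup (Perm Ω)} (h : Good (V.map φ.permCongrHom.toMonoidHom)) : Good V := by
  obtain ⟨W, h1, h2, h3⟩ := h
  refine ⟨W.comap φ.permCongrHom.toMonoidHom, Subgroup.map_le_iff_le_comap.1 h1, ?_, ?_⟩
  · intro hle
    apply h2
    intro g hg
    have h4 : φ.permCongrHom.symm g ∈ alternatingGroup Ω := by
      rw [Perm.mem_alternatingGroup] at hg ⊢
      rw [← hg]
      change Perm.sign (φ.symm.permCongr g) = _
      rw [Perm.sign_permCongr]
    have h5 := hle h4
    rw [Subgroup.mem_comap] at h5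
    have h6 : φ.permCongrHom.toMonoidHom (φ.permCongrHom.symm g) = g := φ.permCongrHom.apply_symm_apply g
    rwa [h6] at h5
  · have h4 : (W.comap φ.permCongrHom.toMonoidHom).map φ.permCongrHom.toMonoidHom = W :=
      Subgroup.map_comap_eq_self_of_surjective φ.permCongrHom.surjective W
    refine PS.of_equiv ?_ h3
    exact ((φ.permCongrHom.subgroupMap (W.comap φ.permCongrHom.toMonoidHom)).trans
      (MulEquiv.subgroupCongr h4)).symm

/-- The stabilizer of a relation. -/
def relStab {Ω : Type*} (R : Ω → Ω → Prop) : Subgroup (Perm Ω) where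
  carrier := {w | ∀ a b, R a b ↔ R (w a) (w b)}
  one_mem' := fun a b => Iff.rfl
  mul_mem' := fun {u v} hu hv a b => by
    rw [Perm.mul_apply, Perm.mul_apply, ← hu, ← hv]
  inv_mem' := fun {u} hu a b => by
    rw [hu (u⁻¹ a) (u⁻¹ b)]
    simp

section Wreath

variable {ι Δ : Type*}

/-- The base group in the imprimitive action. -/
def impBase (ι Δ : Type*) : (ι → Perm Δ) →* Perm (ι × Δ) where
  toFun a := 
    { toFun := fun x => (x.1, a x.1 x.2)
      invFun := fun x => (x.1, (a x.1)⁻¹ x.2)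
      left_inv := fun x => by simp
      right_inv := fun x => by simp }
  map_one' := rfl
  map_mul' _ _ := rfl

/-- The top group in the imprimitive action. -/
def impTop (ι Δ : Type*) : Perm ι →* Perm (ι × Δ) where
  toFun σ := 
    { toFun := fun x => (σ x.1, x.2)
      invFun := fun x => (σ⁻¹ x.1, x.2)
      left_inv := fun x => by simp
      right_inv := fun x => by simp }
  map_one' := rfl
  map_mul' _ _ := rfl

theorem impBase_apply (a : ι → Perm Δ) (x : ι × Δ) : impBase ι Δ a x = (x.1, a x.1 x.2) := rfl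
theorem impTop_apply (σ : Perm ι) (x : ι × Δ) : impTop ι Δ σ x = (σ x.1, x.2) := rfl

theorem ps_imp [Finite ι] [Finite Δ] : PS 6 ↥((impBase ι Δ).range ⊔ (impTop ι Δ).range) := by
  refine PS.of_two (a := 3) (b := 3) (impBase ι Δ) (impTop ι Δ) ?_ (PS.pi fun _ => ps_perm Δ) (ps_perm ι)
  intro a σ
  refine ⟨fun i => a (σ⁻¹ i), ?_⟩
  rw [← map_inv]
  apply Equiv.ext
  intro x
  rw [Perm.mul_apply, Perm.mul_apply, impTop_apply, impBase_apply, impTop_apply, impBase_apply]
  exact Prod.ext (σ.apply_symm_apply x.1) rfl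

theorem imp_le : (impBase ι Δ).range ⊔ (impTop ι Δ).range ≤ relStab fun x y : ι × Δ => x.1 = y.1 := by
  refine sup_le ?_ ?_
  · rintro _ ⟨a, rfl⟩ x y
    rfl
  · rintro _ ⟨σ, rfl⟩ x y
    exact (σ.injective.eq_iff).symm

theorem le_imp [Finite ι] [Finite Δ] : (relStab fun x y : ι × Δ => x.1 = y.1) ≤ (impBase ι Δ).range ⊔ (impTop ι Δ).range := by
  intro v hv
  rcases isEmpty_or_nonempty Δ with hΔ | ⟨⟨d₀⟩⟩
  · have : v = 1 := Equiv.ext fun x => hΔ.elim x.2
    rw [this]
    exact Subgroup.one_mem _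
  have h1 : Function.Injective fun i => (v (i, d₀)).1 := fun i j hij => (hv (i, d₀) (j, d₀)).2 hij
  let τ : Perm ι := Equiv.ofBijective _ (Finite.injective_iff_bijective.1 h1)
  have hτ : ∀ x, (v x).1 = τ x.1 := fun x => (hv x (x.1, d₀)).1 rfl
  set g := (impTop ι Δ τ)⁻¹ * v with hg
  have hg1 : ∀ x, (g x).1 = x.1 := by
    intro x
    rw [hg, ← map_inv, Perm.mul_apply, impTop_apply, hτ]
    simp
  have h2 : ∀ i, Function.Injective fun d => (g (i, d)).2 := by
    intro i d d' hd
    have h3 : g (i, d) = g (i, d') := Prod.ext ((hg1 (i, d)).trans (hg1 (i, d')).symm) hd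
    exact congrArg Prod.snd (g.injective h3)
  let a : ι → Perm Δ := fun i => Equiv.ofBijective _ (Finite.injective_iff_bijective.1 (h2 i))
  have h3 : g = impBase ι Δ a := by
    apply Equiv.ext
    intro x
    exact Prod.ext (hg1 x) rfl
  have h4 : v = impTop ι Δ τ * g := by rw [hg]; group
  rw [h4, h3]
  exact Subgroup.mul_mem _ (Subgroup.mem_sup_right ⟨τ, rfl⟩) (Subgroup.mem_sup_left ⟨a, rfl⟩)

/-- The base group in the product action. -/
def prodBase (ι Δ : Type*) : (ι → Perm Δ) →* Perm (ι → Δ) where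
  toFun a := 
    { toFun := fun x i => a i (x i)
      invFun := fun x i => (a i)⁻¹ (x i)
      left_inv := fun x => by simp
      right_inv := fun x => by simp }
  map_one' := rfl
  map_mul' _ _ := rfl

/-- The top group in the product action. -/
def prodTop (ι Δ : Type*) : Perm ι →* Perm (ι → Δ) where
  toFun σ := 
    { toFun := fun x i => x (σ⁻¹ i)
      invFun := fun x i => x (σ i)
      left_inv := fun x => by simp
      right_inv := fun x => by simp }
  map_one' := rfl
  map_mul' _ _ := by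
    ext x i
    simp [Perm.mul_apply]

theorem prodBase_apply (a : ι → Perm Δ) (x : ι → Δ) (i : ι) : prodBase ι Δ a x i = a i (x i) := rfl
theorem prodTop_apply (σ : Perm ι) (x : ι → Δ) (i : ι) : prodTop ι Δ σ x i = x (σ⁻¹ i) := rfl

theorem ps_prodAction [Finite ι] [Finite Δ] : PS 6 ↥((prodBase ι Δ).range ⊔ (prodTop ι Δ).range) := by
  refine PS.of_two (a := 3) (b := 3) (prodBase ι Δ) (prodTop ι Δ) ?_ (PS.pi fun _ => ps_perm Δ) (ps_perm ι)
  intro a σ
  refine ⟨fun i => a (σ⁻¹ i), ?_⟩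
  rw [← map_inv]
  apply Equiv.ext
  intro x
  funext i
  rw [Perm.mul_apply, Perm.mul_apply, prodTop_apply, prodBase_apply, prodTop_apply, prodBase_apply, inv_inv]
  exact congrArg (fun j => a (σ⁻¹ i) (x j)) (σ.apply_symm_apply i)

/-- Distance at most one. -/
def Near (x y : ι → Δ) : Prop := ∃ j, ∀ i, i ≠ j → x i = y i

theorem prod_le : (prodBase ι Δ).range ⊔ (prodTop ι Δ).range ≤ relStab (Near (ι := ι) (Δ := Δ)) := by
  refine sup_le ?_ ?_
  · rintro _ ⟨a, rfl⟩ x y
    refine exists_congr fun j => forall_congr' fun i => ?_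
    rw [prodBase_apply, prodBase_apply, (a i).injective.eq_iff]
  · rintro _ ⟨σ, rfl⟩ x y
    constructor
    · rintro ⟨j, hj⟩
      refine ⟨σ j, fun i hi => ?_⟩
      rw [prodTop_apply, prodTop_apply]
      refine hj _ ?_
      rintro rfl
      simp at hi
    · rintro ⟨j, hj⟩
      refine ⟨σ⁻¹ j, fun i hi => ?_⟩
      have h1 := hj (σ i) (by
        rintro rfl
        simp at hi)
      rw [prodTop_apply, prodTop_apply] at h1
      simpa using h1

theorem mem_prod [Finite ι] [Finite Δ] [Nontrivial Δ] {v : Perm (ι → Δ)}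
    (hv : ∀ j, ∃ j', ∀ x y, x j = y j ↔ (v x) j' = (v y) j') : v ∈ (prodBase ι Δ).range ⊔ (prodTop ι Δ).range := by
  classical
  choose τ₀ hτ₀ using hv
  obtain ⟨d₀, d₁, hd⟩ := exists_pair_ne Δ
  have h1 : Function.Injective τ₀ := by
    intro j k hjk
    by_contra hne
    have h2 := hτ₀ j (Function.update (fun _ => d₀) j d₁) (fun _ => d₀)
    have h3 := hτ₀ k (Function.update (fun _ => d₀) j d₁) (fun _ => d₀)
    rw [← hjk, ← h2, Function.update_self, Function.update_of_ne (Ne.symm hne)] at h3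
    exact hd (h3.1 rfl).symm
  let τ : Perm ι := Equiv.ofBijective _ (Finite.injective_iff_bijective.1 h1)
  have hτ : ∀ j x y, x j = y j ↔ (v x) (τ j) = (v y) (τ j) := hτ₀
  set g := (prodTop ι Δ τ)⁻¹ * v with hg
  have hg1 : ∀ x j, (g x) j = (v x) (τ j) := by
    intro x j
    rw [hg, ← map_inv, Perm.mul_apply, prodTop_apply, inv_inv]
  have h2 : ∀ x y j, x j = y j ↔ (g x) j = (g y) j := by
    intro x y j
    rw [hg1, hg1, hτ]
  have h3 : ∀ i, Function.Injective fun d => (g (fun _ => d)) i := by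
    intro i d d' hd
    exact (h2 (fun _ => d) (fun _ => d') i).2 hd
  let a : ι → Perm Δ := fun i => Equiv.ofBijective _ (Finite.injective_iff_bijective.1 (h3 i))
  have h4 : g = prodBase ι Δ a := by
    apply Equiv.ext
    intro x
    funext i
    exact (h2 x (fun _ => x i) i).1 rfl
  have h5 : v = prodTop ι Δ τ * g := by rw [hg]; group
  rw [h5, h4]
  exact Subgroup.mul_mem _ (Subgroup.mem_sup_right ⟨τ, rfl⟩) (Subgroup.mem_sup_left ⟨a, rfl⟩)

end Wreath

variable {Ω : Type*} [Fintype Ω] [DecidableEq Ω]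

/-- **Imprimitive groups.** -/
theorem good_of_imp (h4 : 4 ≤ Nat.card Ω) {ι Δ : Type*} [Finite ι] [Finite Δ] [Nontrivial ι] [Nontrivial Δ] (φ : Ω ≃ ι × Δ)
    {V : Subgroup (Perm Ω)} (hV : ∀ v ∈ V, ∀ x y, (φ x).1 = (φ y).1 ↔ (φ (v x)).1 = (φ (v y)).1) : Good V := by
  classical
  have := Fintype.ofFinite ι
  have := Fintype.ofFinite Δ
  apply Good.transport φ
  refine ⟨(impBase ι Δ).range ⊔ (impTop ι Δ).range, ?_, ?_, ps_imp⟩
  · refine le_trans ?_ le_imp
    rintro _ ⟨v, hv, rfl⟩ x y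
    have := hV v hv (φ.symm x) (φ.symm y)
    rwa [Equiv.apply_symm_apply, Equiv.apply_symm_apply] at this
  · obtain ⟨i, j, hij⟩ := exists_pair_ne ι
    obtain ⟨c, d, hcd⟩ := exists_pair_ne Δ
    have h5 : 4 ≤ Nat.card (ι × Δ) := by rwa [← Nat.card_congr φ]
    refine not_alt_le_of_rel h5 (fun x y : ι × Δ => x.1 = y.1) (x := (i, c)) (y := (i, d)) (z := (j, c)) ?_ ?_ ?_ rfl ?_
    · intro w hw a b hab
      exact (imp_le hw a b).1 hab
    · intro h
      exact hcd (congrArg Prod.snd h)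
    · intro h
      exact hij (congrArg Prod.fst h)
    · exact hij

/-- **Groups preserving a Cartesian decomposition.** -/
theorem good_of_cart (h4 : 4 ≤ Nat.card Ω) {ι Δ : Type*} [Finite ι] [Finite Δ] [Nontrivial ι] [Nontrivial Δ] (φ : Ω ≃ (ι → Δ))
    {V : Subgroup (Perm Ω)} (hV : ∀ v ∈ V, ∀ j, ∃ j', ∀ x y, φ x j = φ y j ↔ φ (v x) j' = φ (v y) j') : Good V := by
  classical
  have := Fintype.ofFinite ι
  have := Fintype.ofFinite Δ
  apply Good.transport φ
  refine ⟨(prodBase ι Δ).range ⊔ (prodTop ι Δ).range, ?_, ?_, ps_prodAction⟩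
  · rintro _ ⟨v, hv, rfl⟩
    apply mem_prod
    intro j
    obtain ⟨j', hj'⟩ := hV v hv j
    refine ⟨j', fun x y => ?_⟩
    have := hj' (φ.symm x) (φ.symm y)
    rwa [Equiv.apply_symm_apply, Equiv.apply_symm_apply] at this
  · obtain ⟨i, j, hij⟩ := exists_pair_ne ι
    obtain ⟨c, d, hcd⟩ := exists_pair_ne Δ
    have h5 : 4 ≤ Nat.card (ι → Δ) := by rwa [← Nat.card_congr φ]
    have hfun : ∀ {f g : ι → Δ} (k : ι), f k ≠ g k → f ≠ g := fun k h h' => h (congrFun h' k)
    refine not_alt_le_of_rel h5 Near (x := fun _ => c) (y := Function.update (fun _ => c) i d) (z := fun _ => d) ?_ ?_ ?_ ?_ ?_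
    · intro w hw a b hab
      exact (prod_le hw a b).1 hab
    · refine hfun i ?_
      rw [Function.update_self]
      exact hcd
    · exact hfun i hcd
    · exact ⟨i, fun k hk => by rw [Function.update_of_ne hk]⟩
    · rintro ⟨k, hk⟩
      by_cases hki : i = k
      · exact hcd (hk j (by rintro rfl; exact hij hki))
      · exact hcd (hk i hki)

/-- **Intransitive groups.** -/
theorem good_of_intrans (h4 : 4 ≤ Nat.card Ω) (p : Ω → Prop) {a b : Ω} (ha : p a) (hb : ¬ p b)
    {V : Subgroup (Perm Ω)} (hV : ∀ v ∈ V, ∀ x, p x ↔ p (v x)) : Good V := by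
  classical
  refine ⟨(Perm.subtypeCongrHom p).range, ?_, ?_, ?_⟩
  · intro v hv
    refine ⟨(v.subtypePerm fun x => (hV v hv x).symm, v.subtypePerm fun x => not_congr (hV v hv x).symm), ?_⟩
    ext x
    by_cases hx : p x
    · simp [Perm.subtypeCongrHom, Perm.subtypeCongr.left_apply, hx]
    · simp [Perm.subtypeCongrHom, Perm.subtypeCongr.right_apply, hx]
  · have h3 : ∃ u, u ∉ ({a, b} : Finset Ω) := by
      by_contra hcon
      push Not at hcon
      have h4' : Finset.univ ⊆ ({a, b} : Finset Ω) := fun u _ => hcon u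
      have h5 := Finset.card_le_card h4'
      have h6 : ({a, b} : Finset Ω).card ≤ 2 := Finset.card_le_two
      rw [Finset.card_univ, ← Nat.card_eq_fintype_card] at h5
      omega
    obtain ⟨u, hu⟩ := h3
    simp only [Finset.mem_insert, Finset.mem_singleton, not_or] at hu
    refine not_alt_le_of_rel h4 (fun _ y => p y) (x := u) (y := a) (z := b) ?_ hu.1 hu.2 ha hb
    rintro _ ⟨⟨f, g⟩, rfl⟩ x y hy
    change p (Perm.subtypeCongr f g y)
    rw [Perm.subtypeCongr.left_apply _ _ hy]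
    exact (f ⟨y, hy⟩).2
  · exact (PS.range _ (PS.prod (ps_perm _) (ps_perm _))).mono (by norm_num)

end Cfsg.Agent.H936
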