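import Mathlib
import Cfsg.Agent.H936.PSWreath

/-!
# Non-primitive groups; normalizers of transitive groups
-/

set_option autoImplicit false

open Equiv

open scoped Pointwise

namespace Cfsg.Agent.H936

variable {Ω : Type*} [Fintype Ω] [DecidableEq Ω]

/-- A transitive group preserving a non-trivial equivalence relation. -/
theorem good_of_setoid (h4 : 4 ≤ Nat.card Ω) {V : Subgroup (Perm Ω)} (htr : MulAction.IsPretransitive V Ω)
    (r : Setoid Ω) (hr : ∀ (v : V) x y, r x y → r (v • x) (v • y)) {x y z : Ω} (hxy : x ≠ y) (h1 : r x y)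
    (h2 : ¬ r x z) : Good V := by
  classical
  have hex : ∀ q : Quotient r, ∃ g : V, g • x = q.out := fun q => MulAction.exists_smul_eq V x q.out
  choose g hg using hex
  have key : ∀ w : Ω, r x ((g (Quotient.mk r w))⁻¹ • w) := by
    intro w
    have h3 : r (Quotient.mk r w).out w := Quotient.mk_out w
    have h4 := hr (g (Quotient.mk r w))⁻¹ _ _ h3
    rwa [← hg, inv_smul_smul] at h4
  have hcls : ∀ (q : Quotient r) (d : {y // r x y}), Quotient.mk r (g q • (d : Ω)) = q := by
    intro q d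
    have h3 := hr (g q) _ _ d.2
    rw [hg] at h3
    have h4 : Quotient.mk r q.out = Quotient.mk r (g q • (d : Ω)) := Quotient.sound h3
    rw [← h4, Quotient.out_eq]
  let φ : Ω ≃ Quotient r × {y // r x y} :=
    { toFun := fun w => (Quotient.mk r w, ⟨(g (Quotient.mk r w))⁻¹ • w, key w⟩)
      invFun := fun p => g p.1 • (p.2 : Ω)
      left_inv := fun w => smul_inv_smul _ _
      right_inv := fun p => by
        refine Prod.ext (hcls p.1 p.2) (Subtype.ext ?_)
        change (g (Quotient.mk r (g p.1 • (p.2 : Ω))))⁻¹ • (g p.1 • (p.2 : Ω)) = p.2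
        rw [hcls, inv_smul_smul] }
  have hφ : ∀ a b, (φ a).1 = (φ b).1 ↔ r a b := fun a b => Quotient.eq (r := r)
  have : Nontrivial (Quotient r) := ⟨⟨Quotient.mk r x, Quotient.mk r z, fun h => h2 (Quotient.eq.1 h)⟩⟩
  have : Nontrivial {y // r x y} := ⟨⟨⟨x, r.refl x⟩, ⟨y, h1⟩, fun h => hxy (congrArg Subtype.val h)⟩⟩
  refine good_of_imp h4 φ ?_
  intro v hv a b
  rw [hφ, hφ]
  constructor
  · exact hr ⟨v, hv⟩ a b
  · intro h
    have h3 := hr ⟨v, hv⟩⁻¹ _ _ h
    have e1 : ∀ c : Ω, (⟨v, hv⟩ : V)⁻¹ • (v c) = c := fun c => inv_smul_smul (⟨v, hv⟩ : V) c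
    rwa [e1, e1] at h3

/-- **Groups that are not primitive.** -/
theorem good_of_not_prim (h4 : 4 ≤ Nat.card Ω) {V : Subgroup (Perm Ω)} (hV : ¬ MulAction.IsPreprimitive V Ω) :
    Good V := by
  by_cases htr : MulAction.IsPretransitive V Ω
  · have h1 : ∃ B : Set Ω, MulAction.IsBlock V B ∧ ¬ MulAction.IsTrivialBlock B := by
      by_contra hcon
      push Not at hcon
      exact hV ⟨fun {B} hB => hcon B hB⟩
    obtain ⟨B, hB, hB'⟩ := h1
    unfold MulAction.IsTrivialBlock at hB'
    push Not at hB'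
    obtain ⟨hB1, hB2⟩ := hB'
    obtain ⟨x, hx, y, hy, hxy⟩ := hB1
    obtain ⟨z, hz⟩ := (Set.ne_univ_iff_exists_notMem _).1 hB2
    let r : Setoid Ω :=
      { r := fun x y => ∀ g : V, x ∈ g • B ↔ y ∈ g • B
        iseqv := ⟨fun _ _ => Iff.rfl, fun h g => (h g).symm, fun h h' g => (h g).trans (h' g)⟩ }
    have hblk : ∀ (g : V) (u : Ω), u ∈ B → u ∈ g • B → g • B = B := by
      intro g u hu hu'
      by_contra hne
      have h3 := hB (g₁ := g) (g₂ := 1) (by rwa [one_smul])
      rw [one_smul] at h3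
      exact Set.disjoint_left.1 h3 hu' hu
    refine good_of_setoid h4 htr r ?_ (x := x) (y := y) (z := z) hxy ?_ ?_
    · intro v a b hab g
      have h5 := hab (v⁻¹ * g)
      have h6 : ∀ c : Ω, c ∈ (v⁻¹ * g) • B ↔ v • c ∈ g • B := by
        intro c
        rw [mul_smul, Set.mem_smul_set_iff_inv_smul_mem (a := v⁻¹), inv_inv]
      rwa [h6, h6] at h5
    · intro g
      constructor
      · intro h
        rw [hblk g x hx h]
        exact hy
      · intro h
        rw [hblk g y hy h]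
        exact hx
    · intro h
      have h5 := (h 1).1 (by rwa [one_smul])
      rw [one_smul] at h5
      exact hz h5
  · have h1 : ∃ a b : Ω, ¬ ∃ g : V, g • a = b := by
      by_contra hcon
      push Not at hcon
      exact htr ⟨hcon⟩
    obtain ⟨a, b, hab⟩ := h1
    refine good_of_intrans h4 (fun w => ∃ g : V, g • a = w) (a := a) (b := b) ⟨1, one_smul _ _⟩ hab ?_
    intro v hv w
    constructor
    · rintro ⟨g, rfl⟩
      exact ⟨⟨v, hv⟩ * g, mul_smul _ _ _⟩
    · rintro ⟨g, hg⟩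
      refine ⟨⟨v, hv⟩⁻¹ * g, ?_⟩
      rw [mul_smul, hg]
      exact inv_smul_smul (⟨v, hv⟩ : V) w

theorem not_alt_le_normalizer (h5 : 5 ≤ Nat.card Ω) {N : Subgroup (Perm Ω)} (htr : MulAction.IsPretransitive N Ω)
    (hN : ¬ alternatingGroup Ω ≤ N) : ¬ alternatingGroup Ω ≤ Subgroup.normalizer (N : Set (Perm Ω)) := by
  intro hle
  have := alternatingGroup.isSimpleGroup h5
  have hn : (N.subgroupOf (alternatingGroup Ω)).Normal := by
    refine ⟨fun n hn g => ?_⟩
    rw [Subgroup.mem_subgroupOf] at hn ⊢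
    exact ((Subgroup.mem_normalizer_iff.1 (hle g.2)) _).1 hn
  rcases hn.eq_bot_or_eq_top with h | h
  · -- `N` has order at most two
    have hinj : Function.Injective (Perm.sign.comp N.subtype) := by
      rw [← MonoidHom.ker_eq_bot_iff, eq_bot_iff]
      intro n hn
      rw [MonoidHom.mem_ker] at hn
      have h6 : (n : Perm Ω) ∈ alternatingGroup Ω := hn
      have h7 : (⟨n, h6⟩ : alternatingGroup Ω) ∈ N.subgroupOf (alternatingGroup Ω) := n.2
      rw [h, Subgroup.mem_bot] at h7
      rw [Subgroup.mem_bot]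
      have h8 : (n : Perm Ω) = 1 := congrArg Subtype.val h7
      exact Subtype.ext h8
    have h6 : Nat.card N ≤ 2 := by
      have := Nat.card_le_card_of_injective _ hinj
      simpa using this
    have hne : Nonempty Ω := by
      rw [← Finite.card_pos_iff]
      omega
    obtain ⟨a⟩ := hne
    have h7 : Function.Surjective (fun n : N => n • a) := fun b => MulAction.exists_smul_eq N a b
    have h8 := Nat.card_le_card_of_surjective _ h7
    omega
  · rw [Subgroup.subgroupOf_eq_top] at h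
    exact hN h

omit [DecidableEq Ω] in
/-- **Realising an automorphism** of a transitive group which stabilises the point stabiliser. -/
theorem exists_realize {N : Subgroup (Perm Ω)} (htr : MulAction.IsPretransitive N Ω) (a : Ω) (β : MulAut N)
    (hβ : ∀ n : N, (n : Perm Ω) a = a ↔ ((β n : N) : Perm Ω) a = a) :
    ∃ w : Perm Ω, w a = a ∧ ∀ n : N, w * n * w⁻¹ = β n := by
  have hex : ∀ x : Ω, ∃ n : N, (n : Perm Ω) a = x := fun x => MulAction.exists_smul_eq N a x
  choose f hf using hex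
  have key : ∀ n n' : N, (n : Perm Ω) a = (n' : Perm Ω) a ↔ ((β n : N) : Perm Ω) a = ((β n' : N) : Perm Ω) a := by
    intro n n'
    have h1 := hβ (n'⁻¹ * n)
    rw [map_mul, map_inv, Subgroup.coe_mul, Subgroup.coe_mul, Subgroup.coe_inv, Subgroup.coe_inv, Perm.mul_apply,
      Perm.mul_apply, Perm.inv_eq_iff_eq, Perm.inv_eq_iff_eq] at h1
    exact h1
  have hinj : Function.Injective fun x => ((β (f x) : N) : Perm Ω) a := by
    intro x y hxy
    have := (key (f x) (f y)).2 hxy
    rwa [hf, hf] at this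
  let w : Perm Ω := Equiv.ofBijective _ (Finite.injective_iff_bijective.1 hinj)
  have hw : ∀ n : N, w ((n : Perm Ω) a) = ((β n : N) : Perm Ω) a := by
    intro n
    exact (key _ _).1 (hf ((n : Perm Ω) a))
  refine ⟨w, ?_, ?_⟩
  · have := hw 1
    rwa [map_one, Subgroup.coe_one, Perm.one_apply] at this
  · intro n
    rw [mul_inv_eq_iff_eq_mul]
    apply Equiv.ext
    intro x
    obtain ⟨m, hm⟩ := MulAction.exists_smul_eq N a x
    have hm' : (m : Perm Ω) a = x := hm
    rw [Perm.mul_apply, Perm.mul_apply, ← hm']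
    have h1 := hw (n * m)
    rw [map_mul, Subgroup.coe_mul, Subgroup.coe_mul, Perm.mul_apply, Perm.mul_apply] at h1
    rw [h1, hw]

/-- **Regular normal subgroups.** -/
theorem good_of_regular (h5 : 5 ≤ Nat.card Ω) {N V : Subgroup (Perm Ω)} (htr : MulAction.IsPretransitive N Ω)
    (hN : ¬ alternatingGroup Ω ≤ N) (a : Ω) (hreg : ∀ n ∈ N, n a = a → n = 1)
    (hV : V ≤ Subgroup.normalizer (N : Set (Perm Ω))) {i j : ℕ} (hi : PS i N) (hj : PS j (MulAut N)) (hij : i + j ≤ 6) :
    Good V := by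
  have hb : Function.Bijective (fun n : N => (n : Perm Ω) a) := by
    refine ⟨?_, fun x => MulAction.exists_smul_eq N a x⟩
    intro n m hnm
    have h1 : ((n : Perm Ω)⁻¹ * (m : Perm Ω)) a = a := by
      rw [Perm.mul_apply]
      have h2 : (n : Perm Ω) a = (m : Perm Ω) a := hnm
      rw [← h2, Perm.inv_eq_iff_eq]
    have h2 := hreg _ (N.mul_mem (N.inv_mem n.2) m.2) h1
    rw [inv_mul_eq_one] at h2
    exact Subtype.ext h2
  let ψ : N ≃ Ω := Equiv.ofBijective _ hb
  have hψ : ∀ n : N, ψ n = (n : Perm Ω) a := fun _ => rfl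
  let f₂ : MulAut N →* Perm Ω := ψ.permCongrHom.toMonoidHom.comp (MulAut.toPerm N)
  have hf₂ : ∀ (β : MulAut N) (n : N), f₂ β ((n : Perm Ω) a) = ((β n : N) : Perm Ω) a := by
    intro β n
    change ψ (β (ψ.symm ((n : Perm Ω) a))) = _
    rw [← hψ, ψ.symm_apply_apply, hψ]
  have hmul : ∀ (β : MulAut N) (n : N), f₂ β * n = (β n : N) * f₂ β := by
    intro β n
    apply Equiv.ext
    intro x
    obtain ⟨m, rfl⟩ := ψ.surjective x
    rw [Perm.mul_apply, Perm.mul_apply, hψ, hf₂]
    have h1 := hf₂ β (n * m)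
    rw [map_mul, Subgroup.coe_mul, Subgroup.coe_mul, Perm.mul_apply, Perm.mul_apply] at h1
    exact h1
  have hconj : ∀ (β : MulAut N) (n : N), f₂ β * n * (f₂ β)⁻¹ = (β n : N) := by
    intro β n
    rw [hmul, mul_inv_cancel_right]
  have hps : PS (i + j) ↥(N.subtype.range ⊔ f₂.range) := by
    refine PS.of_two N.subtype f₂ ?_ hi hj
    intro n β
    exact ⟨β n, hconj β n⟩
  rw [Subgroup.range_subtype] at hps
  refine ⟨N ⊔ f₂.range, ?_, ?_, hps.mono hij⟩
  · intro v hv
    obtain ⟨n, hn⟩ := MulAction.exists_smul_eq N a (v a)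
    have hn' : (n : Perm Ω) a = v a := hn
    have hw : ((n : Perm Ω)⁻¹ * v) ∈ Subgroup.normalizer (N : Set (Perm Ω)) :=
      Subgroup.mul_mem _ (Subgroup.inv_mem _ (Subgroup.le_normalizer n.2)) (hV hv)
    set w := (n : Perm Ω)⁻¹ * v with hwdef
    have hwa : w a = a := by
      rw [hwdef, Perm.mul_apply, ← hn', Perm.inv_eq_iff_eq]
    have h1 : w = f₂ (N.normalizerMonoidHom ⟨w, hw⟩) := by
      apply Equiv.ext
      intro x
      obtain ⟨m, rfl⟩ := ψ.surjective x
      rw [hψ, hf₂]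
      change w ((m : Perm Ω) a) = w ((m : Perm Ω) (w⁻¹ a))
      have h2 : w⁻¹ a = a := by rw [Perm.inv_eq_iff_eq]; exact hwa.symm
      rw [h2]
    have h2 : v = (n : Perm Ω) * w := by rw [hwdef, mul_inv_cancel_left]
    rw [h2, h1]
    exact Subgroup.mul_mem _ (Subgroup.mem_sup_left n.2) (Subgroup.mem_sup_right ⟨_, rfl⟩)
  · intro hle
    refine not_alt_le_normalizer h5 htr hN (hle.trans ?_)
    refine sup_le Subgroup.le_normalizer ?_
    rintro _ ⟨β, rfl⟩
    rw [Subgroup.mem_normalizer_iff]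
    intro n
    constructor
    · intro hn
      have h1 := hconj β ⟨n, hn⟩
      exact h1 ▸ (β ⟨n, hn⟩).2
    · intro hn
      have h1 := hconj β⁻¹ ⟨_, hn⟩
      rw [map_inv] at h1
      have h2 : (f₂ β)⁻¹ * (f₂ β * n * (f₂ β)⁻¹) * ((f₂ β)⁻¹)⁻¹ = n := by group
      have h3 := h2.symm.trans h1
      exact h3 ▸ (β⁻¹ _).2

end Cfsg.Agent.H936
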