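import Mathlib
import Cfsg.Agent.H936.PSPrim

/-!
# Normalizers of powers of non-abelian simple groups
-/

set_option autoImplicit false

open Equiv

namespace Cfsg.Agent.H936

section Cj

variable {G : Type*} [Group G] {N : Subgroup G} {ι T : Type*} [Group T]

/-- The action of the normalizer of `N` on `N ≅ Tⁱ`. -/
def cjHom (e : N ≃* (ι → T)) : ↥(Subgroup.normalizer (N : Set G)) →* MulAut (ι → T) :=
  (MulAut.congr e).toMonoidHom.comp N.normalizerMonoidHom

theorem cjHom_apply (e : N ≃* (ι → T)) (w : ↥(Subgroup.normalizer (N : Set G))) (n n' : N)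
    (h : (w : G) * n * (w : G)⁻¹ = n') : cjHom e w (e n) = e n' := by
  change e (N.normalizerMonoidHom w (e.symm (e n))) = _
  rw [e.symm_apply_apply]
  congr 1
  exact Subtype.ext h

theorem cjHom_mem (e : N ≃* (ι → T)) (n : N) (hn : (n : G) ∈ Subgroup.normalizer (N : Set G)) :
    cjHom e ⟨n, hn⟩ = MulAut.conj (e n) := by
  ext x i
  obtain ⟨m, rfl⟩ := e.surjective x
  rw [cjHom_apply e ⟨n, hn⟩ m (n * m * n⁻¹) rfl, MulAut.conj_apply, map_mul, map_mul, map_inv]

variable [IsSimpleGroup T] [Finite ι] (hT : ¬ IsMulCommutative T)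

/-- The permutation of the factors. -/
noncomputable def fperm (e : N ≃* (ι → T)) : ↥(Subgroup.normalizer (N : Set G)) →* Perm ι :=
  (AutPow.perm hT).comp (cjHom e)

theorem fperm_mem (e : N ≃* (ι → T)) (n : N) (hn : (n : G) ∈ Subgroup.normalizer (N : Set G)) :
    fperm hT e ⟨n, hn⟩ = 1 := by
  change AutPow.perm hT (cjHom e ⟨n, hn⟩) = 1
  rw [cjHom_mem, AutPow.perm_conj]

theorem fperm_one_iff (e : N ≃* (ι → T)) (w : ↥(Subgroup.normalizer (N : Set G))) (n n' : N)
    (h : (w : G) * n * (w : G)⁻¹ = n') (i : ι) : e n' (fperm hT e w i) = 1 ↔ e n i = 1 := by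
  rw [← cjHom_apply e w n n' h]
  exact AutPow.perm_one_iff hT _ _ _

end Cj

theorem mem_normalizer_of_realize {G : Type*} [Group G] {N : Subgroup G} {w : G} {β : MulAut N}
    (h : ∀ n : N, w * n * w⁻¹ = β n) : w ∈ Subgroup.normalizer (N : Set G) := by
  rw [Subgroup.mem_normalizer_iff]
  intro n
  constructor
  · intro hn
    have := h ⟨n, hn⟩
    exact this ▸ (β ⟨n, hn⟩).2
  · intro hn
    have h1 := h (β.symm ⟨_, hn⟩)
    rw [MulEquiv.apply_symm_apply] at h1
    have h2 : ((β.symm ⟨_, hn⟩ : N) : G) = n := by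
      have h3 : w * ((β.symm ⟨_, hn⟩ : N) : G) * w⁻¹ = w * n * w⁻¹ := h1
      exact mul_left_cancel (mul_right_cancel h3)
    exact h2 ▸ (β.symm ⟨_, hn⟩).2

variable {Ω : Type*} [Fintype Ω] [DecidableEq Ω]

/-- **The core of the non-regular case**: `N_a` is invariant under all permutations of the coordinates. -/
theorem good_of_perm_inv (h5 : 5 ≤ Nat.card Ω) {N V : Subgroup (Perm Ω)} (htr : MulAction.IsPretransitive N Ω)
    (hN : ¬ alternatingGroup Ω ≤ N) (a : Ω) (hC : Subgroup.centralizer (N : Set (Perm Ω)) = ⊥)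
    (hV : V ≤ Subgroup.normalizer (N : Set (Perm Ω))) {ι T : Type*} [Finite ι] [Group T] [IsSimpleGroup T]
    (hT : ¬ IsMulCommutative T) (hd : DS 3 T) (e : N ≃* (ι → T))
    (hperm : ∀ (σ : Perm ι) (n : N), (n : Perm Ω) a = a ↔
      ((e.symm (AutPow.permAut T σ (e n)) : N) : Perm Ω) a = a) : Good V := by
  refine ⟨Subgroup.normalizer (N : Set (Perm Ω)), hV, not_alt_le_normalizer h5 htr hN, ?_⟩
  have hsurj : Function.Surjective (fperm hT e) := by
    intro σ
    let β : MulAut N := (MulAut.congr e).symm (AutPow.permAut T σ)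
    have hβ : ∀ n, β n = e.symm (AutPow.permAut T σ (e n)) := fun n => rfl
    obtain ⟨w, -, hw⟩ := exists_realize htr a β (fun n => by rw [hβ]; exact hperm σ n)
    refine ⟨⟨w, mem_normalizer_of_realize hw⟩, ?_⟩
    change AutPow.perm hT (cjHom e ⟨w, mem_normalizer_of_realize hw⟩) = σ
    have h1 : cjHom e ⟨w, mem_normalizer_of_realize hw⟩ = AutPow.permAut T σ := by
      ext x i
      obtain ⟨n, rfl⟩ := e.surjective x
      rw [cjHom_apply e _ n (β n) (hw n), hβ, e.apply_symm_apply]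
    rw [h1, AutPow.perm_permAut]
  have hker : PS 3 (fperm hT e).ker := by
    let g : N →* (fperm hT e).ker :=
      (Subgroup.inclusion (Subgroup.le_normalizer (H := N))).codRestrict _ (fun n =>
        MonoidHom.mem_ker.2 (fperm_mem hT e n _))
    refine PS.of_hom g (PS.of_equiv e.symm (PS.pi fun _ => ps_zero_simple hT)) ?_
    intro k hk
    obtain ⟨y, hy⟩ := AutPow.map_derivedSeries_le_conj hT hd ((cjHom e).comp (fperm hT e).ker.subtype)
      (fun k => MonoidHom.mem_ker.1 k.2) hk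
    have hy' : cjHom e (k : ↥(Subgroup.normalizer (N : Set (Perm Ω)))) = MulAut.conj y := hy
    obtain ⟨n, rfl⟩ := e.surjective y
    have h1 : ∀ m : N, (k : Perm Ω) * m * (k : Perm Ω)⁻¹ = (n : Perm Ω) * m * (n : Perm Ω)⁻¹ := by
      intro m
      have h2 : (k : Perm Ω) * m * (k : Perm Ω)⁻¹ ∈ N := (Subgroup.mem_normalizer_iff.1 k.1.2 m).1 m.2
      have h3 := cjHom_apply e (k : ↥(Subgroup.normalizer (N : Set (Perm Ω)))) m ⟨_, h2⟩ rfl
      rw [hy', MulAut.conj_apply, ← map_inv, ← map_mul, ← map_mul] at h3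
      have h4 := e.injective h3
      exact (congrArg Subtype.val h4).symm
    have h2 : (n : Perm Ω)⁻¹ * (k : Perm Ω) ∈ Subgroup.centralizer (N : Set (Perm Ω)) := by
      rw [Subgroup.mem_centralizer_iff]
      intro m hm
      have h3 := h1 ⟨m, hm⟩
      have h4 : (k : Perm Ω) * m = (n : Perm Ω) * m * (n : Perm Ω)⁻¹ * (k : Perm Ω) := by
        rw [← h3]; group
      rw [mul_assoc, h4]
      group
    rw [hC, Subgroup.mem_bot, inv_mul_eq_one] at h2
    exact ⟨n, Subtype.ext (Subtype.ext h2)⟩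
  exact PS.of_ker (a := 3) (b := 3) hsurj hker (ps_perm ι)

/-- The full diagonal case. -/
theorem good_of_diag (h5 : 5 ≤ Nat.card Ω) {N V : Subgroup (Perm Ω)} (htr : MulAction.IsPretransitive N Ω)
    (hN : ¬ alternatingGroup Ω ≤ N) (a : Ω) (hC : Subgroup.centralizer (N : Set (Perm Ω)) = ⊥)
    (hV : V ≤ Subgroup.normalizer (N : Set (Perm Ω))) {ι T : Type*} [Finite ι] [Group T] [IsSimpleGroup T]
    (hT : ¬ IsMulCommutative T) (hd : DS 3 T) (e : N ≃* (ι → T))
    (hst : ∀ n : N, (n : Perm Ω) a = a ↔ ∀ i j, e n i = e n j) : Good V := by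
  refine good_of_perm_inv h5 htr hN a hC hV hT hd e ?_
  intro σ n
  rw [hst, hst, e.apply_symm_apply]
  constructor
  · intro h i j
    rw [AutPow.permAut_apply, AutPow.permAut_apply]
    exact h _ _
  · intro h i j
    have := h (σ i) (σ j)
    rwa [AutPow.permAut_apply, AutPow.permAut_apply, σ.symm_apply_apply, σ.symm_apply_apply] at this

/-- **Transitivity on the factors.** -/
theorem exists_fperm {N V : Subgroup (Perm Ω)} (htr : MulAction.IsPretransitive N Ω) (a : Ω)
    (hNV : N ≤ V) (hV : V ≤ Subgroup.normalizer (N : Set (Perm Ω)))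
    (hmin : ∀ M ≤ N, V ≤ Subgroup.normalizer (M : Set (Perm Ω)) → M = ⊥ ∨ M = N)
    {ι T : Type*} [Finite ι] [Group T] [IsSimpleGroup T] (hT : ¬ IsMulCommutative T) (e : N ≃* (ι → T)) (i₀ i : ι) :
    ∃ (v : Perm Ω) (hv : v ∈ V), v a = a ∧ fperm hT e ⟨v, hV hv⟩ i₀ = i := by
  classical
  have h1 : ∃ (v : Perm Ω) (hv : v ∈ V), fperm hT e ⟨v, hV hv⟩ i₀ = i := by
    by_contra hcon
    push Not at hcon
    let O : Set ι := {j | ∃ (v : Perm Ω) (hv : v ∈ V), fperm hT e ⟨v, hV hv⟩ i₀ = j}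
    let M' : Subgroup N :=
      { carrier := {n | ∀ j ∉ O, e n j = 1}
        one_mem' := fun j _ => by rw [map_one]; rfl
        mul_mem' := fun {x y} hx hy j hj => by rw [map_mul, Pi.mul_apply, hx j hj, hy j hj, one_mul]
        inv_mem' := fun {x} hx j hj => by rw [map_inv, Pi.inv_apply, hx j hj, inv_one] }
    have hM' : ∀ n, n ∈ M' ↔ ∀ j ∉ O, e n j = 1 := fun n => Iff.rfl
    let M : Subgroup (Perm Ω) := M'.map N.subtype
    have hM : ∀ n : N, (n : Perm Ω) ∈ M ↔ n ∈ M' := by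
      intro n
      constructor
      · rintro ⟨n', hn', h⟩
        have : n' = n := Subtype.ext h
        exact this ▸ hn'
      · exact fun h => ⟨n, h, rfl⟩
    have hMN : M ≤ N := by
      rintro _ ⟨n, -, rfl⟩
      exact n.2
    have hVM : V ≤ Subgroup.normalizer (M : Set (Perm Ω)) := by
      have key : ∀ v ∈ V, ∀ n ∈ M, v * n * v⁻¹ ∈ M := by
        intro v hv n hn
        have hn' : (⟨n, hMN hn⟩ : N) ∈ M' := (hM _).1 hn
        have hc : v * n * v⁻¹ ∈ N := (Subgroup.mem_normalizer_iff.1 (hV hv) n).1 (hMN hn)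
        refine (hM ⟨_, hc⟩).2 ?_
        intro j hj
        obtain ⟨i', rfl⟩ := (fperm hT e ⟨v, hV hv⟩).surjective j
        rw [fperm_one_iff hT e ⟨v, hV hv⟩ ⟨n, hMN hn⟩ ⟨_, hc⟩ rfl]
        apply hn'
        rintro ⟨u, hu, hui⟩
        apply hj
        refine ⟨v * u, V.mul_mem hv hu, ?_⟩
        have h2 : (⟨v * u, hV (V.mul_mem hv hu)⟩ : ↥(Subgroup.normalizer (N : Set (Perm Ω)))) =
            ⟨v, hV hv⟩ * ⟨u, hV hu⟩ := rfl
        rw [h2, map_mul, Perm.mul_apply, hui]
      intro v hv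
      rw [Subgroup.mem_normalizer_iff]
      intro n
      refine ⟨key v hv n, fun h => ?_⟩
      have h2 := key v⁻¹ (V.inv_mem hv) _ h
      have h3 : v⁻¹ * (v * n * v⁻¹) * v⁻¹⁻¹ = n := by group
      rwa [h3] at h2
    obtain ⟨t, ht⟩ := exists_ne (1 : T)
    rcases hmin M hMN hVM with h | h
    · have h2 : ((e.symm (Pi.mulSingle i₀ t) : N) : Perm Ω) ∈ M := by
        rw [hM]
        intro j hj
        rw [e.apply_symm_apply, Pi.mulSingle_eq_of_ne]
        rintro rfl
        apply hj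
        refine ⟨1, V.one_mem, ?_⟩
        have h2 : (⟨1, hV V.one_mem⟩ : ↥(Subgroup.normalizer (N : Set (Perm Ω)))) = 1 := rfl
        rw [h2, map_one]
        rfl
      rw [h, Subgroup.mem_bot] at h2
      have h3 : e.symm (Pi.mulSingle i₀ t) = 1 := Subtype.ext h2
      rw [MulEquiv.symm_apply_eq, map_one, Pi.mulSingle_eq_one_iff] at h3
      exact ht h3
    · have h2 : ((e.symm (Pi.mulSingle i t) : N) : Perm Ω) ∈ M := by
        rw [h]
        exact (e.symm (Pi.mulSingle i t)).2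
      rw [hM] at h2
      have h3 := h2 i (by
        rintro ⟨v, hv, h⟩
        exact hcon v hv h)
      rw [e.apply_symm_apply, Pi.mulSingle_eq_same] at h3
      exact ht h3
  obtain ⟨v, hv, hvi⟩ := h1
  obtain ⟨n, hn⟩ := MulAction.exists_smul_eq N a (v a)
  have hn' : (n : Perm Ω) a = v a := hn
  refine ⟨(n : Perm Ω)⁻¹ * v, V.mul_mem (V.inv_mem (hNV n.2)) hv, ?_, ?_⟩
  · rw [Perm.mul_apply, ← hn', Perm.inv_eq_iff_eq]
  · have h2 : (⟨(n : Perm Ω)⁻¹ * v, hV (V.mul_mem (V.inv_mem (hNV n.2)) hv)⟩ :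
        ↥(Subgroup.normalizer (N : Set (Perm Ω)))) = ⟨n, Subgroup.le_normalizer n.2⟩⁻¹ * ⟨v, hV hv⟩ := rfl
    rw [h2, map_mul, map_inv, fperm_mem, inv_one, one_mul, hvi]

/-- The product case. -/
theorem good_of_product (h5 : 5 ≤ Nat.card Ω) {N V : Subgroup (Perm Ω)} (htr : MulAction.IsPretransitive N Ω)
    (hN : ¬ alternatingGroup Ω ≤ N) (a : Ω) (hC : Subgroup.centralizer (N : Set (Perm Ω)) = ⊥)
    (hNV : N ≤ V) (hV : V ≤ Subgroup.normalizer (N : Set (Perm Ω)))
    (hmin : ∀ M ≤ N, V ≤ Subgroup.normalizer (M : Set (Perm Ω)) → M = ⊥ ∨ M = N)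
    {ι T : Type*} [Finite ι] [Group T] [IsSimpleGroup T] (i₀ : ι)
    (hT : ¬ IsMulCommutative T) (hd : DS 3 T) (e : N ≃* (ι → T)) (L : ι → Subgroup T)
    (hst : ∀ n : N, (n : Perm Ω) a = a ↔ ∀ i, e n i ∈ L i) : Good V := by
  classical
  have h1 := exists_fperm htr a hNV hV hmin hT e i₀
  choose v hv hva hvi using h1
  have h2 : ∀ i, ∃ φ : ι → MulAut T, ∀ x l, cjHom e ⟨v i, hV (hv i)⟩ x (fperm hT e ⟨v i, hV (hv i)⟩ l) = φ l (x l) :=
    fun i => AutPow.perm_spec hT _
  choose φ hφ using h2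
  have h3 : ∀ i t, t ∈ L i₀ ↔ φ i i₀ t ∈ L i := by
    intro i t
    set n : N := e.symm (Pi.mulSingle i₀ t) with hn
    have hc : v i * n * (v i)⁻¹ ∈ N := (Subgroup.mem_normalizer_iff.1 (hV (hv i)) n).1 n.2
    have h4 := cjHom_apply e ⟨v i, hV (hv i)⟩ n ⟨_, hc⟩ rfl
    have hen : e n = Pi.mulSingle i₀ t := e.apply_symm_apply _
    have h5 : e ⟨_, hc⟩ i = φ i i₀ t := by
      rw [← h4, hen]
      have := hφ i (Pi.mulSingle i₀ t) i₀
      rwa [hvi, Pi.mulSingle_eq_same] at this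
    have h6 : ∀ j, j ≠ i → e ⟨_, hc⟩ j = 1 := by
      intro j hj
      obtain ⟨l, rfl⟩ := (fperm hT e ⟨v i, hV (hv i)⟩).surjective j
      rw [← h4, hen, hφ]
      have hl : l ≠ i₀ := by
        rintro rfl
        exact hj (hvi i)
      rw [Pi.mulSingle_eq_of_ne hl, map_one]
    have h7 : (n : Perm Ω) a = a ↔ t ∈ L i₀ := by
      rw [hst, hen]
      constructor
      · intro h
        have := h i₀
        rwa [Pi.mulSingle_eq_same] at this
      · intro h j
        by_cases hj : j = i₀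
        · subst hj
          rwa [Pi.mulSingle_eq_same]
        · rw [Pi.mulSingle_eq_of_ne hj]
          exact (L j).one_mem
    have h8 : (v i * n * (v i)⁻¹) a = a ↔ φ i i₀ t ∈ L i := by
      have h9 := hst ⟨_, hc⟩
      rw [← h5]
      refine h9.trans ?_
      constructor
      · exact fun h => h i
      · intro h j
        by_cases hj : j = i
        · subst hj
          exact h
        · rw [h6 j hj]
          exact (L j).one_mem
    rw [← h7, ← h8, Perm.mul_apply, Perm.mul_apply]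
    have h9 : (v i)⁻¹ a = a := by rw [Perm.inv_eq_iff_eq]; exact (hva i).symm
    rw [h9]
    constructor
    · intro h
      rw [h, hva]
    · intro h
      apply (v i).injective
      rw [h, hva]
  let e' : N ≃* (ι → T) := e.trans (MulEquiv.piCongrRight fun i => (φ i i₀).symm)
  have he' : ∀ n i, e' n i = (φ i i₀).symm (e n i) := fun _ _ => rfl
  have hst' : ∀ n : N, (n : Perm Ω) a = a ↔ ∀ i, e' n i ∈ L i₀ := by
    intro n
    rw [hst]
    refine forall_congr' fun i => ?_
    rw [he', h3 i, MulEquiv.apply_symm_apply]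
  refine good_of_perm_inv h5 htr hN a hC hV hT hd e' ?_
  intro σ n
  rw [hst', hst', e'.apply_symm_apply]
  constructor
  · intro h i
    rw [AutPow.permAut_apply]
    exact h _
  · intro h i
    have := h (σ i)
    rwa [AutPow.permAut_apply, σ.symm_apply_apply] at this

end Cfsg.Agent.H936
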