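import Cfsg.Agent.H915.LD
import Cfsg.Agent.H953.Sympl
import Cfsg.Agent.H914.SixTwoCubed

/-!
# `A₇` in `Sp₆(q)`, `q` odd, no scalars (task 2970 of helper914)

`a7_simple`: impossible.
-/

set_option autoImplicit false
set_option linter.unusedSectionVars false

namespace Cfsg.Agent.H936.SixA7

open Cfsg Cfsg.Geo Matrix Module Cfsg.Agent.H915.LD Cfsg.Agent.H914.S6

universe u v

/-! ### The elements -/

section els

open Equiv Equiv.Perm

/-- an element of `A₇` -/
def mk7 (p : Perm (Fin 7)) (h : sign p = 1 := by decide) : alternatingGroup (Fin 7) :=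
  ⟨p, mem_alternatingGroup.2 h⟩

def gs : alternatingGroup (Fin 7) := mk7 (swap 0 1 * swap 2 3)
def gt : alternatingGroup (Fin 7) := mk7 (swap 0 2 * swap 1 3)
def gb : alternatingGroup (Fin 7) := mk7 (swap 0 1 * swap 1 2)
def gc : alternatingGroup (Fin 7) := mk7 (swap 4 5 * swap 5 6)

theorem conj_bc : ∃ x : alternatingGroup (Fin 7), gb = x * gc * x⁻¹ := by
  refine ⟨mk7 (swap 0 4 * swap 1 5 * swap 2 6 * swap 0 3), ?_⟩
  decide

end els

section gen

variable {F : Type u} [Field F] {V : Type v} [AddCommGroup V] [Module F V] [FiniteDimensional F V]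

/-- a self-adjoint idempotent has even rank -/
theorem even_rk (B : LinearMap.BilinForm F V) (hA : B.IsAlt) (hnd : ∀ u, (∀ v, B u v = 0) → u = 0)
    {p : Module.End F V} (hp : p * p = p) (hadj : ∀ v w, B (p v) w = B v (p w)) : Even (rk p) := by
  unfold rk
  refine H953.even_finrank_of_alt (B.restrict (LinearMap.range p)) (fun u => hA u.1) ?_
  rintro ⟨u, u', rfl⟩ hu
  apply Subtype.ext
  change p u' = 0
  apply hnd
  intro w
  have h1 := hu ⟨p w, ⟨w, rfl⟩⟩
  have h2 : B (p u') (p w) = 0 := h1
  rw [← hadj, ← Module.End.mul_apply, hp] at h2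
  exact h2

theorem eq_zero_of_rk {p : Module.End F V} (h : rk p = 0) : p = 0 := by
  unfold rk at h
  rw [Submodule.finrank_eq_zero, LinearMap.range_eq_bot] at h
  exact h

theorem adj_hf (B : LinearMap.BilinForm F V) {X : Module.End F V} (h : ∀ v w, B (X v) w = B v (X w)) (v w : V) :
    B (hf X v) w = B v (hf X w) := by
  unfold hf
  simp only [LinearMap.smul_apply, LinearMap.add_apply, Module.End.one_apply, map_add, map_smul, h]

theorem adj_neg (B : LinearMap.BilinForm F V) {X : Module.End F V} (h : ∀ v w, B (X v) w = B v (X w)) (v w : V) :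
    B ((-X) v) w = B v ((-X) w) := by
  simp only [LinearMap.neg_apply, map_neg, h]

theorem adj_mul (B : LinearMap.BilinForm F V) {X Y : Module.End F V} (hX : ∀ v w, B (X v) w = B v (X w))
    (hY : ∀ v w, B (Y v) w = B v (Y w)) (hc : X * Y = Y * X) (v w : V) :
    B ((X * Y) v) w = B v ((X * Y) w) := by
  rw [hc, Module.End.mul_apply, hY, hX, ← Module.End.mul_apply, hc]

/-- An isometry of order three on an invariant non-degenerate plane. -/
theorem plane (B : LinearMap.BilinForm F V) (hA : B.IsAlt) (U : Submodule F V) (hU : finrank F U = 2)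
    (hnd : ∀ u ∈ U, (∀ v ∈ U, B u v = 0) → u = 0) (C : Module.End F V) (hCU : ∀ u ∈ U, C u ∈ U)
    (hC3 : ∀ v, C (C (C v)) = v) (hC : ∀ v w, B (C v) (C w) = B v w) :
    (∀ v ∈ U, v + C v + C (C v) = 0) ∨ (∀ v ∈ U, C v = v) := by
  have hskew : ∀ v w, B v w = - B w v := fun v w => (LinearMap.IsAlt.neg hA w v).symm
  have a1 : ∀ v w, B (C v) w = B v (C (C w)) := fun v w => by rw [← hC v, hC3]
  have a2 : ∀ v w, B (C (C v)) w = B v (C w) := fun v w => by rw [a1, a1, hC3]
  have hN : ∀ w v, B (w + C w + C (C w)) v = B w (v + C v + C (C v)) := by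
    intro w v
    simp only [map_add, LinearMap.add_apply, a1, a2]
    rw [hC3]
    ring
  have hN0 : ∀ w, B (w + C w + C (C w)) w = 0 := by
    intro w
    simp only [map_add, LinearMap.add_apply]
    rw [a2, hA w, hskew (C w) w]
    ring
  have hNU : ∀ w ∈ U, w + C w + C (C w) ∈ U := fun w hw =>
    U.add_mem (U.add_mem hw (hCU w hw)) (hCU _ (hCU w hw))
  by_cases hex : ∃ v ∈ U, v ≠ 0 ∧ v + C v + C (C v) = 0
  · left
    obtain ⟨v₀, hv₀, hne, hv⟩ := hex
    intro w hw
    by_cases hsp : w ∈ Submodule.span F {v₀}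
    · obtain ⟨c, rfl⟩ := Submodule.mem_span_singleton.1 hsp
      rw [map_smul, map_smul, ← smul_add, ← smul_add, hv, smul_zero]
    · apply hnd _ (hNU w hw)
      intro u hu
      have hli : LinearIndependent F ![v₀, w] := by
        rw [LinearIndependent.pair_iff' hne]
        intro c hc
        exact hsp (Submodule.mem_span_singleton.2 ⟨c, hc⟩)
      have hle : Submodule.span F {v₀, w} ≤ U := by
        rw [Submodule.span_le]
        rintro x (rfl | rfl)
        · exact hv₀
        · exact hw
      have hrk : finrank F (Submodule.span F {v₀, w}) = 2 := by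
        have h1 := finrank_span_eq_card hli
        have h3 : Set.range ![v₀, w] = {v₀, w} := by
          simp [Matrix.range_cons, Matrix.range_empty, Set.pair_comm]
        rwa [h3, Fintype.card_fin] at h1
      have heq : Submodule.span F {v₀, w} = U := Submodule.eq_of_le_of_finrank_eq hle (by rw [hrk, hU])
      rw [← heq] at hu
      obtain ⟨a, b, rfl⟩ := Submodule.mem_span_pair.1 hu
      rw [map_add, map_smul, map_smul, hN0, hN, hv]
      simp
  · right
    push Not at hex
    intro w hw
    by_contra hne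
    refine hex (C w - w) (U.sub_mem (hCU w hw) hw) (sub_ne_zero.2 hne) ?_
    rw [map_sub, map_sub, hC3]
    abel

/-- The main argument. -/
theorem main (h2 : (2 : F) ≠ 0) (B : LinearMap.BilinForm F V) (hA : B.IsAlt) (hnd : ∀ u, (∀ v, B u v = 0) → u = 0)
    (h6 : finrank F V = 6) (ρ : alternatingGroup (Fin 7) →* Module.End F V) (hinj : Function.Injective ρ)
    (hB : ∀ g v w, B (ρ g v) (ρ g w) = B v w) : False := by
  have hS : ρ gs * ρ gs = 1 := by rw [← map_mul, (by decide : gs * gs = 1), map_one]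
  have hT : ρ gt * ρ gt = 1 := by rw [← map_mul, (by decide : gt * gt = 1), map_one]
  have hST : ρ gs * ρ gt = ρ gt * ρ gs := by rw [← map_mul, ← map_mul, (by decide : gs * gt = gt * gs)]
  have hBS : ρ gb * ρ gs = (ρ gs * ρ gt) * ρ gb := by
    rw [← map_mul, ← map_mul, ← map_mul, (by decide : gb * gs = gs * gt * gb)]
  have hBT : ρ gb * ρ gt = ρ gs * ρ gb := by
    rw [← map_mul, ← map_mul, (by decide : gb * gt = gs * gb)]
  have hCS : ρ gc * ρ gs = ρ gs * ρ gc := by rw [← map_mul, ← map_mul, (by decide : gc * gs = gs * gc)]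
  have hCT : ρ gc * ρ gt = ρ gt * ρ gc := by rw [← map_mul, ← map_mul, (by decide : gc * gt = gt * gc)]
  have hCB : ρ gc * ρ gb = ρ gb * ρ gc := by rw [← map_mul, ← map_mul, (by decide : gc * gb = gb * gc)]
  have hC3 : ρ gc * ρ gc * ρ gc = 1 := by
    rw [← map_mul, ← map_mul, (by decide : gc * gc * gc = 1), map_one]
  have hBi : ρ gb * ρ gb⁻¹ = 1 := by rw [← map_mul, mul_inv_cancel, map_one]
  have hBi' : ρ gb⁻¹ * ρ gb = 1 := by rw [← map_mul, inv_mul_cancel, map_one]
  have hS1 : ρ gs ≠ 1 := by
    intro h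
    rw [← map_one ρ] at h
    exact absurd (hinj h) (by decide)
  have hC1 : ρ gc ≠ 1 := by
    intro h
    rw [← map_one ρ] at h
    exact absurd (hinj h) (by decide)
  have hadjS : ∀ v w, B (ρ gs v) w = B v (ρ gs w) := by
    intro v w
    rw [← hB gs v, ← Module.End.mul_apply, hS, Module.End.one_apply]
  have hadjT : ∀ v w, B (ρ gt v) w = B v (ρ gt w) := by
    intro v w
    rw [← hB gt v, ← Module.End.mul_apply, hT, Module.End.one_apply]
  have hBC : ∀ v w, B (ρ gc v) (ρ gc w) = B v w := hB gc
  obtain ⟨x, hx⟩ := conj_bc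
  have hconj : ρ gb = ρ x * ρ gc * ρ x⁻¹ := by rw [← map_mul, ← map_mul, ← hx]
  have hxx : ρ x⁻¹ * ρ x = 1 := by rw [← map_mul, inv_mul_cancel, map_one]
  have hxx' : ρ x * ρ x⁻¹ = 1 := by rw [← map_mul, mul_inv_cancel, map_one]
  generalize ρ gs = S at *
  generalize ρ gt = T at *
  generalize ρ gc = C at *
  generalize ρ gb⁻¹ = Y' at *
  generalize ρ gb = Y at *
  generalize ρ x⁻¹ = X' at *
  generalize ρ x = X at *
  clear hx
  -- the projections
  have nS : (-S) * (-S) = 1 := by rw [neg_mul_neg, hS]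
  have nT : (-T) * (-T) = 1 := by rw [neg_mul_neg, hT]
  have cST : ∀ {A A' : Module.End F V}, A * A' = A' * A → hf A * hf A' = hf A' * hf A := fun h => hf_comm h
  have c1 : S * (-T) = (-T) * S := by rw [mul_neg, neg_mul, hST]
  have c2 : (-S) * T = T * (-S) := by rw [mul_neg, neg_mul, hST]
  have c3 : (-S) * (-T) = (-T) * (-S) := by rw [neg_mul_neg, neg_mul_neg, hST]
  have idem : ∀ {A A' : Module.End F V}, A * A = 1 → A' * A' = 1 → A * A' = A' * A →
      hf A * hf A' * (hf A * hf A') = hf A * hf A' := by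
    intro A A' hA hA' hc
    calc hf A * hf A' * (hf A * hf A') = hf A * (hf A' * hf A) * hf A' := by simp only [mul_assoc]
      _ = (hf A * hf A) * (hf A' * hf A') := by rw [← hf_comm hc]; simp only [mul_assoc]
      _ = _ := by rw [hf_mul_self h2 hA, hf_mul_self h2 hA']
  have ev : ∀ {A A' : Module.End F V}, A * A = 1 → A' * A' = 1 → A * A' = A' * A →
      (∀ v w, B (A v) w = B v (A w)) → (∀ v w, B (A' v) w = B v (A' w)) → Even (rk (hf A * hf A')) := by
    intro A A' h h' hc ha ha'
    exact even_rk B hA hnd (idem h h' hc) (adj_mul B (adj_hf B ha) (adj_hf B ha') (hf_comm hc))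
  have e0 := ev hS hT hST hadjS hadjT
  have e1 := ev hS nT c1 hadjS (adj_neg B hadjT)
  have e2 := ev nS hT c2 (adj_neg B hadjS) hadjT
  have e3 := ev nS nT c3 (adj_neg B hadjS) (adj_neg B hadjT)
  have hrk : (6 : ℕ) = rk (hf S * hf T) + rk (hf S * hf (-T)) + (rk (hf (-S) * hf T) + rk (hf (-S) * hf (-T))) := by
    have r1 : rk (1 : Module.End F V) = 6 := by
      unfold rk
      rw [Module.End.one_eq_id, LinearMap.range_id, finrank_top, h6]
    have r2 := rk_split h2 (P := (1 : Module.End F V)) (mul_one 1) hS (by rw [one_mul, mul_one])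
    rw [one_mul, one_mul, r1] at r2
    rw [r2, rk_split h2 (hf_mul_self h2 hS) hT (hf_comm' hST.symm).symm,
      rk_split h2 (hf_mul_self h2 nS) hT (hf_comm' c2.symm).symm]
  have hSTS : S * T * S = T := by rw [hST, mul_assoc, hS, mul_one]
  have hmul : ∀ {A A' : Module.End F V}, Y * A = A' * Y → Y * hf A = hf A' * Y := by
    intro A A' h
    unfold hf
    rw [mul_smul_comm, smul_mul_assoc, mul_add, add_mul, h, one_mul, mul_one]
  have hmul2 : ∀ {A A' D D' : Module.End F V}, Y * A = A' * Y → Y * D = D' * Y →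
      Y * (hf A * hf D) = hf A' * hf D' * Y := by
    intro A A' D D' h h'
    rw [← mul_assoc, hmul h, mul_assoc, hmul h', mul_assoc]
  have hYS : Y * (-S) = (-(S * T)) * Y := by rw [mul_neg, neg_mul, hBS]
  have hYT : Y * (-T) = (-S) * Y := by rw [mul_neg, neg_mul, hBT]
  have q1 : hf (S * T) * hf (-S) = hf (-S) * hf (-T) := by
    unfold hf
    rw [smul_mul_smul_comm, smul_mul_smul_comm]
    congr 1
    calc (1 + S * T) * (1 + -S) = 1 - S + S * T - S * T * S := by noncomm_ring
      _ = 1 - S + S * T - T := by rw [hSTS]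
      _ = _ := by noncomm_ring
  have q3 : hf (-(S * T)) * hf (-S) = hf (-S) * hf T := by
    unfold hf
    rw [smul_mul_smul_comm, smul_mul_smul_comm]
    congr 1
    calc (1 + -(S * T)) * (1 + -S) = 1 - S - S * T + S * T * S := by noncomm_ring
      _ = 1 - S - S * T + T := by rw [hSTS]
      _ = _ := by noncomm_ring
  have k13 : Y * (hf S * hf (-T)) = (hf (-S) * hf (-T)) * Y := by rw [hmul2 hBS hYT, q1]
  have k32 : Y * (hf (-S) * hf (-T)) = (hf (-S) * hf T) * Y := by rw [hmul2 hYS hYT, q3]
  have r13 : rk (hf (-S) * hf (-T)) = rk (hf S * hf (-T)) := by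
    refine rk_conj hBi hBi' ?_
    rw [k13, mul_assoc, hBi, mul_one]
  have r32 : rk (hf (-S) * hf T) = rk (hf (-S) * hf (-T)) := by
    refine rk_conj hBi hBi' ?_
    rw [k32, mul_assoc, hBi, mul_one]
  have hne : rk (hf S * hf (-T)) ≠ 0 := by
    intro h0
    rw [h0] at r13
    rw [r13] at r32
    have z2 := eq_zero_of_rk r32
    have z3 := eq_zero_of_rk r13
    have h3 : hf (-S) = 0 := by
      rw [← mul_one (hf (-S)), ← hf_add_neg h2 T, mul_add, z2, z3, add_zero]
    apply hS1
    unfold hf at h3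
    have h4 : (1 + -S : Module.End F V) = 0 := by
      rcases smul_eq_zero.1 h3 with h | h
      · exact absurd h (inv_ne_zero h2)
      · exact h
    rw [← sub_eq_add_neg, sub_eq_zero] at h4
    exact h4.symm
  have hU2 : rk (hf S * hf (-T)) = 2 := by
    obtain ⟨a, ha⟩ := e0
    obtain ⟨b, hb⟩ := e1
    omega
  have h00 : rk (hf S * hf T) = 0 := by omega
  have z0 := eq_zero_of_rk h00
  have hsum : hf S * hf (-T) + (hf (-S) * hf T + hf (-S) * hf (-T)) = 1 := by
    have h3 : hf S * hf T + hf S * hf (-T) + (hf (-S) * hf T + hf (-S) * hf (-T)) = (1 : Module.End F V) := by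
      rw [← mul_add, ← mul_add, hf_add_neg h2, mul_one, mul_one, hf_add_neg h2]
    rw [z0, zero_add] at h3
    exact h3
  -- the plane
  set p := hf S * hf (-T) with hp
  have hpp : p * p = p := idem hS nT c1
  have hCp : C * p = p * C := by
    rw [hp, ← mul_assoc, hf_comm' hCS, mul_assoc, hf_comm' (show C * (-T) = (-T) * C by rw [mul_neg, neg_mul, hCT]),
      mul_assoc]
  have hpadj : ∀ v w, B (p v) w = B v (p w) := adj_mul B (adj_hf B hadjS) (adj_hf B (adj_neg B hadjT)) (hf_comm c1)
  have hmem : ∀ u ∈ LinearMap.range p, p u = u := by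
    rintro _ ⟨u, rfl⟩
    rw [← Module.End.mul_apply, hpp]
  have hpl := plane B hA (LinearMap.range p) hU2 (by
    intro u hu h
    apply hnd
    intro w
    rw [← hmem u hu, hpadj]
    exact h _ ⟨w, rfl⟩) C (by
    rintro _ ⟨u, rfl⟩
    rw [← Module.End.mul_apply, hCp]
    exact ⟨C u, rfl⟩) (fun v => by
      rw [← Module.End.mul_apply, ← Module.End.mul_apply, hC3, Module.End.one_apply]) hBC
  have k3 : hf (-S) * hf (-T) = Y * p * Y' := by rw [k13, mul_assoc, hBi, mul_one]
  have k2 : hf (-S) * hf T = Y * (Y * p * Y') * Y' := by rw [← k3, k32, mul_assoc, hBi, mul_one]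
  have spread : ∀ {M : Module.End F V}, M * Y = Y * M → M * p = 0 → M = 0 := by
    intro M h h'
    have m3 : M * (Y * p * Y') = 0 := by rw [← mul_assoc, ← mul_assoc, h, mul_assoc Y, h', mul_zero, zero_mul]
    have m2 : M * (Y * (Y * p * Y') * Y') = 0 := by
      rw [← mul_assoc, ← mul_assoc, h, mul_assoc Y, m3, mul_zero, zero_mul]
    rw [← mul_one M, ← hsum, k3, k2, mul_add, mul_add, h', m3, m2, add_zero, add_zero]
  rcases hpl with h | h
  · have hN : (1 + C + C * C) = 0 := by
      apply spread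
      · rw [add_mul, add_mul, mul_add, mul_add, one_mul, mul_one, mul_assoc, hCB, ← mul_assoc, hCB, mul_assoc]
      · apply LinearMap.ext
        intro v
        have := h (p v) ⟨v, rfl⟩
        simpa [Module.End.mul_apply, LinearMap.add_apply] using this
    have hNY : (1 + Y + Y * Y) = 0 := by
      have : Y * Y = X * (C * C) * X' := by
        rw [hconj]
        calc X * C * X' * (X * C * X') = X * C * (X' * X) * C * X' := by simp only [mul_assoc]
          _ = _ := by rw [hxx, mul_one]; simp only [mul_assoc]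
      calc (1 + Y + Y * Y) = X * (1 + C + C * C) * X' := by
            rw [this, mul_add, mul_add, add_mul, add_mul, mul_one, hxx', hconj]
        _ = 0 := by rw [hN, mul_zero, zero_mul]
    have hSp : S * p = p := by
      rw [hp, ← mul_assoc]
      congr 1
      exact mul_hf_sn hS false
    have hTp : T * p = -p := by
      rw [hp, ← mul_assoc, hf_comm' hST.symm, mul_assoc]
      have := mul_hf_sn hT true
      simp only [sn, if_true] at this
      rw [this, mul_neg]
    have t0 : p + Y * p + Y * Y * p = 0 := by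
      have := congrArg (· * p) hNY
      simpa [add_mul] using this
    have t1 : S * (p + Y * p + Y * Y * p) = p - Y * p - Y * Y * p := by
      have hTY : T * Y = Y * (S * T) := by
        have h5 : Y * (S * T) = (S * T) * (S * Y) := by
          rw [← mul_assoc, hBS, mul_assoc, hBT]
        rw [h5, ← mul_assoc, hSTS]
      have s1 : S * (Y * p) = -(Y * p) := by rw [← mul_assoc, ← hBT, mul_assoc, hTp, mul_neg]
      have s2 : S * (Y * Y * p) = -(Y * Y * p) := by
        rw [mul_assoc Y, ← mul_assoc S, ← hBT, mul_assoc Y T, ← mul_assoc T Y, hTY, mul_assoc Y (S * T), mul_assoc S, hTp,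
          mul_neg, hSp, mul_neg, mul_neg]
      rw [mul_add, mul_add, hSp, s1, s2]
      abel
    rw [t0, mul_zero] at t1
    have t2 : (2 : F) • p = 0 := by
      have : (2 : F) • p = (p + Y * p + Y * Y * p) + (p - Y * p - Y * Y * p) := by
        rw [two_smul]
        abel
      rw [this, t0, ← t1, add_zero]
    have t3 : p = 0 := by
      rcases smul_eq_zero.1 t2 with h | h
      · exact absurd h h2
      · exact h
    apply hne
    rw [t3]
    unfold rk
    rw [LinearMap.range_zero, finrank_bot]
  · apply hC1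
    have hN : (C - 1) = 0 := by
      apply spread
      · rw [sub_mul, mul_sub, hCB, one_mul, mul_one]
      · rw [sub_mul, one_mul, sub_eq_zero]
        apply LinearMap.ext
        intro v
        exact h (p v) ⟨v, rfl⟩
    exact sub_eq_zero.1 hN

end gen

/-- **`A₇` has no faithful symplectic representation of dimension 6 in odd characteristic.** -/
theorem a7_simple {F : Type u} [Field F] [Finite F] {ι : Type} [Fintype ι] [DecidableEq ι] {P : Subgroup (GL ι F)}
    (hC : Core P) (h2 : (2 : F) ≠ 0) (hA : FixA P) (hn : Fintype.card ι = 6)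
    (hZ : (scalars ι F).subgroupOf P = ⊥) (e : Soc P ≃* alternatingGroup (Fin 7)) : False := by
  obtain ⟨f, hf, hfix⟩ := hA
  have hinj : Function.Injective (toSoc P) := by
    rw [← MonoidHom.ker_eq_bot_iff, ker_toSoc, hZ]
  let φ : P ≃* alternatingGroup (Fin 7) := (MulEquiv.ofBijective (toSoc P) ⟨hinj, toSoc_surjective P⟩).trans e
  let ρ : alternatingGroup (Fin 7) →* Module.End F (ι → F) :=
    (((Matrix.toLinAlgEquiv' (R := F) (n := ι)).toAlgHom.toMonoidHom.comp (Units.coeHom (Matrix ι ι F))).comp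
      P.subtype).comp φ.symm.toMonoidHom
  have hρ : ∀ g v, ρ g v = (((φ.symm g : P) : GL ι F) : Matrix ι ι F) *ᵥ v := fun g v => rfl
  refine main h2 (H953.toBil hf) (H953.toBil_isAlt hf) (fun u h => H953.toBil_nd hf u h) ?_ ρ ?_ ?_
  · rw [Module.finrank_fintype_fun_eq_card, hn]
  · intro g g' h
    apply φ.symm.injective
    apply Subtype.ext
    apply Units.ext
    exact (Matrix.toLinAlgEquiv' (R := F) (n := ι)).injective h
  · intro g v w
    rw [H953.toBil_apply, H953.toBil_apply, hρ, hρ]
    exact hfix _ ⟨_, (φ.symm g).2, rfl⟩ v w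

end Cfsg.Agent.H936.SixA7
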