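import Cfsg.Agent.H917.OmAlt2

/-!
# `A₇` in `Ω₈⁻(q)`, characteristic three (task 2039 of helper917, row S5827)

`no_A7_three`.
-/

set_option autoImplicit false
set_option linter.unusedSectionVars false

namespace Cfsg.Agent.H936.OmA7

open Cfsg Cfsg.Geo Module Equiv Equiv.Perm
open Cfsg.Agent.H637.JW Cfsg.Agent.H917.Om

universe u v

variable {F : Type u} [Field F] {T : Type v} [Group T]

/-- an element acting trivially is trivial -/
theorem eq_one_of_fix (h : OC F T) {x : T} (hx : ∀ v, h.σ x v = v) : x = 1 := by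
  apply h.σ_injective
  rw [map_one]
  exact LinearMap.ext fun v => hx v

/-- Klein groups with an element of order three acting on them -/
theorem fix_klein (h2 : (2 : F) ≠ 0) (h : OC F T) {s t α : T} (hs : s ^ 2 = 1) (ht : t ^ 2 = 1) (hst : s * t = t * s)
    (h1 : α⁻¹ * s * α = t) (h3 : α⁻¹ * t * α = s * t) :
    4 ≤ finrank (AlgebraicClosure F) (Fix h.σ s) := by
  have h2' : ((2 : ℕ) : AlgebraicClosure F) ≠ 0 := cast_ne_zero_ac (by exact_mod_cast h2)
  obtain ⟨ζ, hζ⟩ := exists_root (K := AlgebraicClosure F) (N := 2) h2'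
  have hζ2 := hζ.pow_eq_one
  let x : Fin 2 → T := ![s, t]
  have hcx : ∀ j k, x j * x k = x k * x j := by
    intro j k
    fin_cases j <;> fin_cases k <;> first | rfl | exact hst | exact hst.symm
  have hxp : ∀ k, x k ^ 2 = 1 := by
    intro k
    fin_cases k
    · exact hs
    · exact ht
  have hc : ∀ j k, h.σ (x j) * h.σ (x k) = h.σ (x k) * h.σ (x j) := by
    intro j k
    rw [← map_mul, ← map_mul, hcx]
  have hf : ∀ k, h.σ (x k) ^ 2 = 1 := by
    intro k
    rw [← map_pow, hxp, map_one]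
  have hind := indep_W h2' hζ (f := fun k => h.σ (x k)) hc hf
  have hsum := sum_W h2' hζ (f := fun k => h.σ (x k)) hc hf
  set D : ZMod 2 → ZMod 2 → ℕ := fun i j =>
    finrank (AlgebraicClosure F) (W 2 ζ (fun k => h.σ (x k)) ![i, j]) with hD
  have hDle : ∀ i j, D i j ≤ D j (i + j) := by
    intro i j
    refine finrank_W_le α fun v hv k => ?_
    rw [mem_W] at hv
    have ha : h.σ s v = ζ ^ i.val • v := hv 0
    have hb : h.σ t v = ζ ^ j.val • v := hv 1
    fin_cases k
    · change h.σ (α⁻¹ * s * α) v = ζ ^ j.val • v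
      rw [h1, hb]
    · change h.σ (α⁻¹ * t * α) v = ζ ^ (i + j).val • v
      rw [h3, act_mul ha hb, pow_val_add hζ2]
  have hs8 : ∑ i : Fin 2, ∑ j : Fin 2, D i j = 8 := by
    rw [← Module.finrank_fin_fun (AlgebraicClosure F) (n := 8), ← hsum]
    rw [← (piFinTwoEquiv (fun _ => ZMod 2)).symm.sum_comp, Fintype.sum_prod_type]
    rfl
  have hs' : D 0 0 + D 0 1 + (D 1 0 + D 1 1) = 8 := by
    rw [Fin.sum_univ_two, Fin.sum_univ_two, Fin.sum_univ_two] at hs8
    exact hs8
  have hA : ∑ j : ZMod 2, D 0 j ≤ finrank (AlgebraicClosure F) (Fix h.σ s) := by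
    refine sum_le_of_inj hind (fun j : ZMod 2 => ![0, j]) (fun j k h => congrFun h 1) _ fun j => ?_
    intro v hv
    rw [mem_W] at hv
    rw [mem_Fix]
    have := hv 0
    change h.σ s v = ζ ^ (0 : ZMod 2).val • v at this
    rw [this, ZMod.val_zero, pow_zero, one_smul]
  have hA' : D 0 0 + D 0 1 ≤ finrank (AlgebraicClosure F) (Fix h.σ s) := by
    refine le_trans (le_of_eq ?_) hA
    exact (Fin.sum_univ_two (fun j : Fin 2 => D 0 j)).symm
  have e1 : D 1 0 ≤ D 0 1 := hDle 1 0
  have e2 : D 0 1 ≤ D 1 1 := hDle 0 1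
  have e3 : D 1 1 ≤ D 1 0 := hDle 1 1
  clear_value D
  omega

/-- an element of order five normalised by an element of order four -/
theorem fix_five [Fintype F] (h5 : (5 : F) ≠ 0) (h : OC F T) {y w : T} (hy : y ^ 5 = 1) (hw : w⁻¹ * y * w = y * y) :
    4 ≤ finrank (AlgebraicClosure F) (Fix h.σ y) ∧ (y ≠ 1 → w ^ 4 = 1 →
      2 ≤ finrank (AlgebraicClosure F) (Fix h.σ w)) := by
  have h5' : ((5 : ℕ) : AlgebraicClosure F) ≠ 0 := cast_ne_zero_ac (by exact_mod_cast h5)
  obtain ⟨ζ, hζ⟩ := exists_root (K := AlgebraicClosure F) (N := 5) h5'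
  have hζ5 := hζ.pow_eq_one
  let x : Fin 1 → T := ![y]
  have hcx : ∀ j k, x j * x k = x k * x j := by
    intro j k
    fin_cases j; fin_cases k; rfl
  have hxp : ∀ k, x k ^ 5 = 1 := by
    intro k
    fin_cases k
    exact hy
  have hc : ∀ j k, h.σ (x j) * h.σ (x k) = h.σ (x k) * h.σ (x j) := by
    intro j k
    rw [← map_mul, ← map_mul, hcx]
  have hf : ∀ k, h.σ (x k) ^ 5 = 1 := by
    intro k
    rw [← map_pow, hxp, map_one]
  have hsum := sum_W h5' hζ (f := fun k => h.σ (x k)) hc hf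
  set D : ZMod 5 → ℕ := fun i =>
    finrank (AlgebraicClosure F) (W 5 ζ (fun k => h.σ (x k)) ![i]) with hD
  have hDle : ∀ i, D i ≤ D (i + i) := by
    intro i
    refine finrank_W_le w fun v hv k => ?_
    rw [mem_W] at hv
    have ha : h.σ y v = ζ ^ i.val • v := hv 0
    fin_cases k
    change h.σ (w⁻¹ * y * w) v = ζ ^ (i + i).val • v
    rw [hw, act_mul ha ha, pow_val_add hζ5]
  have hs8 : D 0 + D 1 + D 2 + D 3 + D 4 = 8 := by
    rw [← Module.finrank_fin_fun (AlgebraicClosure F) (n := 8), ← hsum]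
    simp only [sum_cons]
    change _ = ∑ i : Fin 5, _
    simp only [Fin.sum_univ_five, Finset.univ_unique, Finset.sum_singleton]
    rfl
  have hmem0 : ∀ v, v ∈ W 5 ζ (fun k => h.σ (x k)) ![0] ↔ h.σ y v = v := by
    intro v
    rw [mem_W]
    constructor
    · intro hv
      have := hv 0
      change h.σ y v = ζ ^ (0 : ZMod 5).val • v at this
      rwa [ZMod.val_zero, pow_zero, one_smul] at this
    · intro hv k
      fin_cases k
      change h.σ y v = ζ ^ (0 : ZMod 5).val • v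
      rw [ZMod.val_zero, pow_zero, one_smul, hv]
  have hA : D 0 ≤ finrank (AlgebraicClosure F) (Fix h.σ y) := by
    refine Submodule.finrank_mono fun v hv => ?_
    rw [mem_Fix]
    exact (hmem0 v).1 hv
  have hpos : 1 ≤ D 0 := by
    have hfo : IsOfFinOrder y := isOfFinOrder_iff_pow_eq_one.2 ⟨5, by norm_num, hy⟩
    have hfin : Finite (Subgroup.zpowers y) := hfo.finite_zpowers
    obtain ⟨v, hv0, hv⟩ := h.exists_fixed_of_isPGroup (ℓ := 5) (not_dvd_five h5) (Subgroup.zpowers y) (by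
      rintro ⟨_, k, rfl⟩
      refine ⟨1, Subtype.ext ?_⟩
      change (y ^ k) ^ (5 ^ 1) = 1
      rw [pow_one, ← zpow_natCast, ← zpow_mul, mul_comm, zpow_mul, zpow_natCast, hy, one_zpow])
    rw [Nat.one_le_iff_ne_zero, ← Nat.pos_iff_ne_zero]
    simp only [hD]
    rw [Module.finrank_pos_iff]
    exact ⟨⟨⟨v, (hmem0 v).2 (hv y (Subgroup.mem_zpowers y))⟩, 0, fun h0 => hv0 (congrArg Subtype.val h0)⟩⟩
  have e1 : D 1 ≤ D 2 := hDle 1
  have e2 : D 2 ≤ D 4 := hDle 2
  have e3 : D 4 ≤ D 3 := hDle 4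
  have e4 : D 3 ≤ D 1 := hDle 3
  refine ⟨by omega, fun hy1 hw4 => ?_⟩
  have hD1 : 0 < D 1 := by
    rw [Nat.pos_iff_ne_zero]
    intro h0
    apply hy1
    refine eq_one_of_fix h fun v => ?_
    rw [← mem_Fix]
    have h8 : finrank (AlgebraicClosure F) (Fix h.σ y) = finrank (AlgebraicClosure F) (Fin 8 → AlgebraicClosure F) := by
      refine le_antisymm (Submodule.finrank_le _) ?_
      rw [Module.finrank_fin_fun]
      omega
    rw [Submodule.eq_top_of_finrank_eq h8]
    trivial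
  obtain ⟨v, hv, hv0⟩ := exists_fix_of_pos hD1
  rw [mem_W] at hv
  have hv1 : h.σ y v = ζ • v := by
    have : h.σ y v = ζ ^ (1 : ZMod 5).val • v := hv 0
    rwa [show (1 : ZMod 5).val = 1 from rfl, pow_one] at this
  have key : ∀ i : ℕ, h.σ y (h.σ (w ^ i) v) = ζ ^ 2 ^ i • h.σ (w ^ i) v := by
    intro i
    induction i with
    | zero => rw [pow_zero, pow_zero, pow_one, map_one, Module.End.one_apply, hv1]
    | succ i ih =>
      have e : y * w ^ (i + 1) = w * (y * (y * w ^ i)) := by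
        rw [pow_succ', ← mul_assoc, ← mul_assoc y y, ← hw]
        group
      rw [← mul_apply', e, mul_apply', mul_apply', mul_apply', ih, map_smul, ih, smul_smul, map_smul, ← mul_apply',
        ← pow_succ', ← pow_add]
      congr 2
      ring
  let vi : Fin 4 → (Fin 8 → AlgebraicClosure F) := fun i => h.σ (w ^ (i : ℕ)) v
  have hli : LinearIndependent (AlgebraicClosure F) vi := by
    refine Module.End.eigenvectors_linearIndependent' (h.σ y) (fun i : Fin 4 => ζ ^ 2 ^ (i : ℕ)) ?_ vi fun i => ?_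
    · intro i j hij
      have h6 : ζ ^ (2 ^ (i : ℕ) % 5) = ζ ^ (2 ^ (j : ℕ) % 5) := by
        rw [pow_mod_of_pow_eq_one hζ5, pow_mod_of_pow_eq_one hζ5]
        exact hij
      have h7 := hζ.pow_inj (Nat.mod_lt _ (by norm_num)) (Nat.mod_lt _ (by norm_num)) h6
      have : ∀ i j : Fin 4, 2 ^ (i : ℕ) % 5 = 2 ^ (j : ℕ) % 5 → i = j := by decide
      exact this i j h7
    · rw [Module.End.hasEigenvector_iff, Module.End.mem_eigenspace_iff]
      refine ⟨key i, fun h0 => hv0 ?_⟩
      apply Cfsg.Agent.H637.JW.injective (σ := h.σ) (w ^ (i : ℕ))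
      rw [map_zero]
      exact h0
  have hu0 : ∑ i, vi i ≠ 0 := by
    intro h0
    have h6 := Fintype.linearIndependent_iff.1 hli (fun _ => 1) (by simpa using h0) 0
    exact one_ne_zero h6
  have hu : h.σ w (∑ i, vi i) = ∑ i, vi i := by
    rw [Fin.sum_univ_four]
    simp only [map_add, vi, ← mul_apply']
    change h.σ (w * w ^ 0) v + h.σ (w * w ^ 1) v + h.σ (w * w ^ 2) v + h.σ (w * w ^ 3) v =
      h.σ (w ^ 0) v + h.σ (w ^ 1) v + h.σ (w ^ 2) v + h.σ (w ^ 3) v
    rw [← pow_succ', ← pow_succ', ← pow_succ', ← pow_succ', hw4, pow_zero]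
    abel
  have hpos2 : 0 < finrank (AlgebraicClosure F) (Fix h.σ w) := by
    rw [Module.finrank_pos_iff]
    exact ⟨⟨⟨_, mem_Fix.2 hu⟩, 0, fun h0 => hu0 (congrArg Subtype.val h0)⟩⟩
  obtain ⟨k, hk⟩ := h.even_fix w
  omega

/-! ### The elements -/

def mk6 (p : Perm (Fin 6)) (h : sign p = 1 := by decide) : alternatingGroup (Fin 6) :=
  ⟨p, mem_alternatingGroup.2 h⟩

def mk7 (p : Perm (Fin 7)) (h : sign p = 1 := by decide) : alternatingGroup (Fin 7) :=
  ⟨p, mem_alternatingGroup.2 h⟩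

def w6 : alternatingGroup (Fin 6) := mk6 (swap 0 1 * swap 1 2 * swap 2 3 * swap 4 5)
def x6 : alternatingGroup (Fin 6) := mk6 (swap 0 4 * swap 1 2)
def w7 : alternatingGroup (Fin 7) := mk7 (swap 0 1 * swap 1 2 * swap 2 3 * swap 4 5)
def x7 : alternatingGroup (Fin 7) := mk7 (swap 0 4 * swap 1 2)
def t7 : alternatingGroup (Fin 7) := mk7 (swap 0 1 * swap 4 2)
def al7 : alternatingGroup (Fin 7) := mk7 (swap 0 1 * swap 1 2)
def g7 : alternatingGroup (Fin 7) := mk7 (swap 2 4 * swap 4 5 * swap 5 3 * swap 1 6)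
def y7 : alternatingGroup (Fin 7) := mk7 (swap 6 0 * swap 0 3 * swap 3 1 * swap 1 2)

set_option maxRecDepth 20000 in
/-- **`A₇`, `p = 3`** -/
theorem no_A7_three [Fintype F] (h3 : (3 : F) = 0) (h : OC F (alternatingGroup (Fin 7))) : False := by
  have h2 : (2 : F) ≠ 0 := by
    intro h2
    exact one_ne_zero (α := F) (by linear_combination h3 - h2)
  have h5 : (5 : F) ≠ 0 := by
    intro h5
    exact one_ne_zero (α := F) (by linear_combination 2 * h3 - h5)
  have hx := fix_klein h2 h (s := x7) (t := t7) (α := al7) (by decide) (by decide) (by decide) (by decide) (by decide)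
  have hy := (fix_five h5 h (y := x7 * w7) (w := g7) (by decide) (by decide)).1
  have hw := (fix_five h5 h (y := y7) (w := w7) (by decide) (by decide)).2 (by decide) (by decide)
  obtain ⟨v, hv0, hvx, hvw⟩ : ∃ v : Fin 8 → AlgebraicClosure F, v ≠ 0 ∧ h.σ x7 v = v ∧ h.σ w7 v = v := by
    by_contra hno
    push Not at hno
    have h6 := h.scott (x := x7) (y := w7) (by
      intro v h1 h4
      by_contra h0
      exact hno v h0 h1 h4)
    omega
  have hfix : h.HasFix ((MonoidHom.id _).comp (up 6)) := by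
    refine ⟨v, hv0, fun g => ?_⟩
    have e1 : up 6 x6 = x7 := by decide
    have e2 : up 6 w6 = w7 := by decide
    have hxs : x6 ∈ stab (h.σ.comp (up 6)) v := by
      change h.σ (up 6 x6) v = v
      rw [e1]; exact hvx
    have hws : w6 ∈ stab (h.σ.comp (up 6)) v := by
      change h.σ (up 6 w6) v = v
      rw [e2]; exact hvw
    have h4 := eq_top_prim (stab (h.σ.comp (up 6)) v) 1 (x6 * w6) w6 (w6 * w6 * w6 * x6 * w6 * w6 * x6 * w6 * x6)
      (mul_mem hxs hws) hws
      (mul_mem (mul_mem (mul_mem (mul_mem (mul_mem (mul_mem (mul_mem (mul_mem hws hws) hws) hxs) hws) hws) hxs) hws) hxs)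
      (by decide) (by decide) (by decide) (card_support_eq_three_iff.1 (by decide))
    have : g ∈ stab (h.σ.comp (up 6)) v := by rw [h4]; trivial
    exact this
  obtain ⟨u, hu0, hu⟩ := h.translates (by norm_num) (MonoidHom.id _) hfix
  have h6 := h.span_orbit hu0
  have h7 : Submodule.span (AlgebraicClosure F) (Set.range u) = ⊤ := by
    rw [eq_top_iff, ← h6]
    refine Submodule.span_mono ?_
    rintro _ ⟨g, rfl⟩
    exact ⟨_, (hu g _).symm⟩
  have h8 := finrank_le_of_span_eq_top h7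
  rw [Module.finrank_fin_fun, Fintype.card_fin] at h8
  omega

end Cfsg.Agent.H936.OmA7
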