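import Cfsg.Agent.H936.AltPerm
import Cfsg.Agent.H203.LSDef

/-!
# Projective representations of large alternating groups

`P → A_m` a perfect central extension, `ρ` a representation of `P` of dimension `d ≤ N` in characteristic different
from `r`, where `r = 5`, `m ≥ 12`, `N = 15`, or `r = 5`, `m ≥ 10`, `N = 7`, or `r = 7`, `m ≥ 14`, `N = 17` (`Num`).  An `r`-cycle has a unique real lift of order `r` (`LC`,
`lift_unique`, `exists_lift`); disjoint `r`-cycles have no common eigenvector with two nontrivial eigenvalues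
(`no_common`), hence each acts trivially on the commutator space of the other (`trivial_on`).
-/

set_option autoImplicit false

universe u v w

namespace Cfsg.Agent.H936.AltBig

open Equiv Equiv.Perm Module Cfsg.Agent.H203.LS

/-- the numerical condition -/
def Num (r m N : ℕ) : Prop :=
  (r = 5 ∧ 12 ≤ m ∧ N ≤ 15) ∨ (r = 5 ∧ 10 ≤ m ∧ N ≤ 7) ∨ (r = 7 ∧ 14 ≤ m ∧ N ≤ 17)

theorem Num.r_cases {r m N : ℕ} (h : Num r m N) : r = 5 ∨ r = 7 := by
  rcases h with ⟨rfl, -⟩ | ⟨rfl, -⟩ | ⟨rfl, -⟩ <;> simp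

theorem Num.prime {r m N : ℕ} (h : Num r m N) : r.Prime := by
  rcases h.r_cases with rfl | rfl <;> norm_num

theorem Num.odd {r m N : ℕ} (h : Num r m N) : Odd r := by
  rcases h.r_cases with rfl | rfl <;> decide

theorem Num.three {r m N : ℕ} (h : Num r m N) : Nat.Coprime 3 r := by
  rcases h.r_cases with rfl | rfl <;> decide

theorem Num.two_mul {r m N : ℕ} (h : Num r m N) : 2 * r ≤ m := by
  rcases h with ⟨rfl, h⟩ | ⟨rfl, h⟩ | ⟨rfl, h⟩ <;> omega

theorem Num.add_two {r m N : ℕ} (h : Num r m N) : r + 2 ≤ m := by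
  rcases h with ⟨rfl, h⟩ | ⟨rfl, h⟩ | ⟨rfl, h⟩ <;> omega

/-- sufficiently many pairs of exponents -/
theorem Num.pairs {r m N : ℕ} (h : Num r m N) : ∃ S : Finset (ℕ × ℕ), N < S.card ∧
    (∀ a ∈ S, Even (a.1 + a.2) ∨ 2 * r + 2 ≤ m) ∧
    ∀ a ∈ S, ∀ b ∈ S, 3 ^ a.1 % r = 3 ^ b.1 % r → 3 ^ a.2 % r = 3 ^ b.2 % r → a = b := by
  rcases h with ⟨rfl, h, hN⟩ | ⟨rfl, h, hN⟩ | ⟨rfl, h, hN⟩
  · refine ⟨Finset.range 4 ×ˢ Finset.range 4, lt_of_le_of_lt hN (by decide), fun a _ => Or.inr (by omega), ?_⟩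
    decide
  · refine ⟨(Finset.range 4 ×ˢ Finset.range 4).filter (fun a => Even (a.1 + a.2)), lt_of_le_of_lt hN (by decide),
      fun a ha => Or.inl (Finset.mem_filter.1 ha).2, ?_⟩
    decide
  · refine ⟨(Finset.range 6 ×ˢ Finset.range 6).filter (fun a => Even (a.1 + a.2)), lt_of_le_of_lt hN (by decide),
      fun a ha => Or.inl (Finset.mem_filter.1 ha).2, ?_⟩
    decide

theorem Num.three_pow {r m N : ℕ} (h : Num r m N) : ∀ i < r - 1, ∀ j < r - 1, 3 ^ i % r = 3 ^ j % r → i = j := by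
  rcases h.r_cases with rfl | rfl <;> decide

variable {m r N : ℕ} {P : Type v} [Group P] {π : P →* alternatingGroup (Fin m)} {k : Type w} [Field k] [IsAlgClosed k]
  {V : Type w} [AddCommGroup V] [Module k V] [FiniteDimensional k V] {ρ : P →* (V →ₗ[k] V)}

/-- the permutation of an element -/
def pm (π : P →* alternatingGroup (Fin m)) (x : P) : Perm (Fin m) := (π x : Perm (Fin m))

@[simp] theorem pm_mul (x y : P) : pm π (x * y) = pm π x * pm π y := by simp [pm]
@[simp] theorem pm_inv (x : P) : pm π x⁻¹ = (pm π x)⁻¹ := by simp [pm]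
@[simp] theorem pm_pow (x : P) (n : ℕ) : pm π (x ^ n) = pm π x ^ n := by simp [pm]

theorem pi_eq_of_pm {x y : P} (h : pm π x = pm π y) : π x = π y := Subtype.ext h

variable (hc : π.ker ≤ Subgroup.center P)

theorem mem_ker_of_pm {z : P} (h : pm π z = 1) : z ∈ π.ker := MonoidHom.mem_ker.2 (Subtype.ext h)

include hc in
theorem central_of_pm {z : P} (h : pm π z = 1) (g : P) : g * z = z * g :=
  Subgroup.mem_center_iff.1 (hc (mem_ker_of_pm h)) g

theorem exists_pm (hπ : Function.Surjective π) {y : Perm (Fin m)} (hy : y ∈ alternatingGroup (Fin m)) :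
    ∃ x : P, pm π x = y := by
  obtain ⟨x, hx⟩ := hπ ⟨y, hy⟩
  exact ⟨x, congrArg Subtype.val hx⟩

theorem eq_one_of_pow_coprime {a b : ℕ} (hab : Nat.Coprime a b) {z : P} (ha : z ^ a = 1) (hb : z ^ b = 1) : z = 1 := by
  have h6 := Nat.dvd_gcd (orderOf_dvd_of_pow_eq_one ha) (orderOf_dvd_of_pow_eq_one hb)
  rw [hab] at h6
  rwa [Nat.dvd_one, orderOf_eq_one_iff] at h6

include hc in
/-- commuting elements of coprime orders modulo the kernel -/
theorem comm_of_coprime {a b : ℕ} (hab : Nat.Coprime a b) {x c : P} (hx : x ^ b = 1) (hca : pm π c ^ a = 1)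
    (h : pm π c * pm π x = pm π x * pm π c) : c * x = x * c := by
  set z := c * x * c⁻¹ * x⁻¹ with hz
  have hzc : ∀ g, g * z = z * g := central_of_pm hc (by
    rw [hz, pm_mul, pm_mul, pm_mul, pm_inv, pm_inv, h, mul_inv_cancel_right, mul_inv_cancel])
  have h1 : c * x * c⁻¹ = z * x := by rw [hz]; group
  have hcomm : Commute z x := (hzc x).symm
  have h2 : z ^ b = 1 := by
    have h3 : (c * x * c⁻¹) ^ b = (z * x) ^ b := by rw [h1]
    rw [conj_pow, hx, mul_one, mul_inv_cancel, hcomm.mul_pow, hx, mul_one] at h3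
    exact h3.symm
  have h4 : ∀ i : ℕ, c ^ i * x * (c ^ i)⁻¹ = z ^ i * x := by
    intro i
    induction i with
    | zero => simp
    | succ i ih =>
      have : c ^ (i + 1) * x * (c ^ (i + 1))⁻¹ = c * (c ^ i * x * (c ^ i)⁻¹) * c⁻¹ := by rw [pow_succ']; group
      rw [this, ih]
      have h5 : c * (z ^ i * x) * c⁻¹ = z ^ i * (c * x * c⁻¹) := by
        have h6 : Commute c (z ^ i) := Commute.pow_right (hzc c) i
        rw [← mul_assoc c, h6.eq]; group
      rw [h5, h1, pow_succ]; group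
  have h5 : z ^ a = 1 := by
    have h6 := h4 a
    have h7 : ∀ g, g * c ^ a = c ^ a * g := central_of_pm hc (by rw [pm_pow, hca])
    rw [← h7 x, mul_inv_cancel_right] at h6
    exact (right_eq_mul.1 h6)
  have h8 : z = 1 := eq_one_of_pow_coprime hab h5 h2
  rw [h8, one_mul, mul_inv_eq_iff_eq_mul] at h1
  exact h1

include hc in
/-- lifts of even permutations disjoint from an `r`-element commute with it -/
theorem comm_disjoint (hπ : Function.Surjective π) (hN : Num r m N) {x c : P} (hx : x ^ r = 1)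
    (h : Perm.Disjoint (pm π c) (pm π x)) : c * x = x * c := by
  classical
  set s := (pm π x).support with hs
  let p : Fin m → Prop := fun i => i ∉ s
  have hd : ∀ τ : Perm {i // p i}, Perm.Disjoint (ofSubtype τ) (pm π x) := by
    intro τ i
    by_cases hi : p i
    · exact Or.inr (notMem_support.1 hi)
    · exact Or.inl (ofSubtype_apply_of_not_mem τ hi)
  have key : ∀ τ ∈ Subgroup.closure {σ : Perm {i // p i} | IsThreeCycle σ},
      τ ∈ alternatingGroup {i // p i} ∧ ∀ g : P, pm π g = ofSubtype τ → g * x = x * g := by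
    intro τ hτ
    refine Subgroup.closure_induction (p := fun τ _ =>
      τ ∈ alternatingGroup {i // p i} ∧ ∀ g : P, pm π g = ofSubtype τ → g * x = x * g) ?_ ?_ ?_ ?_ hτ
    · intro σ hσ
      have h3 : σ ^ 3 = 1 := by
        have := pow_orderOf_eq_one σ
        rwa [IsThreeCycle.orderOf hσ] at this
      refine ⟨mem_alternatingGroup.2 (IsThreeCycle.sign hσ), fun g hg => ?_⟩
      refine comm_of_coprime hc hN.three hx ?_ ?_
      · rw [hg, ← map_pow, h3, map_one]
      · rw [hg]; exact (hd σ).commute.eq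
    · exact ⟨one_mem _, fun g hg => (central_of_pm hc (by rw [hg, map_one]) x).symm⟩
    · rintro a b _ _ ⟨ha, ha'⟩ ⟨hb, hb'⟩
      refine ⟨mul_mem ha hb, fun g hg => ?_⟩
      obtain ⟨g₁, hg₁⟩ := exists_pm hπ (y := ofSubtype a) (by
        rw [mem_alternatingGroup, sign_ofSubtype]; exact mem_alternatingGroup.1 ha)
      have h1 := ha' g₁ hg₁
      have h2 := hb' (g₁⁻¹ * g) (by rw [pm_mul, pm_inv, hg, hg₁, map_mul]; group)
      have h3 : g = g₁ * (g₁⁻¹ * g) := by group
      rw [h3, mul_assoc, h2, ← mul_assoc, h1]; group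
    · rintro a _ ⟨ha, ha'⟩
      refine ⟨inv_mem ha, fun g hg => ?_⟩
      have h1 := ha' g⁻¹ (by rw [pm_inv, hg, map_inv, inv_inv])
      have h2 : Commute g⁻¹ x := h1
      exact (Commute.inv_left_iff.1 h2).eq
  have hp : ∀ i, p (pm π c i) ↔ p i := by
    intro i
    simp only [p, hs, mem_support, not_not]
    rcases h i with h1 | h1
    · rw [h1]
    · have h2 : pm π x (pm π c i) = pm π c i := by
        have := congrArg (fun f : Perm (Fin m) => f i) h.commute.eq
        simp only [Perm.mul_apply] at this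
        rw [h1] at this
        exact this.symm
      exact ⟨fun _ => h1, fun _ => h2⟩
  have h1 : ofSubtype (subtypePerm (pm π c) hp) = pm π c := by
    apply ofSubtype_subtypePerm
    intro i hi
    rcases h i with h1 | h1
    · exact absurd h1 hi
    · exact notMem_support.2 h1
  refine (key (subtypePerm (pm π c) hp) ?_).2 c h1.symm
  rw [closure_three_cycles_eq_alternating, mem_alternatingGroup, ← sign_ofSubtype, h1]
  exact mem_alternatingGroup.1 (π c).2

include hc in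
/-- lifts of elements centralising an `r`-cycle -/
theorem comm_cycle (hπ : Function.Surjective π) (hN : Num r m N) {x c : P} (hcyc : Cyc r (pm π x)) (hx : x ^ r = 1)
    (h : pm π c * pm π x = pm π x * pm π c) : c * x = x * c := by
  classical
  obtain ⟨hc', hz⟩ := hcyc.1.commute_iff.1 h
  obtain ⟨i, hi⟩ := Subgroup.mem_zpowers_iff.1 hz
  have hz : ∀ j : ℤ, pm π (x ^ j) = pm π x ^ j := by
    intro j
    simp [pm]
  have h1 : pm π (x ^ (-i) * c) = (ofSubtype (subtypePerm (pm π c) hc'))⁻¹ * pm π c := by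
    rw [pm_mul, hz, zpow_neg, hi]
  have hd : Perm.Disjoint (pm π (x ^ (-i) * c)) (pm π x) := by
    rw [h1]
    intro a
    by_cases ha : a ∈ (pm π x).support
    · left
      rw [Perm.mul_apply, Perm.inv_eq_iff_eq]
      exact (ofSubtype_subtypePerm_of_mem hc' ha).symm
    · right
      exact notMem_support.1 ha
  have h2 := comm_disjoint hc hπ hN hx hd
  have h3 : c = x ^ i * (x ^ (-i) * c) := by group
  have h4 : x ^ i * x = x * x ^ i := (Commute.self_zpow x i).eq.symm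
  rw [h3, mul_assoc, h2, ← mul_assoc, h4]; group

/-- real lifts of `r`-cycles of order `r` -/
structure LC (r : ℕ) (π : P →* alternatingGroup (Fin m)) (x : P) : Prop where
  cyc : Cyc r (pm π x)
  pow : x ^ r = 1
  real : ∃ g, g * x * g⁻¹ = x⁻¹

theorem LC.conj {x : P} (h : LC r π x) (g : P) : LC r π (g * x * g⁻¹) := by
  refine ⟨?_, ?_, ?_⟩
  · rw [pm_mul, pm_mul, pm_inv]; exact h.cyc.conj _
  · rw [conj_pow, h.pow, mul_one, mul_inv_cancel]
  · obtain ⟨a, ha⟩ := h.real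
    refine ⟨g * a * g⁻¹, ?_⟩
    have : g * a * g⁻¹ * (g * x * g⁻¹) * (g * a * g⁻¹)⁻¹ = g * (a * x * a⁻¹) * g⁻¹ := by group
    rw [this, ha]; group

theorem LC.pow_coprime {x : P} (h : LC r π x) {j : ℕ} (hj : j.Coprime r) : LC r π (x ^ j) := by
  refine ⟨?_, ?_, ?_⟩
  · rw [pm_pow]
    have hj' : j.Coprime (orderOf (pm π x)) := by rw [h.cyc.order]; exact hj
    exact ⟨h.cyc.1.pow_iff.2 hj', by rw [support_pow_coprime hj', h.cyc.2]⟩
  · rw [← pow_mul, mul_comm, pow_mul, h.pow, one_pow]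
  · obtain ⟨a, ha⟩ := h.real
    exact ⟨a, by rw [← conj_pow, ha, inv_pow]⟩

include hc in
/-- uniqueness of lifts -/
theorem lift_unique (hπ : Function.Surjective π) (hN : Num r m N) {x y : P} (h : pm π x = pm π y) (hx : LC r π x)
    (hy : LC r π y) : x = y := by
  have hz1 : pm π (x⁻¹ * y) = 1 := by rw [pm_mul, pm_inv, h, inv_mul_cancel]
  have hcen := central_of_pm hc hz1
  have hy' : y = x * (x⁻¹ * y) := by group
  set z := x⁻¹ * y with hzdef
  have h3 : z ^ r = 1 := by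
    have h4 := hy.pow
    rw [hy', Commute.mul_pow (hcen x), hx.pow, one_mul] at h4
    exact h4
  obtain ⟨g, hg⟩ := hx.real
  obtain ⟨a, ha⟩ := hy.real
  -- `g⁻¹ a` centralises
  have h4 : pm π (g⁻¹ * a) * pm π x = pm π x * pm π (g⁻¹ * a) := by
    have e1 : pm π g * pm π x * (pm π g)⁻¹ = (pm π x)⁻¹ := by rw [← pm_inv, ← pm_inv, ← hg, pm_mul, pm_mul]
    have e2 : pm π a * pm π x * (pm π a)⁻¹ = (pm π x)⁻¹ := by
      rw [h, ← pm_inv, ← pm_inv, ← ha, pm_mul, pm_mul]
    rw [pm_mul, pm_inv]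
    have e3 : pm π a * pm π x = (pm π x)⁻¹ * pm π a := mul_inv_eq_iff_eq_mul.1 e2
    have e4 : (pm π g)⁻¹ * (pm π x)⁻¹ = pm π x * (pm π g)⁻¹ := by rw [← e1]; group
    rw [mul_assoc, e3, ← mul_assoc, e4, mul_assoc]
  have h5 := comm_cycle hc hπ hN hx.cyc hx.pow h4
  have h6 : a * x * a⁻¹ = x⁻¹ := by
    have : a * x * a⁻¹ = g * ((g⁻¹ * a) * x * (g⁻¹ * a)⁻¹) * g⁻¹ := by group
    rw [this, h5, mul_inv_cancel_right, hg]
  have h7 : z ^ 2 = 1 := by
    have h8 : a * y * a⁻¹ = x⁻¹ * z := by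
      rw [hy']
      have : a * (x * z) * a⁻¹ = a * x * (z * a⁻¹) := by group
      rw [this, ← hcen a⁻¹, ← mul_assoc, h6]
    rw [ha, hy', mul_inv_rev] at h8
    have h9 : z⁻¹ * x⁻¹ = x⁻¹ * z⁻¹ := by
      rw [← mul_inv_rev, ← mul_inv_rev, hcen x]
    rw [h9] at h8
    have h10 := mul_left_cancel h8
    rw [pow_two, ← h10]
    nth_rewrite 2 [h10]
    exact inv_mul_cancel z
  have h8 : z = 1 := eq_one_of_pow_coprime (Nat.coprime_two_left.2 hN.odd) h7 h3
  rw [hy', h8, mul_one]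

include hc in
theorem exists_lift (hπ : Function.Surjective π) (hN : Num r m N) {y : Perm (Fin m)} (hy : Cyc r y) :
    ∃ x : P, pm π x = y ∧ LC r π x := by
  obtain ⟨t, ht⟩ := hN.odd
  obtain ⟨σ, hσ, h1⟩ := exists_even_one hy (c := r - 1) (by
    have h3 := hN.prime.one_lt
    have h4 : Nat.Coprime (r - 1) (r - 1 + 1) := by simp
    rwa [Nat.sub_add_cancel h3.le] at h4) hN.add_two
  have h1' : σ * y * σ⁻¹ = y⁻¹ := by
    rw [h1, eq_inv_iff_mul_eq_one, ← pow_succ, Nat.sub_add_cancel hN.prime.one_lt.le, hy.pow_r]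
  obtain ⟨g, hg⟩ := exists_pm hπ hσ
  obtain ⟨Y, hY⟩ := exists_pm hπ (pow_mem (hy.mem_alt hN.odd) (t + 1))
  -- `g Y g⁻¹ = Y⁻¹ z`
  obtain ⟨z, hz⟩ : ∃ z, z = Y * (g * Y * g⁻¹) := ⟨_, rfl⟩
  have hz1 : pm π z = 1 := by
    rw [hz, pm_mul, pm_mul, pm_mul, pm_inv, hg, hY, ← conj_pow, h1', inv_pow, mul_inv_cancel]
  have hcen := central_of_pm hc hz1
  have h2 : g * Y * g⁻¹ = Y⁻¹ * z := by rw [hz]; group
  obtain ⟨W, hW⟩ : ∃ W, W = Y * Y * z⁻¹ := ⟨_, rfl⟩
  have hcen' : ∀ a, a * z⁻¹ = z⁻¹ * a := fun a => (Commute.inv_right (hcen a : Commute a z)).eq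
  have hWpm : pm π W = y := by
    rw [hW, pm_mul, pm_mul, pm_inv, hz1, inv_one, mul_one, hY, ← pow_add]
    have : t + 1 + (t + 1) = r + 1 := by omega
    rw [this, pow_succ, hy.pow_r, one_mul]
  have hWinv : g * W * g⁻¹ = W⁻¹ := by
    have e1 : g * W * g⁻¹ = (g * Y * g⁻¹) * (g * Y * g⁻¹) * (g * z⁻¹ * g⁻¹) := by rw [hW]; group
    have e2 : g * z⁻¹ * g⁻¹ = z⁻¹ := by rw [hcen', mul_inv_cancel_right]
    rw [e1, e2, h2, hW]
    have e3 : Y⁻¹ * z * (Y⁻¹ * z) * z⁻¹ = Y⁻¹ * (z * Y⁻¹) := by group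
    rw [e3, ← hcen, mul_inv_rev, inv_inv, ← hcen]
    group
  have hu : (W ^ r) ^ 2 = 1 := by
    have hu1 : pm π (W ^ r) = 1 := by rw [pm_pow, hWpm, hy.pow_r]
    have hu2 := central_of_pm hc hu1
    have hu3 : g * W ^ r * g⁻¹ = (W ^ r)⁻¹ := by rw [← conj_pow, hWinv, inv_pow]
    rw [hu2, mul_inv_cancel_right] at hu3
    rw [pow_two]
    nth_rewrite 2 [hu3]
    exact mul_inv_cancel _
  refine ⟨W ^ (r + 1), ?_, ?_, ?_, g, ?_⟩
  · rw [pm_pow, hWpm, pow_succ, hy.pow_r, one_mul]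
  · rw [pm_pow, hWpm, pow_succ, hy.pow_r, one_mul]; exact hy
  · rw [← pow_mul, mul_comm, pow_mul, show r + 1 = 2 * (t + 1) by omega, pow_mul, hu, one_pow]
  · rw [← conj_pow, hWinv, inv_pow]

include hc in
theorem LC.conj_eq (hπ : Function.Surjective π) (hN : Num r m N) {x g : P} (h : LC r π x) {j : ℕ} (hjr : j.Coprime r)
    (hj : pm π g * pm π x * (pm π g)⁻¹ = pm π x ^ j) : g * x * g⁻¹ = x ^ j := by
  apply lift_unique hc hπ hN _ (h.conj g) (h.pow_coprime hjr)
  rw [pm_mul, pm_mul, pm_inv, hj, pm_pow]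

/-- eigenvectors under conjugation -/
theorem eig_conj {x g : P} {j : ℕ} (h : g * x * g⁻¹ = x ^ j) {v : V} {ζ : k} (hv : ρ x v = ζ • v) :
    ρ x (ρ g⁻¹ v) = ζ ^ j • ρ g⁻¹ v := by
  have h1 : x * g⁻¹ = g⁻¹ * x ^ j := by rw [← h]; group
  have h2 : ∀ i : ℕ, (ρ x ^ i) v = ζ ^ i • v := by
    intro i
    induction i with
    | zero => simp
    | succ i ih => rw [pow_succ, Module.End.mul_apply, hv, map_smul, ih, smul_smul, pow_succ, mul_comm]
  rw [← Module.End.mul_apply, ← map_mul, h1, map_mul, Module.End.mul_apply, map_pow, h2, map_smul]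

theorem inv_ne {g : P} {v : V} (hv : v ≠ 0) : ρ g v ≠ 0 := by
  intro h
  apply hv
  have h1 : ρ g⁻¹ (ρ g v) = v := by rw [← Module.End.mul_apply, ← map_mul, inv_mul_cancel, map_one]; rfl
  rw [← h1, h, map_zero]

theorem root_pow {ζ : k} (hr : r.Prime) (h : ζ ^ r = 1) (h1 : ζ ≠ 1) {a b : ℕ} (hab : ζ ^ a = ζ ^ b) : a % r = b % r := by
  haveI := Fact.mk hr
  have h0 : ζ ≠ 0 := by
    rintro rfl
    rw [zero_pow hr.ne_zero] at h
    exact zero_ne_one h
  have h2 : orderOf (Units.mk0 ζ h0) = r := by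
    apply orderOf_eq_prime
    · ext; simpa using h
    · intro h3
      exact h1 (by simpa using congrArg Units.val h3)
  have h3 : Units.mk0 ζ h0 ^ a = Units.mk0 ζ h0 ^ b := by
    ext; simpa using hab
  have h4 := pow_inj_mod.1 h3
  rwa [h2] at h4

theorem eig_root {x : P} (hx : x ^ r = 1) {v : V} (hv0 : v ≠ 0) {ζ : k} (hv : ρ x v = ζ • v) : ζ ^ r = 1 := by
  have h2 : ∀ i : ℕ, (ρ x ^ i) v = ζ ^ i • v := by
    intro i
    induction i with
    | zero => simp
    | succ i ih => rw [pow_succ, Module.End.mul_apply, hv, map_smul, ih, smul_smul, pow_succ, mul_comm]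
  have h3 := h2 r
  rw [← map_pow, hx, map_one, Module.End.one_apply] at h3
  have h4 : (1 - ζ ^ r) • v = 0 := by rw [sub_smul, one_smul, ← h3, sub_self]
  have h5 := (smul_eq_zero.1 h4).resolve_right hv0
  exact (sub_eq_zero.1 h5).symm

include hc in
/-- **No common eigenvector with two nontrivial eigenvalues.** -/
theorem no_common (hπ : Function.Surjective π) (hN : Num r m N) (hd : finrank k V ≤ N) {x y : P} (hx : LC r π x)
    (hy : LC r π y) (hxy : Perm.Disjoint (pm π x) (pm π y)) {v : V} (hv : v ≠ 0) {ζ η : k} (h : ρ x v = ζ • v)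
    (h' : ρ y v = η • v) (hζ : ζ ≠ 1) (hη : η ≠ 1) : False := by
  obtain ⟨S, hS, hS1, hS2⟩ := hN.pairs
  have key : ∀ a : S, ∃ g : P, g * x * g⁻¹ = x ^ 3 ^ (a : ℕ × ℕ).1 ∧ g * y * g⁻¹ = y ^ 3 ^ (a : ℕ × ℕ).2 := by
    intro a
    obtain ⟨σ, hσ, h1, h2'⟩ := exists_even hx.cyc hy.cyc hxy hN.three (a : ℕ × ℕ).1 (a : ℕ × ℕ).2 (hS1 a a.2)
    obtain ⟨g, hg⟩ := hπ ⟨σ, hσ⟩
    have hg' : pm π g = σ := congrArg Subtype.val hg
    exact ⟨g, hx.conj_eq hc hπ hN (hN.three.pow_left _) (by rw [hg', h1]),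
      hy.conj_eq hc hπ hN (hN.three.pow_left _) (by rw [hg', h2'])⟩
  choose g hg1 hg2 using key
  have h1 := card_le_of_weights (k := k) (V := V) (ι := S) (J := Fin 2) ![ρ x, ρ y] (fun a => ρ (g a)⁻¹ v)
    (fun a => ![ζ ^ 3 ^ (a : ℕ × ℕ).1, η ^ 3 ^ (a : ℕ × ℕ).2]) (fun a => inv_ne hv) (by
      intro a j
      fin_cases j
      · exact eig_conj (hg1 a) h
      · exact eig_conj (hg2 a) h') (by
      intro a b hab
      have e1 := congrFun hab 0
      have e2 := congrFun hab 1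
      simp only [Matrix.cons_val_zero, Matrix.cons_val_one] at e1 e2
      exact Subtype.ext (hS2 a a.2 b b.2 (root_pow hN.prime (eig_root hx.pow hv h) hζ e1)
        (root_pow hN.prime (eig_root hy.pow hv h') hη e2)))
  rw [Nat.card_eq_fintype_card, Fintype.card_coe] at h1
  omega

/-- the commutator space of an element -/
def cs (ρ : P →* (V →ₗ[k] V)) (x : P) : Submodule k V := LinearMap.range (ρ x - 1)

theorem mem_cs {x : P} {v : V} : v ∈ cs ρ x ↔ ∃ w, ρ x w - w = v := by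
  unfold cs
  rw [LinearMap.mem_range]
  simp

theorem cs_fix {x : P} {M : ℕ} (hM : (M : k) ≠ 0) (hx : x ^ M = 1) {v : V} (hv : v ∈ cs ρ x) (h : ρ x v = v) : v = 0 := by
  obtain ⟨w, hw⟩ := mem_cs.1 hv
  have hw' : ρ x w = w + v := by rw [← hw]; abel
  have key : ∀ n : ℕ, (ρ x ^ n) w = w + (n : k) • v := by
    intro n
    induction n with
    | zero => simp
    | succ n ih =>
      rw [pow_succ', Module.End.mul_apply, ih, map_add, map_smul, h, hw']
      push_cast
      rw [add_smul, one_smul]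
      abel
  have h1 := key M
  rw [← map_pow, hx, map_one, Module.End.one_apply] at h1
  exact (smul_eq_zero.1 (left_eq_add.1 h1)).resolve_left hM

theorem cs_inv {x y : P} (h : y * x = x * y) {v : V} (hv : v ∈ cs ρ x) : ρ y v ∈ cs ρ x := by
  obtain ⟨w, rfl⟩ := mem_cs.1 hv
  refine mem_cs.2 ⟨ρ y w, ?_⟩
  rw [map_sub, ← Module.End.mul_apply, ← Module.End.mul_apply, ← map_mul, ← map_mul, h]

include hc in
/-- **Disjoint `r`-cycles act trivially on the commutator spaces.** -/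
theorem trivial_on (hπ : Function.Surjective π) (hN : Num r m N) (hr : (r : k) ≠ 0) (hd : finrank k V ≤ N) {x y : P}
    (hx : LC r π x) (hy : LC r π y) (hxy : Perm.Disjoint (pm π x) (pm π y)) {v : V} (hv : v ∈ cs ρ x) : ρ y v = v := by
  classical
  have hcomm : y * x = x * y := comm_disjoint hc hπ hN hx.pow hxy.symm
  by_contra hne
  let f : Fin 2 → (cs ρ x →ₗ[k] cs ρ x) := ![(ρ x).restrict (fun w hw => cs_inv (ρ := ρ) rfl hw),
    (ρ y).restrict (fun w hw => cs_inv (ρ := ρ) hcomm hw)]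
  have hf0 : ∀ w : cs ρ x, ((f 0 w : cs ρ x) : V) = ρ x w := fun w => rfl
  have hf1 : ∀ w : cs ρ x, ((f 1 w : cs ρ x) : V) = ρ y w := fun w => rfl
  have hfc : ∀ i j, f i * f j = f j * f i := by
    have h01 : f 0 * f 1 = f 1 * f 0 := by
      ext w
      rw [Module.End.mul_apply, Module.End.mul_apply, hf0, hf1, hf1, hf0, ← Module.End.mul_apply, ← map_mul,
        ← Module.End.mul_apply, ← map_mul, hcomm]
    intro i j
    fin_cases i <;> fin_cases j
    · rfl
    · exact h01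
    · exact h01.symm
    · rfl
  have hfp : ∀ n : ℕ, ∀ w : cs ρ x, (((f 1) ^ n) w : V) = ρ (y ^ n) w := by
    intro n
    induction n with
    | zero => intro w; simp
    | succ n ih =>
      intro w
      rw [pow_succ, Module.End.mul_apply, ih, hf1, pow_succ, map_mul, Module.End.mul_apply]
  have hf1r : f 1 ^ r = 1 := by
    ext w
    rw [hfp, hy.pow, map_one]
    rfl
  have hfne : f 1 ≠ 1 := by
    intro h
    apply hne
    have := congrArg Subtype.val (LinearMap.congr_fun h ⟨v, hv⟩)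
    rw [hf1] at this
    exact this
  obtain ⟨w, χ, hw0, hw, hχ⟩ := exists_weight f hfc hr hf1r hfne
  have hw0' : (w : V) ≠ 0 := fun h => hw0 (Subtype.ext h)
  have e0 : ρ x w = χ 0 • (w : V) := by
    have := congrArg Subtype.val (hw 0)
    rw [hf0] at this
    exact this
  have e1 : ρ y w = χ 1 • (w : V) := by
    have := congrArg Subtype.val (hw 1)
    rw [hf1] at this
    exact this
  refine no_common hc hπ hN hd hx hy hxy hw0' e0 e1 ?_ hχ
  intro h
  rw [h, one_smul] at e0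
  exact hw0' (cs_fix hr hx.pow w.2 e0)

end Cfsg.Agent.H936.AltBig
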