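import Mathlib

/-!
# Cycles of prime length in alternating groups: elements normalising two disjoint cycles
-/

set_option autoImplicit false

namespace Cfsg.Agent.H936.AltBig

open Equiv Equiv.Perm

variable {m r : ℕ}

/-- an `r`-cycle -/
def Cyc (r : ℕ) (y : Perm (Fin m)) : Prop := y.IsCycle ∧ y.support.card = r

theorem Cyc.order {y : Perm (Fin m)} (h : Cyc r y) : orderOf y = r := by rw [h.1.orderOf, h.2]

theorem Cyc.pow_r {y : Perm (Fin m)} (h : Cyc r y) : y ^ r = 1 := by
  rw [← h.order]; exact pow_orderOf_eq_one y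

theorem Cyc.conj {y : Perm (Fin m)} (h : Cyc r y) (g : Perm (Fin m)) : Cyc r (g * y * g⁻¹) :=
  ⟨h.1.conj, by rw [Equiv.Perm.card_support_conj, h.2]⟩

theorem Cyc.mem_alt {y : Perm (Fin m)} (h : Cyc r y) (hr : Odd r) : y ∈ alternatingGroup (Fin m) := by
  rw [mem_alternatingGroup, h.1.sign, h.2, hr.neg_one_pow, neg_neg]

/-- conjugation by a permutation supported in the support of `y` -/
theorem Cyc.exists_norm {y : Perm (Fin m)} (h : Cyc r y) {j : ℕ} (hj : Nat.Coprime j r) :
    ∃ τ : Perm (Fin m), τ.support ⊆ y.support ∧ τ * y * τ⁻¹ = y ^ j := by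
  have hc : j.Coprime (orderOf y) := by rw [h.order]; exact hj
  have hs : (y ^ j).support = y.support := support_pow_coprime hc
  have h1 : (y ^ j).IsCycle := h.1.pow_iff.2 hc
  obtain ⟨τ₀, hτ₀⟩ := isConj_iff.1 (h.1.isConj h1 (by rw [hs]))
  have hmap : ∀ x, τ₀ x ∈ y.support ↔ x ∈ y.support := by
    intro x
    have h2 : (y ^ j).support = y.support.map τ₀.toEmbedding := by rw [← hτ₀, support_conj]
    rw [hs] at h2
    constructor
    · intro hx
      rw [h2, Finset.mem_map] at hx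
      obtain ⟨z, hz, hz2⟩ := hx
      have : z = x := τ₀.injective hz2
      rwa [← this]
    · intro hx
      rw [h2, Finset.mem_map]
      exact ⟨x, hx, rfl⟩
  let τ : Perm (Fin m) := ofSubtype (τ₀.subtypePerm (p := fun x => x ∈ y.support) hmap)
  have hin : ∀ x ∈ y.support, τ x = τ₀ x := by
    intro x hx
    exact ofSubtype_apply_of_mem _ hx
  have hout : ∀ x, x ∉ y.support → τ x = x := by
    intro x hx
    exact ofSubtype_apply_of_not_mem _ hx
  refine ⟨τ, ?_, ?_⟩
  · intro x hx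
    by_contra hcon
    exact mem_support.1 hx (hout x hcon)
  · rw [mul_inv_eq_iff_eq_mul]
    ext x
    congr 1
    rw [Perm.mul_apply, Perm.mul_apply]
    by_cases hx : x ∈ y.support
    · have hyx : y x ∈ y.support := apply_mem_support.2 hx
      rw [hin _ hyx, hin _ hx]
      have := congrArg (fun f : Perm (Fin m) => f (τ₀ x)) hτ₀
      simpa using this
    · rw [hout x hx]
      have h2 : y x = x := notMem_support.1 hx
      have h3 : (y ^ j) x = x := by
        rw [← notMem_support, hs]; exact hx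
      rw [h2, h3, hout x hx]

theorem conj_pow_pow {G : Type*} [Group G] {τ y : G} {j : ℕ} (h : τ * y * τ⁻¹ = y ^ j) (i : ℕ) :
    τ ^ i * y * (τ ^ i)⁻¹ = y ^ (j ^ i) := by
  induction i with
  | zero => simp
  | succ i ih =>
    rw [pow_succ' τ, mul_inv_rev]
    have : τ * τ ^ i * y * ((τ ^ i)⁻¹ * τ⁻¹) = τ * (τ ^ i * y * (τ ^ i)⁻¹) * τ⁻¹ := by group
    rw [this, ih, ← conj_pow, h, ← pow_mul, pow_succ, mul_comm]

/-- two points outside -/
theorem exists_two {s : Finset (Fin m)} (h : s.card + 2 ≤ m) : ∃ a b, a ∉ s ∧ b ∉ s ∧ a ≠ b := by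
  have h1 : 1 < sᶜ.card := by
    rw [Finset.card_compl, Fintype.card_fin]; omega
  obtain ⟨a, ha, b, hb, hab⟩ := Finset.one_lt_card.1 h1
  exact ⟨a, b, Finset.mem_compl.1 ha, Finset.mem_compl.1 hb, hab⟩

theorem disj_conj {σ y : Perm (Fin m)} (h : Disjoint σ y) : σ * y * σ⁻¹ = y := by
  rw [h.commute.eq, mul_inv_cancel_right]

theorem disjoint_of_support {σ y : Perm (Fin m)} (h : _root_.Disjoint σ.support y.support) : Disjoint σ y :=
  disjoint_iff_disjoint_support.2 h

/-- **Even permutations normalising two disjoint `r`-cycles.** -/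
theorem exists_even {y y' : Perm (Fin m)} (h : Cyc r y) (h' : Cyc r y') (hd : Disjoint y y') {c : ℕ}
    (hc : Nat.Coprime c r) (i j : ℕ) (hij : Even (i + j) ∨ 2 * r + 2 ≤ m) :
    ∃ σ : Perm (Fin m), σ ∈ alternatingGroup (Fin m) ∧ σ * y * σ⁻¹ = y ^ (c ^ i) ∧ σ * y' * σ⁻¹ = y' ^ (c ^ j) := by
  obtain ⟨τ, hτs, hτ⟩ := h.exists_norm hc
  obtain ⟨g, hg⟩ := isConj_iff.1 (h.1.isConj h'.1 (h.2.trans h'.2.symm))
  have hd' : _root_.Disjoint y.support y'.support := disjoint_iff_disjoint_support.1 hd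
  set τ' := g * τ * g⁻¹ with hτ'
  have hτ's : τ'.support ⊆ y'.support := by
    rw [hτ', support_conj, ← hg, support_conj]
    exact Finset.map_subset_map.2 hτs
  have hτ'c : τ' * y' * τ'⁻¹ = y' ^ c := by
    rw [hτ', ← hg]
    have : g * τ * g⁻¹ * (g * y * g⁻¹) * (g * τ * g⁻¹)⁻¹ = g * (τ * y * τ⁻¹) * g⁻¹ := by group
    rw [this, hτ, conj_pow]
  have hsign : sign τ' = sign τ := by
    rw [hτ', Perm.sign_mul, Perm.sign_mul, sign_inv, mul_comm (sign g), mul_assoc, Int.units_mul_self, mul_one]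
  have hpow : ∀ (ρ : Perm (Fin m)) (k : ℕ), (ρ ^ k).support ⊆ ρ.support := fun ρ k => support_pow_le ρ k
  have d1 : Disjoint (τ ^ i) y' :=
    disjoint_of_support (Finset.disjoint_of_subset_left ((hpow τ i).trans hτs) hd')
  have d2 : Disjoint (τ' ^ j) y :=
    disjoint_of_support (Finset.disjoint_of_subset_left ((hpow τ' j).trans hτ's) hd'.symm)
  have e1 : τ ^ i * τ' ^ j * y * (τ ^ i * τ' ^ j)⁻¹ = y ^ (c ^ i) := by
    have : τ ^ i * τ' ^ j * y * (τ ^ i * τ' ^ j)⁻¹ = τ ^ i * (τ' ^ j * y * (τ' ^ j)⁻¹) * (τ ^ i)⁻¹ := by group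
    rw [this, disj_conj d2, conj_pow_pow hτ]
  have e2 : τ ^ i * τ' ^ j * y' * (τ ^ i * τ' ^ j)⁻¹ = y' ^ (c ^ j) := by
    have : τ ^ i * τ' ^ j * y' * (τ ^ i * τ' ^ j)⁻¹ = τ ^ i * (τ' ^ j * y' * (τ' ^ j)⁻¹) * (τ ^ i)⁻¹ := by group
    rw [this, conj_pow_pow hτ'c, ← conj_pow, disj_conj d1]
  have hs : sign (τ ^ i * τ' ^ j) = sign τ ^ (i + j) := by
    rw [Perm.sign_mul, map_pow, map_pow, hsign, pow_add]
  by_cases hev : sign (τ ^ i * τ' ^ j) = 1
  · exact ⟨_, mem_alternatingGroup.2 hev, e1, e2⟩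
  · rcases hij with hij | hij
    · exfalso
      apply hev
      rw [hs]
      obtain ⟨k, hk⟩ := hij
      rw [hk, pow_add, Int.units_mul_self]
    · obtain ⟨a, b, ha, hb, hab⟩ := exists_two (s := y.support ∪ y'.support) (by
        have := Finset.card_union_le y.support y'.support
        rw [h.2, h'.2] at this
        omega)
      have hsw : ∀ z : Perm (Fin m), a ∉ z.support → b ∉ z.support → Disjoint (swap a b) z := by
        intro z h1 h2
        apply disjoint_of_support
        rw [support_swap hab, Finset.disjoint_left]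
        intro x hx
        rw [Finset.mem_insert, Finset.mem_singleton] at hx
        rcases hx with rfl | rfl
        · exact h1
        · exact h2
      rw [Finset.mem_union, not_or] at ha hb
      refine ⟨τ ^ i * τ' ^ j * swap a b, ?_, ?_, ?_⟩
      · rw [mem_alternatingGroup, Perm.sign_mul, sign_swap hab]
        rcases Int.units_eq_one_or (sign (τ ^ i * τ' ^ j)) with h1 | h1
        · exact absurd h1 hev
        · rw [h1]; simp
      · have : τ ^ i * τ' ^ j * swap a b * y * (τ ^ i * τ' ^ j * swap a b)⁻¹ =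
            τ ^ i * τ' ^ j * (swap a b * y * (swap a b)⁻¹) * (τ ^ i * τ' ^ j)⁻¹ := by group
        rw [this, disj_conj (hsw y ha.1 hb.1), e1]
      · have : τ ^ i * τ' ^ j * swap a b * y' * (τ ^ i * τ' ^ j * swap a b)⁻¹ =
            τ ^ i * τ' ^ j * (swap a b * y' * (swap a b)⁻¹) * (τ ^ i * τ' ^ j)⁻¹ := by group
        rw [this, disj_conj (hsw y' ha.2 hb.2), e2]

/-- an even permutation raising an `r`-cycle to the `c`-th power -/
theorem exists_even_one {y : Perm (Fin m)} (h : Cyc r y) {c : ℕ} (hc : Nat.Coprime c r) (hm : r + 2 ≤ m) :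
    ∃ σ : Perm (Fin m), σ ∈ alternatingGroup (Fin m) ∧ σ * y * σ⁻¹ = y ^ c := by
  obtain ⟨τ, hτs, hτ⟩ := h.exists_norm hc
  by_cases hev : sign τ = 1
  · exact ⟨τ, mem_alternatingGroup.2 hev, hτ⟩
  · obtain ⟨a, b, ha, hb, hab⟩ := exists_two (s := y.support) (by rw [h.2]; omega)
    have hsw : Disjoint (swap a b) y := by
      apply disjoint_of_support
      rw [support_swap hab, Finset.disjoint_left]
      intro x hx
      rw [Finset.mem_insert, Finset.mem_singleton] at hx
      rcases hx with rfl | rfl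
      · exact ha
      · exact hb
    refine ⟨τ * swap a b, ?_, ?_⟩
    · rw [mem_alternatingGroup, Perm.sign_mul, sign_swap hab]
      rcases Int.units_eq_one_or (sign τ) with h1 | h1
      · exact absurd h1 hev
      · rw [h1]; simp
    · have : τ * swap a b * y * (τ * swap a b)⁻¹ = τ * (swap a b * y * (swap a b)⁻¹) * τ⁻¹ := by group
      rw [this, disj_conj hsw, hτ]

/-- even permutations are transitive on subsets of a given size `≥ 2` -/
theorem exists_even_map {s t : Finset (Fin m)} (h : s.card = t.card) (h2 : 2 ≤ s.card) :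
    ∃ σ : Perm (Fin m), σ ∈ alternatingGroup (Fin m) ∧ ∀ x, σ x ∈ t ↔ x ∈ s := by
  classical
  have e1 : Nonempty ({x // x ∈ s} ≃ {x // x ∈ t}) := by
    apply Fintype.card_eq.1
    rw [Fintype.card_coe, Fintype.card_coe, h]
  obtain ⟨e1⟩ := e1
  have e2 : Nonempty ({x // ¬ x ∈ s} ≃ {x // ¬ x ∈ t}) := by
    apply Fintype.card_eq.1
    rw [Fintype.card_subtype_compl, Fintype.card_subtype_compl, Fintype.card_coe, Fintype.card_coe, h]
  obtain ⟨e2⟩ := e2
  let σ : Perm (Fin m) := Equiv.subtypeCongr e1 e2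
  have hσ : ∀ x, σ x ∈ t ↔ x ∈ s := by
    intro x
    by_cases hx : x ∈ s
    · have : σ x = e1 ⟨x, hx⟩ := by simp [σ, Equiv.subtypeCongr, Equiv.sumCompl, hx]
      rw [this]
      exact ⟨fun _ => hx, fun _ => (e1 ⟨x, hx⟩).2⟩
    · have : σ x = e2 ⟨x, hx⟩ := by simp [σ, Equiv.subtypeCongr, Equiv.sumCompl, hx]
      rw [this]
      exact ⟨fun h => absurd h (e2 ⟨x, hx⟩).2, fun h => absurd h hx⟩
  by_cases hev : sign σ = 1
  · exact ⟨σ, mem_alternatingGroup.2 hev, hσ⟩
  · obtain ⟨a, ha, b, hb, hab⟩ := Finset.one_lt_card.1 (show 1 < s.card by omega)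
    refine ⟨σ * swap a b, ?_, ?_⟩
    · rw [mem_alternatingGroup, Perm.sign_mul, sign_swap hab]
      rcases Int.units_eq_one_or (sign σ) with h1 | h1
      · exact absurd h1 hev
      · rw [h1]; simp
    · intro x
      rw [Perm.mul_apply, hσ]
      by_cases h1 : x = a
      · rw [h1, swap_apply_left]; exact ⟨fun _ => ha, fun _ => hb⟩
      · by_cases h2 : x = b
        · rw [h2, swap_apply_right]; exact ⟨fun _ => hb, fun _ => ha⟩
        · rw [swap_apply_of_ne_of_ne h1 h2]

/-- a cycle with prescribed support -/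
theorem exists_cyc {s : Finset (Fin m)} (h : s.card = r) (h2 : 2 ≤ r) :
    ∃ y : Perm (Fin m), Cyc r y ∧ y.support ⊆ s := by
  obtain ⟨y, hy, hys⟩ := Finset.exists_cycleOn s
  refine ⟨y, ⟨?_, ?_⟩, hys⟩
  · rw [isCycle_iff_exists_isCycleOn]
    refine ⟨s, Finset.one_lt_card_iff_nontrivial.1 (by omega), by exact_mod_cast hy, fun x hx => hys (mem_support.2 hx)⟩
  · have h1 : y.support = s := by
      apply Finset.Subset.antisymm hys
      intro x hx
      rw [mem_support]
      have := hy.apply_ne (Finset.one_lt_card_iff_nontrivial.1 (show 1 < s.card by omega)) (a := x) (by exact_mod_cast hx)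
      exact this
    rw [h1, h]

end Cfsg.Agent.H936.AltBig
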