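import Mathlib
import Cfsg.Agent.H936.PSCompound
import Cfsg.Agent.H936.PSGL
import Cfsg.Agent.S0721
import Cfsg.Agent.S0723

/-!
# The primitive case, and the main theorem modulo `DS 3`
-/

set_option autoImplicit false

open Equiv

namespace Cfsg.Agent.H936

variable {Ω : Type*} [Fintype Ω] [DecidableEq Ω]

omit [Fintype Ω] [DecidableEq Ω] in
theorem isPreprimitive_of_le {V W : Subgroup (Perm Ω)} (h : V ≤ W) (hV : MulAction.IsPreprimitive V Ω) :
    MulAction.IsPreprimitive W Ω := by
  have htr : MulAction.IsPretransitive W Ω := by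
    refine ⟨fun x y => ?_⟩
    obtain ⟨g, hg⟩ := MulAction.exists_smul_eq V x y
    exact ⟨⟨g, h g.2⟩, hg⟩
  refine { toIsPretransitive := htr, isTrivialBlock_of_isBlock := ?_ }
  intro B hB
  refine hV.isTrivialBlock_of_isBlock ?_
  intro g₁ g₂ hg
  exact hB (g₁ := ⟨g₁, h g₁.2⟩) (g₂ := ⟨g₂, h g₂.2⟩) hg

/-- **Primitive groups.** -/
theorem good_of_prim (h5 : 5 ≤ Nat.card Ω) {V : Subgroup (Perm Ω)} (hp : MulAction.IsPreprimitive V Ω)
    (hV : ¬ alternatingGroup Ω ≤ V)
    (hDS : ∀ (T : Type) [Group T] [Finite T] [IsSimpleGroup T], ¬ IsMulCommutative T → DS 3 T) : Good V := by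
  classical
  have hne : Nonempty Ω := by
    rw [← Finite.card_pos_iff]
    omega
  obtain ⟨a⟩ := hne
  have hnt : Nontrivial Ω := by
    rw [← Finite.one_lt_card_iff_nontrivial]
    omega
  have hVne : V ≠ ⊥ := by
    rintro rfl
    obtain ⟨x, y, hxy⟩ := exists_pair_ne Ω
    obtain ⟨g, hg⟩ := MulAction.exists_smul_eq (⊥ : Subgroup (Perm Ω)) x y
    have h1 : g = 1 := Subsingleton.elim _ _
    rw [h1, one_smul] at hg
    exact hxy hg
  obtain ⟨N, hNV, hN0, hVN, hmin⟩ := Cfsg.Agent.Lib.MinNormal.exists_minimal_normal_le V hVne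
  have hNalt : ¬ alternatingGroup Ω ≤ N := fun h => hV (h.trans hNV)
  have hNn : (N.subgroupOf V).Normal := (Subgroup.normal_subgroupOf_iff_le_normalizer hNV).2 hVN
  let eN : N.subgroupOf V ≃* N := Subgroup.subgroupOfEquivOfLe hNV
  have hN0' : N.subgroupOf V ≠ ⊥ := by
    intro h
    rw [Subgroup.subgroupOf_eq_bot, disjoint_iff, inf_eq_left.2 hNV] at h
    exact hN0 h
  have hfix : MulAction.fixedPoints (N.subgroupOf V) Ω ≠ Set.univ := by
    intro h
    apply hN0'
    rw [eq_bot_iff]
    intro x hx
    rw [Subgroup.mem_bot]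
    apply Subtype.ext
    apply Equiv.ext
    intro y
    have hy : y ∈ MulAction.fixedPoints (N.subgroupOf V) Ω := by rw [h]; exact Set.mem_univ y
    exact hy ⟨x, hx⟩
  have htr' : MulAction.IsPretransitive (N.subgroupOf V) Ω :=
    MulAction.IsQuasiPreprimitive.isPretransitive_of_normal hfix
  have htr : MulAction.IsPretransitive N Ω := by
    refine ⟨fun x y => ?_⟩
    obtain ⟨g, hg⟩ := MulAction.exists_smul_eq (N.subgroupOf V) x y
    exact ⟨⟨g, g.2⟩, hg⟩
  have hminV : ∀ M : Subgroup V, M.Normal → M ≤ N.subgroupOf V → M = ⊥ ∨ M = N.subgroupOf V := by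
    intro M hM hMN
    have h1 : M.map V.subtype ≤ N := by
      rintro _ ⟨x, hx, rfl⟩
      exact hMN hx
    have h2 : V ≤ Subgroup.normalizer (M.map V.subtype : Set (Perm Ω)) := by
      have key : ∀ v : V, ∀ n ∈ M.map V.subtype, (v : Perm Ω) * n * (v : Perm Ω)⁻¹ ∈ M.map V.subtype := by
        rintro v _ ⟨x, hx, rfl⟩
        exact ⟨_, hM.conj_mem x hx v, rfl⟩
      intro v hv
      rw [Subgroup.mem_normalizer_iff]
      intro n
      refine ⟨key ⟨v, hv⟩ n, fun h => ?_⟩
      have h2 := key ⟨v, hv⟩⁻¹ _ h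
      have h3 : v⁻¹ * (v * n * v⁻¹) * v⁻¹⁻¹ = n := by group
      change v⁻¹ * (v * n * v⁻¹) * v⁻¹⁻¹ ∈ _ at h2
      rwa [h3] at h2
    rcases hmin _ h1 h2 with h | h
    · left
      rwa [Subgroup.map_eq_bot_iff_of_injective _ V.subtype_injective] at h
    · right
      apply Subgroup.map_injective V.subtype_injective
      rw [h, Subgroup.map_subgroupOf_eq_of_le hNV]
  by_cases hC : Subgroup.centralizer (N : Set (Perm Ω)) = ⊥
  · -- non-regular
    have hnab : ¬ IsMulCommutative (N.subgroupOf V) := by
      intro h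
      apply hN0
      rw [eq_bot_iff, ← hC]
      intro x hx
      rw [Subgroup.mem_centralizer_iff]
      intro y hy
      have h1 := h.is_comm.comm (⟨⟨y, hNV hy⟩, hy⟩ : N.subgroupOf V) ⟨⟨x, hNV hx⟩, hx⟩
      exact congrArg (fun z => ((z : V) : Perm Ω)) (congrArg Subtype.val h1)
    have huniq : ∀ L : Subgroup V, L.Normal → L ≠ ⊥ →
        (∀ M : Subgroup V, M.Normal → M ≤ L → M = ⊥ ∨ M = L) → L = N.subgroupOf V := by
      intro L hL hL0 hLmin
      have hLN : (L ⊓ N.subgroupOf V).Normal := inferInstance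
      rcases hminV _ hLN inf_le_right with h | h
      · exfalso
        apply hL0
        rw [eq_bot_iff]
        intro x hx
        have h1 : (x : Perm Ω) ∈ Subgroup.centralizer (N : Set (Perm Ω)) := by
          rw [Subgroup.mem_centralizer_iff]
          intro y hy
          have h2 : Commute x (⟨y, hNV hy⟩ : V) :=
            Subgroup.commute_of_normal_of_disjoint L (N.subgroupOf V) hL hNn (disjoint_iff.2 h) x _ hx hy
          exact congrArg Subtype.val h2.symm.eq
        rw [hC, Subgroup.mem_bot] at h1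
        rw [Subgroup.mem_bot]
        exact Subtype.ext h1
      · rcases hLmin _ hLN inf_le_left with h' | h'
        · exact absurd (h.symm.trans h') hN0'
        · exact h'.symm.trans h
    obtain ⟨T, instT, m, e, hTs, hTna, hm, hst⟩ :=
      Cfsg.Agent.S0723.result V (N.subgroupOf V) hN0' hminV huniq hnab a
    have hfinT : Finite T := by
      have : Finite (Fin m → T) := Finite.of_equiv _ e.toEquiv
      exact Finite.of_injective (fun (t : T) (_ : Fin m) => t) fun s t h => congrFun h ⟨0, hm⟩
    have hd := hDS T hTna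
    have hst0 : ∀ n : N, (((eN.symm n : N.subgroupOf V) : V) ∈ MulAction.stabilizer V a) ↔ (n : Perm Ω) a = a :=
      fun n => Iff.rfl
    rcases hst with ⟨K, -, hK⟩ | ⟨k, c, hk, hc, hK⟩
    · refine good_of_product h5 htr hNalt a hC hNV hVN hmin ⟨0, hm⟩ hTna hd (eN.symm.trans e) K ?_
      intro n
      rw [← hst0, hK]
      rfl
    · have hK' : ∀ n : N, (n : Perm Ω) a = a ↔ ∀ i j, c i = c j → (eN.symm.trans e) n i = (eN.symm.trans e) n j := by
        intro n
        rw [← hst0, hK]
        rfl
      by_cases hcc : ∀ i j, c i = c j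
      · refine good_of_diag h5 htr hNalt a hC hVN hTna hd (eN.symm.trans e) ?_
        intro n
        rw [hK']
        exact ⟨fun h i j => h i j (hcc i j), fun h i j _ => h i j⟩
      · push Not at hcc
        obtain ⟨i₁, i₂, hne⟩ := hcc
        exact good_of_compound (by omega) htr a hVN hTna (eN.symm.trans e) hK' hk hc hne
  · -- regular
    have hW := isPreprimitive_of_le hVN hp
    set W := Subgroup.normalizer (N : Set (Perm Ω)) with hWdef
    have hCW : Subgroup.centralizer (N : Set (Perm Ω)) ≤ W := Subgroup.centralizer_le_normalizer _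
    have hCn : ((Subgroup.centralizer (N : Set (Perm Ω))).subgroupOf W).Normal := by
      rw [← Subgroup.normalizerMonoidHom_ker]
      infer_instance
    have hfixC : MulAction.fixedPoints ((Subgroup.centralizer (N : Set (Perm Ω))).subgroupOf W) Ω ≠ Set.univ := by
      intro h
      apply hC
      rw [eq_bot_iff]
      intro x hx
      rw [Subgroup.mem_bot]
      apply Equiv.ext
      intro y
      have hy : y ∈ MulAction.fixedPoints ((Subgroup.centralizer (N : Set (Perm Ω))).subgroupOf W) Ω := by
        rw [h]; exact Set.mem_univ y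
      exact hy ⟨⟨x, hCW hx⟩, hx⟩
    have htrC : MulAction.IsPretransitive ((Subgroup.centralizer (N : Set (Perm Ω))).subgroupOf W) Ω :=
      MulAction.IsQuasiPreprimitive.isPretransitive_of_normal hfixC
    have hreg : ∀ n ∈ N, n a = a → n = 1 := by
      intro n hn hna
      apply Equiv.ext
      intro b
      obtain ⟨z, hz⟩ := MulAction.exists_smul_eq ((Subgroup.centralizer (N : Set (Perm Ω))).subgroupOf W) a b
      have hz' : ((z : W) : Perm Ω) a = b := hz
      have hzc : ((z : W) : Perm Ω) ∈ Subgroup.centralizer (N : Set (Perm Ω)) := z.2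
      rw [Subgroup.mem_centralizer_iff] at hzc
      have h1 := congrArg (fun g : Perm Ω => g a) (hzc n hn)
      simp only [Perm.mul_apply] at h1
      rw [hna, hz'] at h1
      exact h1
    obtain ⟨T, instT, m, hTs, hm, ⟨e⟩⟩ := Cfsg.Agent.S0721.result (N.subgroupOf V) hN0' hminV
    have hfinT : Finite T := by
      have : Finite (Fin m → T) := Finite.of_equiv _ e.toEquiv
      exact Finite.of_injective (fun (t : T) (_ : Fin m) => t) fun s t h => congrFun h ⟨0, hm⟩
    by_cases hTc : IsMulCommutative T
    · refine good_of_regular (i := 1) (j := 5) h5 htr hNalt a hreg hVN ?_ (ps_mulAut_pow hTc (eN.symm.trans e)) le_rfl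
      refine PS.of_bot ?_
      rw [derivedSeries_one, eq_bot_iff, commutator_def, Subgroup.commutator_le]
      intro x _ y _
      rw [Subgroup.mem_bot, commutatorElement_eq_one_iff_mul_comm]
      apply (eN.symm.trans e).injective
      rw [map_mul, map_mul]
      funext i
      exact hTc.is_comm.comm _ _
    · have hd := hDS T hTc
      have h6 : PS 6 (MulAut (Fin m → T)) := by
        refine PS.of_ker (a := 3) (b := 3) (f := AutPow.perm hTc) ?_ (AutPow.ps_ker hTc hd) (ps_perm (Fin m))
        intro σ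
        exact ⟨_, AutPow.perm_permAut hTc σ⟩
      refine good_of_regular (i := 0) (j := 6) h5 htr hNalt a hreg hVN ?_ ?_ le_rfl
      · exact PS.of_equiv (eN.symm.trans e).symm (PS.pi fun _ => ps_zero_simple hTc)
      · exact PS.of_equiv (MulAut.congr (eN.symm.trans e)).symm h6

theorem good_all (h5 : 5 ≤ Nat.card Ω) {V : Subgroup (Perm Ω)} (hV : ¬ alternatingGroup Ω ≤ V)
    (hDS : ∀ (T : Type) [Group T] [Finite T] [IsSimpleGroup T], ¬ IsMulCommutative T → DS 3 T) : Good V := by
  by_cases hp : MulAction.IsPreprimitive V Ω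
  · exact good_of_prim h5 hp hV hDS
  · exact good_of_not_prim (by omega) hp

/-- **The main theorem**, modulo the bound `3` for the derived length of the outer automorphism groups of the finite
simple groups. -/
theorem ps_maximal (hDS : ∀ (T : Type) [Group T] [Finite T] [IsSimpleGroup T], ¬ IsMulCommutative T → DS 3 T) :
    (∀ H : Subgroup (Perm Ω), IsCoatom H → PS 6 H) ∧
      ∀ H : Subgroup (alternatingGroup Ω), IsCoatom H → PS 6 H := by
  by_cases h5 : 5 ≤ Nat.card Ω
  · refine reduction (by norm_num) h5 ?_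
    intro V hV hmax
    obtain ⟨W, h1, h2, h3⟩ := good_all h5 hV hDS
    rw [hmax W h1 h2] at h3
    exact h3
  · have h4 : Nat.card Ω ≤ 4 := by omega
    refine ⟨fun H _ => small_case (by norm_num) h4 H.subtype H.subtype_injective, fun H _ => ?_⟩
    exact small_case (by norm_num) h4 ((alternatingGroup Ω).subtype.comp H.subtype)
      ((alternatingGroup Ω).subtype_injective.comp H.subtype_injective)

end Cfsg.Agent.H936
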