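import Cfsg.Agent.H936.TwoFix

/-!
# Six vectors

`exists_six`: a group generated by `a`, `c` with `c ^ 3 = 1`, `(c a) ^ 8 = 1`, `(a⁻¹ c a c) ^ 4 = 1`, `(c a) ^ 2` and
`a⁻¹ c a c` commuting, `V` an irreducible representation in characteristic two on which `a ^ 2 + a + 1 = 0`: then `V` is
spanned by six vectors on which `a` and `c` act by the matrices `mA`, `mC` over the prime field.
-/

set_option autoImplicit false

namespace Cfsg.Agent.H936.SixVec

open Cfsg.Agent.H936.TwoFix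

variable {G : Type*} [Group G] {A : Type*} [Field A] {V : Type*} [AddCommGroup V] [Module A V]

/-- the six vectors -/
structure Six (ρ : G →* Module.End A V) (a c : G) (b : Fin 6 → V) : Prop where
  a0 : ρ a (b 0) = b 1
  a1 : ρ a (b 1) = b 0 + b 1
  a2 : ρ a (b 2) = b 5
  a3 : ρ a (b 3) = b 4
  a4 : ρ a (b 4) = b 3 + b 4
  a5 : ρ a (b 5) = b 2 + b 5
  c0 : ρ c (b 0) = b 2
  c1 : ρ c (b 1) = b 3
  c2 : ρ c (b 2) = b 4
  c3 : ρ c (b 3) = b 5
  c4 : ρ c (b 4) = b 0
  c5 : ρ c (b 5) = b 1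

/-- a subspace invariant under generators is invariant -/
theorem inv_of_gen [Finite G] (ρ : G →* Module.End A V) {a c : G} (hgen : Subgroup.closure {a, c} = ⊤)
    {W : Submodule A V} (ha : ∀ v ∈ W, ρ a v ∈ W) (hc : ∀ v ∈ W, ρ c v ∈ W) (g : G) : ∀ v ∈ W, ρ g v ∈ W := by
  have hg : g ∈ Submonoid.closure ({a, c} : Set G) := by
    rw [← Subgroup.closure_toSubmonoid_of_finite, hgen]
    trivial
  induction hg using Submonoid.closure_induction with
  | mem x hx =>
    rcases hx with rfl | hx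
    · exact ha
    · rw [Set.mem_singleton_iff.1 hx]; exact hc
  | one => intro v hv; rwa [map_one, Module.End.one_apply]
  | mul x y _ _ hx hy => intro v hv; rw [map_mul, Module.End.mul_apply]; exact hx _ (hy v hv)

theorem exists_six [Finite G] [Nontrivial V] (h2 : (2 : A) = 0) (ρ : G →* Module.End A V)
    (hirr : ∀ W : Submodule A V, (∀ g, ∀ v ∈ W, ρ g v ∈ W) → W = ⊥ ∨ W = ⊤) {a c : G}
    (hgen : Subgroup.closure {a, c} = ⊤) (ha : ∀ w, ρ a (ρ a w) = ρ a w + w) (hc : c ^ 3 = 1)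
    (h8 : (c * a) ^ 8 = 1) (h4 : (a⁻¹ * c * a * c) ^ 4 = 1)
    (hcomm : (c * a) ^ 2 * (a⁻¹ * c * a * c) = (a⁻¹ * c * a * c) * (c * a) ^ 2) :
    ∃ b : Fin 6 → V, Six ρ a c b ∧ Submodule.span A (Set.range b) = ⊤ := by
  have happ : ∀ (g g' : G) (w : V), ρ (g * g') w = ρ g (ρ g' w) := fun g g' w => by
    rw [map_mul, Module.End.mul_apply]
  -- the common fixed vector
  obtain ⟨v, hv0, hv1, hv2⟩ : ∃ v : V, v ≠ 0 ∧ ρ ((c * a) ^ 2) v = v ∧ ρ (a⁻¹ * c * a * c) v = v := by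
    let W : Submodule A V := LinearMap.eqLocus (ρ ((c * a) ^ 2)) LinearMap.id
    have hW : ∀ w, w ∈ W ↔ ρ ((c * a) ^ 2) w = w := fun w => Iff.rfl
    have hWi : ∀ w ∈ W, ρ (a⁻¹ * c * a * c) w ∈ W := by
      intro w hw
      rw [hW] at hw ⊢
      rw [← happ, hcomm, happ, hw]
    obtain ⟨w, hw0, hw⟩ := exists_fixed_of_pow (k := 2) h2 (T := ρ ((c * a) ^ 2)) (by
      rw [← map_pow, ← pow_mul, show 2 * 2 ^ 2 = 8 by norm_num, h8, map_one])
    have : Nontrivial W := ⟨⟨⟨w, hw⟩, 0, fun h => hw0 (congrArg Subtype.val h)⟩⟩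
    have hpow : ∀ m : ℕ, ∀ u : W, ((((ρ (a⁻¹ * c * a * c)).restrict hWi) ^ m : Module.End A W) u : V) =
        ρ ((a⁻¹ * c * a * c) ^ m) u := by
      intro m
      induction m with
      | zero => intro u; simp
      | succ m ih =>
        intro u
        rw [pow_succ, Module.End.mul_apply, ih, pow_succ, happ]
        rfl
    obtain ⟨u, hu0, hu⟩ := exists_fixed_of_pow (k := 2) h2 (T := (ρ (a⁻¹ * c * a * c)).restrict hWi) (by
      ext u
      rw [hpow, show 2 ^ 2 = 4 by norm_num, h4, map_one]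
      rfl)
    exact ⟨u, fun h => hu0 (Subtype.ext h), u.2, congrArg Subtype.val hu⟩
  have e1 : ρ a (ρ c v) = ρ c (ρ c (ρ a v)) := by
    have h1 : a * c = c * c * a * (a⁻¹ * c * a * c) := by
      have : c * c * a * (a⁻¹ * c * a * c) = c ^ 3 * (a * c) := by rw [pow_succ, pow_two]; group
      rw [this, hc, one_mul]
    rw [← happ, h1, happ, hv2, happ, happ]
  have e2 : ρ a (ρ c (ρ a v)) = ρ c (ρ c v) := by
    have h1 : a * c * a = c * c * (c * a) ^ 2 := by
      have : c * c * (c * a) ^ 2 = c ^ 3 * (a * c * a) := by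
        rw [pow_two, pow_succ, pow_two]; group
      rw [this, hc, one_mul]
    rw [← happ, ← happ, h1, happ, hv1, happ]
  have e3 : ∀ w, ρ c (ρ c (ρ c w)) = w := by
    intro w
    rw [← happ, ← happ, ← pow_two, ← pow_succ, hc, map_one, Module.End.one_apply]
  let b : Fin 6 → V := ![v, ρ a v, ρ c v, ρ c (ρ a v), ρ c (ρ c v), ρ c (ρ c (ρ a v))]
  have hS : Six ρ a c b :=
    { a0 := rfl
      a1 := by change ρ a (ρ a v) = v + ρ a v; rw [ha, add_comm]
      a2 := e1
      a3 := e2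
      a4 := by
        change ρ a (ρ c (ρ c v)) = ρ c (ρ a v) + ρ c (ρ c v)
        rw [← e2, ha, add_comm]
      a5 := by
        change ρ a (ρ c (ρ c (ρ a v))) = ρ c v + ρ c (ρ c (ρ a v))
        rw [← e1, ha, add_comm]
      c0 := rfl
      c1 := rfl
      c2 := rfl
      c3 := rfl
      c4 := e3 v
      c5 := e3 _ }
  refine ⟨b, hS, ?_⟩
  set W := Submodule.span A (Set.range b) with hWdef
  have hb : ∀ i, b i ∈ W := fun i => Submodule.subset_span ⟨i, rfl⟩
  have hga : ∀ w ∈ W, ρ a w ∈ W := by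
    intro w hw
    induction hw using Submodule.span_induction with
    | mem x hx =>
      obtain ⟨i, rfl⟩ := hx
      fin_cases i
      · exact hS.a0 ▸ hb 1
      · exact hS.a1 ▸ W.add_mem (hb 0) (hb 1)
      · exact hS.a2 ▸ hb 5
      · exact hS.a3 ▸ hb 4
      · exact hS.a4 ▸ W.add_mem (hb 3) (hb 4)
      · exact hS.a5 ▸ W.add_mem (hb 2) (hb 5)
    | zero => rw [map_zero]; exact W.zero_mem
    | add x y _ _ hx hy => rw [map_add]; exact W.add_mem hx hy
    | smul r x _ hx => rw [map_smul]; exact W.smul_mem r hx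
  have hgc : ∀ w ∈ W, ρ c w ∈ W := by
    intro w hw
    induction hw using Submodule.span_induction with
    | mem x hx =>
      obtain ⟨i, rfl⟩ := hx
      fin_cases i
      · exact hS.c0 ▸ hb 2
      · exact hS.c1 ▸ hb 3
      · exact hS.c2 ▸ hb 4
      · exact hS.c3 ▸ hb 5
      · exact hS.c4 ▸ hb 0
      · exact hS.c5 ▸ hb 1
    | zero => rw [map_zero]; exact W.zero_mem
    | add x y _ _ hx hy => rw [map_add]; exact W.add_mem hx hy
    | smul r x _ hx => rw [map_smul]; exact W.smul_mem r hx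
  rcases hirr W (fun g => inv_of_gen ρ hgen hga hgc g) with h | h
  · exfalso
    have h1 := hb 0
    rw [h, Submodule.mem_bot] at h1
    exact hv0 h1
  · exact h

/-- the matrix of `a` (columns: images of the basis vectors) -/
def mA : Matrix (Fin 6) (Fin 6) ℤ :=
  !![0, 1, 0, 0, 0, 0;
     1, 1, 0, 0, 0, 0;
     0, 0, 0, 0, 0, 1;
     0, 0, 0, 0, 1, 0;
     0, 0, 0, 1, 1, 0;
     0, 0, 1, 0, 0, 1]

/-- the matrix of `c` -/
def mC : Matrix (Fin 6) (Fin 6) ℤ :=
  !![0, 0, 0, 0, 1, 0;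
     0, 0, 0, 0, 0, 1;
     1, 0, 0, 0, 0, 0;
     0, 1, 0, 0, 0, 0;
     0, 0, 1, 0, 0, 0;
     0, 0, 0, 1, 0, 0]

theorem Six.a_apply {ρ : G →* Module.End A V} {a c : G} {b : Fin 6 → V} (h : Six ρ a c b) (j : Fin 6) :
    ρ a (b j) = ∑ i, (mA i j : A) • b i := by
  fin_cases j <;> simp [Fin.sum_univ_succ, mA, h.a0, h.a1, h.a2, h.a3, h.a4, h.a5]

theorem Six.c_apply {ρ : G →* Module.End A V} {a c : G} {b : Fin 6 → V} (h : Six ρ a c b) (j : Fin 6) :
    ρ c (b j) = ∑ i, (mC i j : A) • b i := by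
  fin_cases j <;> simp [Fin.sum_univ_succ, mC, h.c0, h.c1, h.c2, h.c3, h.c4, h.c5]

end Cfsg.Agent.H936.SixVec
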