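import Cfsg.Agent.LieRecognition.RankOneAbstract
import Mathlib.LinearAlgebra.Basis.VectorSpace
import Mathlib.Algebra.CharP.Two

/-!
# Rank one groups in characteristic two: no vector fixed by a point stabiliser

* `no_fixed`: `G` with a rank one datum `Data B U n`, `|U|` odd, `V` a nontrivial irreducible representation over a
  field of characteristic two: no nonzero vector is fixed by `B`;
* `exists_fixed_of_pow`: an operator with `T ^ 2 ^ k = 1` has a nonzero fixed vector.
-/

set_option autoImplicit false

namespace Cfsg.Agent.H936.TwoFix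

open Cfsg.Agent.LieRecognition.RankOneAbstract

variable {G : Type*} [Group G] {A : Type*} [Field A] {V : Type*} [AddCommGroup V] [Module A V]

theorem add_self (h2 : (2 : A) = 0) (v : V) : v + v = 0 := by
  rw [← two_smul A v, h2, zero_smul]

theorem neg_eq (h2 : (2 : A) = 0) (v : V) : -v = v := by
  rw [neg_eq_iff_add_eq_zero]; exact add_self h2 v

/-- An odd multiple is the identity. -/
theorem odd_smul (h2 : (2 : A) = 0) {m : ℕ} (hm : Odd m) (v : V) : m • v = v := by
  obtain ⟨k, rfl⟩ := hm
  rw [add_smul, one_smul, mul_smul, two_nsmul, add_self h2, zero_add]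

theorem no_fixed [Finite G] (h2 : (2 : A) = 0) (ρ : G →* Module.End A V)
    (hirr : ∀ W : Submodule A V, (∀ g, ∀ v ∈ W, ρ g v ∈ W) → W = ⊥ ∨ W = ⊤) (hnt : ∃ g, ρ g ≠ 1)
    {B U : Subgroup G} {n : G} (D : Data B U n) (hodd : Odd (Nat.card U)) {v : V} (hv : ∀ b ∈ B, ρ b v = v) :
    v = 0 := by
  classical
  have := Fintype.ofFinite G
  have := Fintype.ofFinite U
  have := Fintype.ofFinite (G ⧸ B)
  by_contra hv0
  have happ : ∀ (g g' : G) (w : V), ρ (g * g') w = ρ g (ρ g' w) := fun g g' w => by
    rw [map_mul, Module.End.mul_apply]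
  let f : G ⧸ B → V := fun q => ρ q.out v
  have hf : ∀ g : G, f (QuotientGroup.mk g) = ρ g v := by
    intro g
    obtain ⟨b, hb⟩ := QuotientGroup.mk_out_eq_mul B g
    change ρ (Quotient.out (QuotientGroup.mk g : G ⧸ B)) v = _
    rw [hb, happ, hv b b.2]
  have hfs : ∀ (g : G) (q : G ⧸ B), ρ g (f q) = f (g • q) := by
    intro g q
    induction q using QuotientGroup.induction_on with
    | H x =>
      have : g • (QuotientGroup.mk x : G ⧸ B) = QuotientGroup.mk (g * x) := rfl
      rw [this, hf, hf, happ]
  -- the fixed vectors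
  let W0 : Submodule A V :=
    { carrier := {w | ∀ g, ρ g w = w}
      add_mem' := fun ha hb g => by rw [map_add, ha g, hb g]
      zero_mem' := fun g => map_zero _
      smul_mem' := fun c w hw g => by rw [map_smul, hw g] }
  have hW0 : W0 = ⊥ := by
    rcases hirr W0 (fun g w hw g' => by rw [hw g, hw g']) with h | h
    · exact h
    · exfalso
      obtain ⟨g, hg⟩ := hnt
      apply hg
      ext w
      have : w ∈ W0 := h ▸ Submodule.mem_top
      exact this g
  have hτ : ∑ q, f q = 0 := by
    have h1 : ∑ q, f q ∈ W0 := by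
      intro g
      rw [map_sum]
      simp only [hfs]
      exact Equiv.sum_comp (MulAction.toPerm g) f
    rwa [hW0, Submodule.mem_bot] at h1
  let E : Module.End A V := ∑ s : U, ρ (s : G)
  have hE : ∀ w, E w = ∑ s : U, ρ (s : G) w := fun w => by simp [E]
  have hEv : E v = v := by
    rw [hE, Finset.sum_congr rfl (fun (s : U) _ => hv s (D.le s.2)), Finset.sum_const, Finset.card_univ,
      ← Nat.card_eq_fintype_card]
    exact odd_smul h2 hodd v
  have hEs : ∀ (s : U) w, E (ρ (s : G) w) = E w := by
    intro s w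
    rw [hE, hE]
    simp only [← happ]
    exact Equiv.sum_comp (Equiv.mulRight s) (fun t : U => ρ (t : G) w)
  have hEn : E (ρ n v) = v := by
    rw [← Equiv.sum_comp D.equiv, Fintype.sum_option] at hτ
    have e1 : f (D.equiv none) = v := by
      change f (QuotientGroup.mk 1) = v
      rw [hf, map_one]; rfl
    have e2 : ∑ s : U, f (D.equiv (some s)) = E (ρ n v) := by
      rw [hE]
      refine Finset.sum_congr rfl fun s _ => ?_
      change f ((s : G) • (QuotientGroup.mk n : G ⧸ B)) = _
      rw [← hfs, hf]
    rw [e1, e2] at hτ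
    have h3 := (neg_eq_of_add_eq_zero_right hτ).symm
    rw [neg_eq h2 v] at h3
    exact h3
  have key : ∀ g, E (ρ g v) = v := by
    intro g
    by_cases hg : g ∈ B
    · rw [hv g hg, hEv]
    · obtain ⟨s, hs, hb⟩ := D.bruhat g hg
      have e : g = s * (n * ((s * n)⁻¹ * g)) := by group
      rw [e, happ, hEs ⟨s, hs⟩, happ, hv _ hb, hEn]
  let W1 : Submodule A V :=
    { carrier := {w | ∀ g, E (ρ g w) = E w}
      add_mem' := fun ha hb g => by rw [map_add, map_add, ha g, hb g, map_add]
      zero_mem' := fun g => by rw [map_zero]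
      smul_mem' := fun c w hw g => by rw [map_smul, map_smul, hw g, map_smul] }
  have hW1 : W1 = ⊤ := by
    rcases hirr W1 (fun g w hw g' => by rw [← happ, hw, hw]) with h | h
    · exfalso
      have h1 : v ∈ W1 := fun g => by rw [key, hEv]
      rw [h, Submodule.mem_bot] at h1
      exact hv0 h1
    · exact h
  have hEg : ∀ g w, E (ρ g w) = E w := fun g w => by
    have : w ∈ W1 := hW1 ▸ Submodule.mem_top
    exact this g
  have hker : LinearMap.ker E = ⊥ := by
    rcases hirr (LinearMap.ker E) (fun g w hw => by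
      rw [LinearMap.mem_ker] at hw ⊢
      rw [hEg, hw]) with h | h
    · exact h
    · exfalso
      have h1 : v ∈ LinearMap.ker E := h ▸ Submodule.mem_top
      rw [LinearMap.mem_ker, hEv] at h1
      exact hv0 h1
  obtain ⟨g, hg⟩ := hnt
  apply hg
  ext w
  exact LinearMap.ker_eq_bot.1 hker (hEg g w)

/-- In characteristic two an operator of order a power of two has a nonzero fixed vector. -/
theorem exists_fixed_of_pow (h2 : (2 : A) = 0) [Nontrivial V] {T : Module.End A V} {k : ℕ} (hT : T ^ 2 ^ k = 1) :
    ∃ v : V, v ≠ 0 ∧ T v = v := by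
  by_contra hcon
  push Not at hcon
  have hinj : Function.Injective (⇑(T - 1)) := by
    rw [← LinearMap.ker_eq_bot, LinearMap.ker_eq_bot']
    intro v hv
    by_contra hv0
    apply hcon v hv0
    rw [LinearMap.sub_apply, Module.End.one_apply, sub_eq_zero] at hv
    exact hv
  have key : ∀ k : ℕ, (T - 1) ^ 2 ^ k = T ^ 2 ^ k - 1 := by
    have h2' : (2 : Module.End A V) = 0 := by
      ext v
      change (2 : Module.End A V) v = 0
      have : (2 : Module.End A V) = 1 + 1 := by norm_num
      rw [this, LinearMap.add_apply, Module.End.one_apply]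
      exact add_self h2 v
    intro k
    induction k with
    | zero => simp
    | succ k ih =>
      rw [pow_succ, pow_mul, ih, pow_mul]
      have : (T ^ 2 ^ k - 1) ^ 2 = (T ^ 2 ^ k) ^ 2 - 1 + 2 * (1 - T ^ 2 ^ k) := by noncomm_ring
      rw [this, h2', zero_mul, add_zero]
  have h0 : (T - 1) ^ 2 ^ k = 0 := by rw [key, hT, sub_self]
  obtain ⟨v, hv⟩ := exists_ne (0 : V)
  have h1 : ∀ m : ℕ, Function.Injective (⇑((T - 1) ^ m)) := by
    intro m
    induction m with
    | zero => rw [pow_zero]; exact fun a b h => h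
    | succ m ih =>
      rw [pow_succ, Module.End.mul_eq_comp, LinearMap.coe_comp]
      exact ih.comp hinj
  apply hv
  apply h1 (2 ^ k)
  rw [h0]; rfl

end Cfsg.Agent.H936.TwoFix
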