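import Cfsg.Agent.H516.TwoFrame
import Cfsg.Agent.TypeM.FactsLy
import Cfsg.Agent.S2076
import Cfsg.Agent.H934.OutB
import Mathlib.GroupTheory.SpecificGroups.Alternating.Simple

/-!
# S4094 at the prime 2: the Lyons group (task 2240 of helper516)

* `false_of_cent` : `x ∈ N`, an involution `z` in `⟨x⟩` with `C(z) / ⟨z⟩` simple non-abelian;
* `false_ly`.
-/

set_option autoImplicit false

namespace Cfsg.Agent.H936.TwoLy

open Subgroup Cfsg
open Cfsg.Agent.Lib.Cores
open Cfsg.Agent.H472.ComRed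
open Cfsg.Agent.H516.Two
open Cfsg.Agent.TypeM.Two

universe u

variable {G : Type u} [Group G] [Finite G] {N : Subgroup G} {x : G}

/-- the involution in `⟨x⟩` -/
theorem exists_inv (hx2 : 2 ∣ orderOf x) : ∃ z ∈ zpowers x, z * z = 1 ∧ z ≠ 1 := by
  obtain ⟨m, hm⟩ := hx2
  have hx0 : 0 < orderOf x := orderOf_pos x
  have hm0 : 0 < m := by omega
  refine ⟨x ^ m, npow_mem_zpowers x m, ?_, ?_⟩
  · rw [← pow_add, ← two_mul, ← hm, pow_orderOf_eq_one]
  · intro h
    have := Nat.le_of_dvd hm0 (orderOf_dvd_of_pow_eq_one h)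
    omega

/-- **The criterion**: `φ : C(z) → A` with kernel `{1, z}`, onto a simple non-abelian group. -/
theorem false_of_cent (h : MinCtx 2 N x) {z : G} (hz : z ∈ zpowers x) (hz1 : z ≠ 1) (hzz : z * z = 1)
    {A : Type*} [Group A] [IsSimpleGroup A] (hA : ¬ IsMulCommutative A)
    {D : Subgroup G} (hD : D = centralizer ({z} : Set G)) (φ : D →* A) (hs : Function.Surjective φ)
    (hk : ∀ c, φ c = 1 → (c : G) = 1 ∨ (c : G) = z) (hxN : x ∈ N) : False := by
  have h2 : Fact (Nat.Prime 2) := ⟨Nat.prime_two⟩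
  have hxD : x ∈ D := by
    rw [hD, mem_centralizer_singleton_iff]
    obtain ⟨k, rfl⟩ := hz
    exact ((Commute.refl x).zpow_right k).eq
  have hNt : N = ⊤ := by
    rw [← h.gen]
    exact (sup_eq_left.2 (by rwa [zpowers_le])).symm
  have hDt : D ≠ ⊤ := by
    intro h3
    have h4 : z ∈ centralizer (N : Set G) := by
      rw [mem_centralizer_iff]
      intro s _
      have : s ∈ centralizer ({z} : Set G) := by rw [← hD, h3]; trivial
      exact mem_centralizer_singleton_iff.1 this
    rw [h.cent, mem_bot] at h4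
    exact hz1 h4
  -- the 2-core of `D` goes to `1`
  have hfA : Finite A := Finite.of_surjective φ hs
  have hcore : (pCore 2 D).map φ = ⊥ := by
    have hn : ((pCore 2 D).map φ).Normal := (Cfsg.Agent.Lib.Cores.pCore_normal 2).map φ hs
    rcases IsSimpleGroup.eq_bot_or_eq_top_of_normal _ hn with h3 | h3
    · exact h3
    · exfalso
      have h4 : IsPGroup 2 (⊤ : Subgroup A) := by rw [← h3]; exact (pCore_isPGroup 2).map φ
      have h5 : IsPGroup 2 A := h4.of_equiv topEquiv
      have h6 := h5.isNilpotent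
      exact hA ⟨⟨IsSimpleGroup.comm_iff_isSolvable.2 inferInstance⟩⟩
  have hcomm : ∀ d : D, φ ⟨x, hxD⟩ * φ d = φ d * φ ⟨x, hxD⟩ := by
    intro d
    obtain ⟨c, hc, hce⟩ := h.ind D hxD hDt d d.2
    have h4 : cm (⟨x, hxD⟩ : D) d = c := Subtype.ext hce.symm
    have h5 : φ c = 1 := by
      have : φ c ∈ (pCore 2 D).map φ := ⟨c, hc, rfl⟩
      rwa [hcore, mem_bot] at this
    rw [← h4, map_cm, cm_eq_one] at h5
    exact h5
  have hx1 : φ ⟨x, hxD⟩ = 1 := by
    have h3 : φ ⟨x, hxD⟩ ∈ center A := by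
      rw [mem_center_iff]
      intro a
      obtain ⟨d, rfl⟩ := hs a
      exact (hcomm d).symm
    rcases IsSimpleGroup.eq_bot_or_eq_top_of_normal (center A) inferInstance with h4 | h4
    · rw [h4, mem_bot] at h3
      exact h3
    · exfalso
      apply hA
      refine ⟨⟨fun a b => ?_⟩⟩
      have : a ∈ center A := by rw [h4]; trivial
      exact (mem_center_iff.1 this b).symm
  apply not_sq h
  rcases hk _ hx1 with h3 | h3
  · have h4 : x = 1 := h3
    rw [h4, mul_one]
  · have h4 : x = z := h3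
    rw [h4, hzz]

/-- groups of type `MT n` -/
theorem false_of_mt (h : MinCtx 2 N x) (hx2 : 2 ∣ orderOf x) (hxN : x ∈ N) {n : ℕ} (hn : 5 ≤ n) (L : MT n G) : False := by
  obtain ⟨z, hz, hzz, hz1⟩ := exists_inv hx2
  obtain ⟨g, hg⟩ := L.one z hzz hz1
  let L' := L.congr (MulAut.conj g)
  have ht : L'.t = z := hg
  have hsim : IsSimpleGroup (alternatingGroup (Fin n)) :=
    alternatingGroup.isSimpleGroup (by rw [Nat.card_eq_fintype_card, Fintype.card_fin]; exact hn)
  let φ : centralizer ({L'.t} : Set G) →* alternatingGroup (Fin n) := L'.K.π.codRestrict _ L'.K.mem_alternating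
  refine false_of_cent (z := L'.t) h (by rw [ht]; exact hz) (by rw [ht]; exact hz1) (by rw [ht]; exact hzz) ?_ rfl φ ?_ ?_ hxN
  · intro hc
    have h4 := alternatingGroup.center_eq_bot (α := Fin n)
      (by rw [Nat.card_eq_fintype_card, Fintype.card_fin]; omega)
    have h5 : center (alternatingGroup (Fin n)) = ⊤ := by
      rw [eq_top_iff]
      intro a _
      rw [mem_center_iff]
      intro b
      exact hc.is_comm.comm b a
    rw [h5] at h4
    obtain ⟨a, ha⟩ := exists_ne (1 : alternatingGroup (Fin n))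
    have : a ∈ (⊤ : Subgroup (alternatingGroup (Fin n))) := trivial
    rw [h4, mem_bot] at this
    exact ha this
  · intro a
    obtain ⟨c, hc⟩ := L'.K.exists_lift a.2
    exact ⟨c, Subtype.ext hc⟩
  · intro c hc
    rcases (L'.K.ker c).1 (congrArg Subtype.val hc) with h5 | h5
    · left; rw [h5]; rfl
    · right; rw [h5]; exact L'.hz

/-- **The Lyons group.** -/
theorem false_ly (h : MinCtx 2 N x) (hx2 : 2 ∣ orderOf x) (hN : Spor.IsoLy N) : False := by
  obtain ⟨e⟩ := hN
  have hxN : x ∈ N := mem_of_out h ((Cfsg.Agent.H934.OutB.card_out_congr e).trans Cfsg.Agent.S2076.result)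
  obtain ⟨-, -, -, ⟨L⟩⟩ := Cfsg.Agent.TypeM.FactsLy.facts ⟨e⟩
  have hNt : N = ⊤ := by
    rw [← h.gen]
    exact (sup_eq_left.2 (by rwa [zpowers_le])).symm
  exact false_of_mt h hx2 hxN (by norm_num) (L.congr ((MulEquiv.subgroupCongr hNt).trans topEquiv))

end Cfsg.Agent.H936.TwoLy
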