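import Cfsg.Agent.H906.U3Card
import Cfsg.Agent.H906.U3Def
import Mathlib.Algebra.QuadraticAlgebra.Basic

/-!
# Explicit elements and relations in `SU₃(3)`

`K` a field with nine elements, `t ∈ K` with `t ^ 2 = t + 1`. The elements of `SUG σ` are described by matrices over the
computable ring `R9 = F₃[t]` (`Rp`). `exists_data`: elements `z x y h c` with the relations used in `U33Two`.
-/

set_option autoImplicit false
set_option maxRecDepth 100000

namespace Cfsg.Agent.H936.U33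

open Cfsg.Agent.UThreeGen.MatGroup Cfsg.Agent.H906
open scoped MatrixGroups Matrix

/-- `F₉`, `t² = t + 1` -/
abbrev R9 := QuadraticAlgebra (ZMod 3) 1 1

/-- `a + b t` -/
def q9 (a b : ZMod 3) : R9 := ⟨a, b⟩

/-- the Gram matrix over `R9` -/
def gm9 : Matrix (Fin 3) (Fin 3) R9 := !![0, 0, 1; 0, -1, 0; 1, 0, 0]

def mZ : Matrix (Fin 3) (Fin 3) R9 := !![1, 0, q9 1 1; 0, 1, 0; 0, 0, 1]
def mX : Matrix (Fin 3) (Fin 3) R9 := !![1, 1, q9 2 0; 0, 1, 1; 0, 0, 1]
def mY : Matrix (Fin 3) (Fin 3) R9 := !![1, q9 0 1, 1; 0, 1, q9 1 2; 0, 0, 1]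
def mH : Matrix (Fin 3) (Fin 3) R9 := !![q9 0 1, 0, 0; 0, q9 1 1, 0; 0, 0, q9 0 2]
def mN : Matrix (Fin 3) (Fin 3) R9 := !![0, 0, -1; 0, -1, 0; -1, 0, 0]
def mC : Matrix (Fin 3) (Fin 3) R9 := !![q9 1 2, q9 1 2, q9 2 1; q9 1 2, q9 0 1, 1; q9 2 0, q9 1 2, q9 2 0]

section

variable {K : Type*} [Field K] {σ : K →+* K} [hσ : Fact (∀ x, σ (σ x) = x)] (hs : ∀ x, σ x = x ^ 3) (φ : R9 →+* K)

/-- the element `g` is given by the matrix `M` -/
def Rp (σ : K →+* K) (φ : R9 →+* K) (g : SUG σ) (M : Matrix (Fin 3) (Fin 3) R9) : Prop := g.1.1 = M.map φ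

omit hσ in
theorem Rp.mul {g g' : SUG σ} {M M' : Matrix (Fin 3) (Fin 3) R9} (h : Rp σ φ g M) (h' : Rp σ φ g' M') :
    Rp σ φ (g * g') (M * M') := by
  unfold Rp at *
  rw [coe_mul_SUG, h, h', Matrix.map_mul]

omit hσ in
theorem Rp.one : Rp σ φ 1 1 := by
  unfold Rp
  rw [Matrix.map_one _ (map_zero φ) (map_one φ)]
  rfl

omit hσ in
theorem Rp.pow {g : SUG σ} {M : Matrix (Fin 3) (Fin 3) R9} (h : Rp σ φ g M) (k : ℕ) : Rp σ φ (g ^ k) (M ^ k) := by
  induction k with
  | zero => rw [pow_zero, pow_zero]; exact Rp.one φ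
  | succ k ih => rw [pow_succ, pow_succ]; exact ih.mul φ h

omit hσ in
theorem Rp.eq {g g' : SUG σ} {M M' : Matrix (Fin 3) (Fin 3) R9} (h : Rp σ φ g M) (h' : Rp σ φ g' M') (e : M = M') :
    g = g' := by
  apply Subtype.ext
  apply Subtype.ext
  have h1 : g.1.1 = M.map φ := h
  have h2 : g'.1.1 = M'.map φ := h'
  rw [h1, h2, e]

include hs in
omit hσ in
/-- an element from a matrix -/
theorem exists_rp {M : Matrix (Fin 3) (Fin 3) R9}
    (hd : M 0 0 * M 1 1 * M 2 2 - M 0 0 * M 1 2 * M 2 1 - M 0 1 * M 1 0 * M 2 2 + M 0 1 * M 1 2 * M 2 0 +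
      M 0 2 * M 1 0 * M 2 1 - M 0 2 * M 1 1 * M 2 0 = 1)
    (hG : Mᵀ * gm9 * M.map (fun x => x ^ 3) = gm9) : ∃ g : SUG σ, Rp σ φ g M := by
  have hdet : (M.map φ).det = 1 := by
    rw [Matrix.det_fin_three]
    simp only [Matrix.map_apply]
    rw [← map_one φ, ← hd]
    simp only [map_add, map_sub, map_mul]
  have hgm : gm9.map φ = Gm K := by
    ext i j
    fin_cases i <;> fin_cases j <;> simp [gm9, Gm]
  refine ⟨⟨⟨M.map φ, hdet⟩, ?_⟩, rfl⟩
  change (M.map φ)ᵀ * Gm K * (M.map φ).map σ = Gm K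
  have h1 : (M.map φ).map σ = (M.map (fun x => x ^ 3)).map φ := by
    ext i j
    simp only [Matrix.map_apply]
    rw [hs, map_pow]
  rw [h1, ← hgm, ← Matrix.transpose_map, ← Matrix.map_mul, ← Matrix.map_mul, hG]

theorem rp_emb {w : HG σ} {a b : R9} (ha : w.a = φ a) (hb : w.b = φ b) (hs : ∀ x, σ x = x ^ 3) :
    Rp σ φ (emb σ w) !![1, a, b; 0, 1, a ^ 3; 0, 0, 1] := by
  unfold Rp
  rw [emb_val, umat, ha, hb, hs]
  ext i j
  fin_cases i <;> fin_cases j <;> simp

/-- the homomorphism `R9 → K` -/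
theorem exists_phi [CharP K 3] {t : K} (ht : t * t = t + 1) :
    ∃ φ : R9 →+* K, ∀ a b : ZMod 3, φ ⟨a, b⟩ = (ZMod.castHom (dvd_refl 3) K a) + (ZMod.castHom (dvd_refl 3) K b) * t := by
  let c := ZMod.castHom (dvd_refl 3) K
  refine ⟨{ toFun := fun r => c r.re + c r.im * t, map_one' := ?_, map_mul' := ?_, map_zero' := ?_, map_add' := ?_ },
    fun a b => rfl⟩
  · change c (1 : R9).re + c (1 : R9).im * t = 1
    rw [show (1 : R9).re = 1 from rfl, show (1 : R9).im = 0 from rfl, map_one, map_zero]; ring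
  · intro r s
    change c (r * s).re + c (r * s).im * t = (c r.re + c r.im * t) * (c s.re + c s.im * t)
    rw [show (r * s).re = r.re * s.re + 1 * r.im * s.im from rfl,
      show (r * s).im = r.re * s.im + r.im * s.re + 1 * r.im * s.im from rfl]
    simp only [map_add, map_mul, map_one]
    linear_combination (-(c r.im) * c s.im) * ht
  · change c (0 : R9).re + c (0 : R9).im * t = 0
    rw [show (0 : R9).re = 0 from rfl, show (0 : R9).im = 0 from rfl, map_zero]; ring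
  · intro r s
    change c (r + s).re + c (r + s).im * t = (c r.re + c r.im * t) + (c s.re + c s.im * t)
    rw [show (r + s).re = r.re + s.re from rfl, show (r + s).im = r.im + s.im from rfl, map_add, map_add]
    ring

end

/-- The data. -/
structure GD {G : Type*} [Group G] (B U : Subgroup G) (n z x y h c : G) : Prop where
  data : Cfsg.Agent.LieRecognition.RankOneAbstract.Data B U n
  card : Nat.card U = 27
  zU : z ∈ U
  xU : x ∈ U
  yU : y ∈ U
  z3 : z ^ 3 = 1
  x3 : x ^ 3 = 1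
  y3 : y ^ 3 = 1
  z1 : z ≠ 1
  cent : ∀ u ∈ U, z * u = u * z
  xy : x * y = z * (y * x)
  hz : h * z = z⁻¹ * h
  xh : x * h = h * y
  yh : y * h = h * (x * y * z)
  h8 : h ^ 8 = 1
  c3 : c ^ 3 = 1
  cz : (c * z) ^ 8 = 1
  s4 : (z⁻¹ * c * z * c) ^ 4 = 1
  comm : (c * z) ^ 2 * (z⁻¹ * c * z * c) = (z⁻¹ * c * z * c) * (c * z) ^ 2
  gen : Subgroup.closure {z, c} = ⊤
  fix : B ≤ Subgroup.closure {x, y, z, h}

theorem exists_t {K : Type*} [Field K] [Finite K] (hK : Nat.card K = 3 ^ 2) [CharP K 3] :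
    ∃ t : K, t * t = t + 1 := by
  obtain ⟨a0, ha0⟩ := IsCyclic.exists_generator (α := Kˣ)
  have hord : orderOf a0 = 8 := by
    rw [orderOf_eq_card_of_forall_mem_zpowers ha0, Nat.card_units, hK]; norm_num
  have h3K : (3 : K) = 0 := by exact_mod_cast CharP.cast_eq_zero K 3
  have ha04 : (a0 : K) ^ 4 = -1 := by
    have h1 : ((a0 : K) ^ 4 - 1) * ((a0 : K) ^ 4 + 1) = 0 := by
      have h2 : a0 ^ 8 = 1 := by rw [← hord]; exact pow_orderOf_eq_one a0
      have h3 := congrArg Units.val h2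
      rw [Units.val_pow_eq_pow_val, Units.val_one] at h3
      linear_combination h3
    rcases mul_eq_zero.1 h1 with h2 | h2
    · exfalso
      have h3 : a0 ^ 4 = 1 := Units.ext (by rw [Units.val_pow_eq_pow_val, Units.val_one]; exact sub_eq_zero.1 h2)
      have h4 := orderOf_dvd_of_pow_eq_one h3
      rw [hord] at h4
      norm_num at h4
    · exact eq_neg_of_add_eq_zero_left h2
  have h5 : ((a0 : K) ^ 2 - a0 - 1) * ((a0 : K) ^ 2 + a0 - 1) = 0 := by
    linear_combination ha04 - (a0 : K) ^ 2 * h3K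
  rcases mul_eq_zero.1 h5 with h6 | h6
  · exact ⟨a0, by linear_combination h6⟩
  · exact ⟨-a0, by linear_combination h6⟩

theorem r9_inv : ∀ a b : ZMod 3, q9 a b ≠ 0 → ∃ c d : ZMod 3, q9 a b * q9 c d = 1 := by decide +kernel

theorem r9_pow : ∀ a b : ZMod 3, q9 a b ≠ 0 → ∃ k : Fin 8, q9 a b = q9 0 1 ^ (k : ℕ) := by decide +kernel

theorem r9_tr : ∀ a b : ZMod 3, q9 a b + q9 a b ^ 3 = 0 → ∃ k : Fin 3, q9 a b = ((k : ℕ) : R9) * q9 1 1 := by
  decide +kernel

section

variable {K : Type*} [Field K] {σ : K →+* K} [hσ : Fact (∀ x, σ (σ x) = x)] [Finite K] (hs : ∀ x, σ x = x ^ 3)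
  (hK : Nat.card K = 3 ^ 2) [CharP K 3]

theorem pow_a (w : HG σ) (k : ℕ) : (w ^ k).a = k * w.a := by
  induction k with
  | zero => rw [pow_zero]; simp [one_a]
  | succ k ih => rw [pow_succ, mul_a, ih]; push_cast; ring

theorem pow_b {w : HG σ} (hw : w.a = 0) (k : ℕ) : (w ^ k).b = k * w.b := by
  induction k with
  | zero => rw [pow_zero]; simp [one_b]
  | succ k ih => rw [pow_succ, mul_b, ih, pow_a, hw]; push_cast; ring

include hs hK in
theorem exists_data : ∃ z x y h c : SUG σ, GD (borel σ) (emb σ).range (wel σ) z x y h c := by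
  classical
  obtain ⟨t, ht⟩ := exists_t hK
  obtain ⟨φ, hφ⟩ := exists_phi ht
  have hφq : ∀ a b : ZMod 3, φ (q9 a b) = (ZMod.castHom (dvd_refl 3) K a) + (ZMod.castHom (dvd_refl 3) K b) * t := hφ
  have h3K : (3 : K) = 0 := by exact_mod_cast CharP.cast_eq_zero K 3
  have hinj : Function.Injective φ := by
    rw [injective_iff_map_eq_zero]
    rintro ⟨a, b⟩ hab
    by_contra h0
    obtain ⟨c, d, hcd⟩ := r9_inv a b h0
    have h1 : φ (q9 a b) * φ (q9 c d) = 1 := by rw [← map_mul, hcd, map_one]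
    rw [show φ (q9 a b) = 0 from hab, zero_mul] at h1
    exact zero_ne_one h1
  have hcardR : Nat.card R9 = 9 := by
    rw [Nat.card_congr (QuadraticAlgebra.equivProd (R := ZMod 3) 1 1), Nat.card_prod, Nat.card_zmod]
  have : Finite R9 := Nat.finite_of_card_ne_zero (by rw [hcardR]; norm_num)
  have hsurj : Function.Surjective φ := (hinj.bijective_of_nat_card_le (by rw [hcardR, hK]; norm_num)).2
  have ht0 : t ≠ 0 := by
    rintro rfl
    rw [zero_mul, zero_add] at ht
    exact zero_ne_one ht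
  have hφt : φ (q9 0 1) = t := by rw [hφq]; simp
  -- the elements of `HG`
  have hX : φ (q9 2 0) + σ (φ (q9 2 0)) = φ 1 * σ (φ 1) := by
    rw [hs, hs, ← map_pow, ← map_pow, ← map_add, ← map_mul]
    congr 1
  have hY : φ 1 + σ (φ 1) = φ (q9 0 1) * σ (φ (q9 0 1)) := by
    rw [hs, hs, ← map_pow, ← map_pow, ← map_add, ← map_mul]
    congr 1
  have hZ : φ (q9 1 1) + σ (φ (q9 1 1)) = φ 0 * σ (φ 0) := by
    rw [hs, hs, ← map_pow, ← map_pow, ← map_add, ← map_mul]
    congr 1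
  let X : HG σ := ⟨φ 1, φ (q9 2 0), hX⟩
  let Y : HG σ := ⟨φ (q9 0 1), φ 1, hY⟩
  let Z : HG σ := ⟨φ 0, φ (q9 1 1), hZ⟩
  have rX : Rp σ φ (emb σ X) mX := by
    have := rp_emb φ (w := X) rfl rfl hs
    exact this
  have rY : Rp σ φ (emb σ Y) mY := by
    have := rp_emb φ (w := Y) rfl rfl hs
    rwa [show (q9 0 1 : R9) ^ 3 = q9 1 2 by decide +kernel] at this
  have rZ : Rp σ φ (emb σ Z) mZ := by
    have := rp_emb φ (w := Z) rfl rfl hs
    exact this
  let tu : Kˣ := Units.mk0 t ht0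
  have ht3 : t ^ 3 = 1 + 2 * t := by linear_combination (t + 1) * ht
  have rH : Rp σ φ (tor σ tu) mH := by
    unfold Rp
    rw [tor_val]
    have e1 : (tu : K) = φ (q9 0 1) := hφt.symm
    have e2 : σ (tu : K) * (tu : K)⁻¹ = φ (q9 1 1) := by
      change σ t * t⁻¹ = _
      rw [hs, hφq, map_one, one_mul, ht3, ← div_eq_mul_inv, div_eq_iff ht0]
      linear_combination (-1) * ht
    have e3 : (σ (tu : K))⁻¹ = φ (q9 0 2) := by
      change (σ t)⁻¹ = _
      rw [hs, hφq, map_zero, zero_add, ht3]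
      refine inv_eq_of_mul_eq_one_right ?_
      rw [show (2 : ZMod 3) = 1 + 1 from rfl, map_add, map_one, one_add_one_eq_two]
      linear_combination 4 * ht + (2 * t + 1) * h3K
    rw [e2, e3, e1]
    ext i j
    fin_cases i <;> fin_cases j <;> simp [mH]
  have rN : Rp σ φ (wel σ) mN := by
    unfold Rp
    rw [wel_val]
    ext i j
    fin_cases i <;> fin_cases j <;> simp [mN, Wm]
  obtain ⟨c, rC⟩ := exists_rp (σ := σ) hs φ (M := mC) (by decide +kernel) (by decide +kernel)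
  -- elements of `U`
  have hZa : Z.a = 0 := map_zero φ
  have hUz : ∀ w : HG σ, w.a = 0 → ∃ k : ℕ, w = Z ^ k := by
    intro w hw
    obtain ⟨⟨a, b⟩, hr⟩ := hsurj w.b
    have h1 : φ (q9 a b + q9 a b ^ 3) = φ 0 := by
      rw [map_add, map_pow, ← hs, show φ (q9 a b) = w.b from hr, map_zero]
      have := w.h
      rw [hw, zero_mul] at this
      exact this
    obtain ⟨k, hk⟩ := r9_tr a b (hinj h1)
    refine ⟨k, ?_⟩
    ext
    · rw [hw, pow_a, hZa, mul_zero]
    · rw [pow_b hZa, ← hr]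
      change φ (q9 a b) = ((k : ℕ) : K) * φ (q9 1 1)
      rw [hk, map_mul, map_natCast]
  have hUg : ∀ u ∈ (emb σ).range, ∃ i j k : ℕ, u = emb σ X ^ i * emb σ Y ^ j * emb σ Z ^ k := by
    rintro _ ⟨w, rfl⟩
    obtain ⟨⟨a, b⟩, hr⟩ := hsurj w.a
    obtain ⟨k, hk⟩ := hUz ((X ^ a.val * Y ^ b.val)⁻¹ * w) (by
      rw [mul_a, inv_a, mul_a, pow_a, pow_a, ← hr]
      change -((a.val : K) * φ 1 + (b.val : K) * φ (q9 0 1)) + φ (q9 a b) = 0
      rw [map_one, hφt, hφq]
      have e : ∀ a : ZMod 3, (a.val : K) = ZMod.castHom (dvd_refl 3) K a := by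
        intro a
        conv_rhs => rw [← ZMod.natCast_zmod_val a]
        rw [map_natCast]
      rw [e, e]; ring)
    refine ⟨a.val, b.val, k, ?_⟩
    rw [← map_pow, ← map_pow, ← map_pow, ← map_mul, ← map_mul, ← hk]
    congr 1
    group
  have hT : ∀ a : Kˣ, ∃ k : ℕ, a = tu ^ k := by
    intro a
    obtain ⟨⟨u, v⟩, hr⟩ := hsurj (a : K)
    obtain ⟨k, hk⟩ := r9_pow u v (by
      intro h0
      have h1 : φ (q9 u v) = 0 := by rw [h0, map_zero]
      exact a.ne_zero (hr.symm.trans h1))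
    refine ⟨k, Units.ext ?_⟩
    rw [Units.val_pow_eq_pow_val, ← hr]
    change φ (q9 u v) = t ^ (k : ℕ)
    rw [hk, map_pow, hφt]
  have hzc : ∀ u ∈ (emb σ).range, emb σ Z * u = u * emb σ Z := by
    rintro _ ⟨w, rfl⟩
    rw [← map_mul, ← map_mul]
    congr 1
    ext
    · rw [mul_a, mul_a, add_comm]
    · rw [mul_b, mul_b, hZa, map_zero, zero_mul, mul_zero, add_comm w.b]
  have hxh : emb σ X * tor σ tu = tor σ tu * emb σ Y :=
    Rp.eq φ (rX.mul φ rH) (rH.mul φ rY) (by decide +kernel)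
  have hyh : emb σ Y * tor σ tu = tor σ tu * (emb σ X * emb σ Y * emb σ Z) :=
    Rp.eq φ (rY.mul φ rH) (rH.mul φ ((rX.mul φ rY).mul φ rZ)) (by decide +kernel)
  have hz3 : emb σ Z ^ 3 = 1 := Rp.eq φ (rZ.pow φ 3) (Rp.one φ) (by decide +kernel)
  have hzi : (emb σ Z)⁻¹ = emb σ Z * emb σ Z := by
    rw [inv_eq_iff_mul_eq_one, ← pow_two, ← pow_succ']
    exact hz3
  have rZi : Rp σ φ (emb σ Z)⁻¹ (mZ * mZ) := by rw [hzi]; exact rZ.mul φ rZ
  -- generation
  have hgZ : emb σ Z ∈ Subgroup.closure ({emb σ Z, c} : Set (SUG σ)) := Subgroup.subset_closure (by simp)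
  have hgC : c ∈ Subgroup.closure ({emb σ Z, c} : Set (SUG σ)) := Subgroup.subset_closure (by simp)
  have hword : ∀ (l : List Bool), ∃ g ∈ Subgroup.closure ({emb σ Z, c} : Set (SUG σ)),
      Rp σ φ g (l.map fun b => if b then mZ else mC).prod := by
    intro l
    induction l with
    | nil => exact ⟨1, one_mem _, Rp.one φ⟩
    | cons b l ih =>
      obtain ⟨g, hg, hg'⟩ := ih
      cases b
      · exact ⟨c * g, mul_mem hgC hg, rC.mul φ hg'⟩
      · exact ⟨emb σ Z * g, mul_mem hgZ hg, rZ.mul φ hg'⟩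
  have hgH : tor σ tu ∈ Subgroup.closure ({emb σ Z, c} : Set (SUG σ)) := by
    obtain ⟨g, hg, hg'⟩ := hword [false, true, false, true, true, false, true, false, true, false, true, false]
    rwa [← Rp.eq φ hg' rH (by decide +kernel)]
  have hgN : wel σ ∈ Subgroup.closure ({emb σ Z, c} : Set (SUG σ)) := by
    obtain ⟨g, hg, hg'⟩ := hword [false, true, false, true, false, true, false, true]
    rwa [← Rp.eq φ hg' rN (by decide +kernel)]
  have hgX : emb σ X ∈ Subgroup.closure ({emb σ Z, c} : Set (SUG σ)) := by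
    obtain ⟨g, hg, hg'⟩ := hword [false, true, false, false, true, true, false, true, false, true, false, true, true,
      false, false, true, false]
    rwa [← Rp.eq φ hg' rX (by decide +kernel)]
  have hgY : emb σ Y ∈ Subgroup.closure ({emb σ Z, c} : Set (SUG σ)) := by
    have : emb σ Y = (tor σ tu)⁻¹ * (emb σ X * tor σ tu) := by rw [hxh]; group
    rw [this]
    exact mul_mem (inv_mem hgH) (mul_mem hgX hgH)
  have hgU : ∀ u ∈ (emb σ).range, u ∈ Subgroup.closure ({emb σ Z, c} : Set (SUG σ)) := by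
    intro u hu
    obtain ⟨i, j, k, rfl⟩ := hUg u hu
    exact mul_mem (mul_mem (pow_mem hgX i) (pow_mem hgY j)) (pow_mem hgZ k)
  have hgB : ∀ b ∈ borel σ, b ∈ Subgroup.closure ({emb σ Z, c} : Set (SUG σ)) := by
    intro b hb
    obtain ⟨u, hu, a, rfl⟩ := borel_eq b hb
    obtain ⟨k, rfl⟩ := hT a
    rw [map_pow]
    exact mul_mem (hgU u hu) (pow_mem hgH k)
  refine ⟨emb σ Z, emb σ X, emb σ Y, tor σ tu, c, ?_⟩
  exact
    { data := data_SUG
      card := by
        have h1 := card_HG (σ := σ) (by norm_num) hs hK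
        rw [← Nat.card_congr (MonoidHom.ofInjective (emb_injective (σ := σ))).toEquiv, h1]
        norm_num
      zU := ⟨Z, rfl⟩
      xU := ⟨X, rfl⟩
      yU := ⟨Y, rfl⟩
      z3 := hz3
      x3 := Rp.eq φ (rX.pow φ 3) (Rp.one φ) (by decide +kernel)
      y3 := Rp.eq φ (rY.pow φ 3) (Rp.one φ) (by decide +kernel)
      z1 := by
        intro h1
        have h2 : Z = 1 := emb_injective (by rw [h1, map_one])
        have h3 : Z.b = 0 := by rw [h2, one_b]
        have h4 : φ (q9 1 1) = φ 0 := by rw [map_zero]; exact h3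
        have h5 := hinj h4
        revert h5
        decide +kernel
      cent := hzc
      xy := Rp.eq φ (rX.mul φ rY) (rZ.mul φ (rY.mul φ rX)) (by decide +kernel)
      hz := Rp.eq φ (rH.mul φ rZ) (rZi.mul φ rH) (by decide +kernel)
      xh := hxh
      yh := hyh
      h8 := Rp.eq φ (rH.pow φ 8) (Rp.one φ) (by decide +kernel)
      c3 := Rp.eq φ (rC.pow φ 3) (Rp.one φ) (by decide +kernel)
      cz := Rp.eq φ ((rC.mul φ rZ).pow φ 8) (Rp.one φ) (by decide +kernel)
      s4 := Rp.eq φ ((((rZi.mul φ rC).mul φ rZ).mul φ rC).pow φ 4) (Rp.one φ) (by decide +kernel)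
      comm := Rp.eq φ (((rC.mul φ rZ).pow φ 2).mul φ (((rZi.mul φ rC).mul φ rZ).mul φ rC))
        ((((rZi.mul φ rC).mul φ rZ).mul φ rC).mul φ ((rC.mul φ rZ).pow φ 2)) (by decide +kernel)
      gen := by
        rw [eq_top_iff]
        intro g _
        by_cases hg : g ∈ borel σ
        · exact hgB g hg
        · obtain ⟨s, hs', hb⟩ := (data_SUG (σ := σ)).bruhat g hg
          have e : g = s * wel σ * ((s * wel σ)⁻¹ * g) := by group
          rw [e]
          exact mul_mem (mul_mem (hgU s hs') hgN) (hgB _ hb)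
      fix := by
        intro b hb
        obtain ⟨u, hu, a, rfl⟩ := borel_eq b hb
        obtain ⟨k, rfl⟩ := hT a
        obtain ⟨i, j, l, rfl⟩ := hUg u hu
        rw [map_pow]
        have h1 : ∀ g ∈ ({emb σ X, emb σ Y, emb σ Z, tor σ tu} : Set (SUG σ)),
            g ∈ Subgroup.closure ({emb σ X, emb σ Y, emb σ Z, tor σ tu} : Set (SUG σ)) :=
          fun g hg => Subgroup.subset_closure hg
        exact mul_mem (mul_mem (mul_mem (pow_mem (h1 _ (by simp)) i) (pow_mem (h1 _ (by simp)) j))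
          (pow_mem (h1 _ (by simp)) l)) (pow_mem (h1 _ (by simp)) k) }

end

end Cfsg.Agent.H936.U33
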