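import Cfsg.Agent.H936.U33Grp
import Cfsg.Agent.H936.SixVec
import Cfsg.Agent.H659.HeisLine
import Mathlib.LinearAlgebra.Eigenspace.Pi

/-!
# Representations of `SU₃(3)` in characteristic two of degree at most 13

`exists_basis`: an irreducible representation with `z` acting nontrivially, of degree at most 13, has degree six and is
given by the matrices `mA`, `mC` in a suitable basis.
-/

set_option autoImplicit false

namespace Cfsg.Agent.H936.U33Mod

open Module Cfsg.Agent.H659.Triple Cfsg.Agent.H659.HeisLine Cfsg.Agent.H936.TwoFix Cfsg.Agent.H936.U33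
  Cfsg.Agent.H936.SixVec

section

variable {A : Type*} [Field A] {V : Type*} [AddCommGroup V] [Module A V] [FiniteDimensional A V]

/-- Common eigenvectors of two commuting operators with distinct pairs of eigenvalues. -/
theorem card_le_of_pairs (X Y : Module.End A V) (hXY : Commute X Y) {ι : Type*} [Fintype ι] (v : ι → V)
    (hv : ∀ i, v i ≠ 0) (α β : ι → A) (hX : ∀ i, X (v i) = α i • v i) (hY : ∀ i, Y (v i) = β i • v i)
    (hinj : Function.Injective fun i => (α i, β i)) : Fintype.card ι ≤ finrank A V := by
  classical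
  let f : Fin 2 → Module.End A V := ![X, Y]
  have hcomm : ∀ i j, Commute (f i) (f j) := by
    intro i j
    fin_cases i <;> fin_cases j
    · exact Commute.refl _
    · exact hXY
    · exact hXY.symm
    · exact Commute.refl _
  have hind := Module.End.independent_iInf_maxGenEigenspace_of_forall_mapsTo f
    (fun i j φ => Module.End.mapsTo_maxGenEigenspace_of_comm (hcomm j i) φ)
  have hinj' : Function.Injective (fun i : ι => (![α i, β i] : Fin 2 → A)) := by
    intro i j hij
    apply hinj
    have h0 := congrFun hij 0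
    have h1 := congrFun hij 1
    exact Prod.ext h0 h1
  have hmem : ∀ (T : Module.End A V) (μ : A) (w : V), T w = μ • w → w ∈ T.maxGenEigenspace μ := by
    intro T μ w hw
    rw [Module.End.mem_maxGenEigenspace]
    refine ⟨1, ?_⟩
    rw [pow_one, LinearMap.sub_apply, LinearMap.smul_apply, Module.End.one_apply, hw, sub_self]
  have hl := (hind.comp hinj').linearIndependent _ (v := v) (fun i => by
    rw [Function.comp_apply, Submodule.mem_iInf]
    intro k
    fin_cases k
    · exact hmem _ _ _ (hX i)
    · exact hmem _ _ _ (hY i)) hv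
  exact hl.fintype_card_le_finrank

end

/-- the action on the weights -/
def st (w : ZMod 3 × ZMod 3) : ZMod 3 × ZMod 3 := (w.2, w.1 + w.2)

theorem st_inj : ∀ i j : ZMod 3, (i, j) ≠ (0, 0) → Function.Injective (fun k : Fin 8 => st^[(k : ℕ)] (i, j)) := by
  decide +kernel

section

variable {G : Type*} [Group G] [Finite G] {A : Type*} [Field A] [IsAlgClosed A] {V : Type*} [AddCommGroup V] [Module A V]
  [FiniteDimensional A V] {B U : Subgroup G} {n z x y h c : G}

theorem pow_val_add {ω : A} (hω3 : ω ^ 3 = 1) (a b : ZMod 3) : ω ^ (a + b).val = ω ^ a.val * ω ^ b.val := by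
  rw [← pow_add, ZMod.val_add]
  conv_rhs => rw [← Nat.mod_add_div (a.val + b.val) 3, pow_add, pow_mul, hω3, one_pow, mul_one]

theorem exists_basis (h2 : (2 : A) = 0) (D : GD B U n z x y h c) (ρ : G →* Module.End A V)
    (hirr : ∀ W : Submodule A V, (∀ g, ∀ v ∈ W, ρ g v ∈ W) → W = ⊥ ∨ W = ⊤) (hz : ρ z ≠ 1)
    (hd : finrank A V ≤ 13) : ∃ b : Basis (Fin 6) A V, Six ρ z c b := by
  classical
  have happ : ∀ (g g' : G) (w : V), ρ (g * g') w = ρ g (ρ g' w) := fun g g' w => by
    rw [map_mul, Module.End.mul_apply]
  have hnt : Nontrivial V := by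
    by_contra h0
    rw [not_nontrivial_iff_subsingleton] at h0
    exact hz (by ext w; exact Subsingleton.elim _ _)
  have h3 : (3 : A) ≠ 0 := by
    intro h3
    have : (1 : A) = 0 := by linear_combination h3 - h2
    exact one_ne_zero this
  obtain ⟨ω, hω, h1, hω3⟩ := exists_omega h3
  set T := ρ z with hT
  have hT3 : T ^ 3 = 1 := by rw [hT, ← map_pow, D.z3, map_one]
  have hsum := sum_eigen hT3 h3 hω h1 hω3
  rw [Fin.sum_univ_three] at hsum
  change finrank A (T.eigenspace (ω ^ 0)) + finrank A (T.eigenspace (ω ^ 1)) + finrank A (T.eigenspace (ω ^ 2)) = _ at hsum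
  rw [pow_zero, pow_one] at hsum
  have hUD : ∀ (μ : A) (u : G), u ∈ U → ∀ v ∈ T.eigenspace μ, ρ u v ∈ T.eigenspace μ := by
    intro μ u hu v hv
    rw [Module.End.mem_eigenspace_iff] at hv ⊢
    rw [hT, mul_app, D.cent u hu, ← mul_app, ← hT, hv, map_smul]
  have hzh : z * h = h * z⁻¹ := by
    have := D.hz
    have e : z * (h * z) * z⁻¹ = z * (z⁻¹ * h) * z⁻¹ := by rw [this]
    simpa [mul_assoc] using e
  have hzi : z⁻¹ = z * z := by
    rw [inv_eq_iff_mul_eq_one, ← pow_two, ← pow_succ']
    exact D.z3
  have hzinv : ∀ (μ : A) (v : V), μ ^ 3 = 1 → T v = μ • v → ρ z⁻¹ v = (μ ^ 2) • v := by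
    intro μ v hμ hv
    rw [hzi, ← mul_app, ← hT, hv, map_smul, hv, smul_smul, pow_two]
  have hhD : ∀ (μ : A), μ ^ 3 = 1 → ∀ v ∈ T.eigenspace μ, ρ h v ∈ T.eigenspace (μ ^ 2) := by
    intro μ hμ v hv
    rw [Module.End.mem_eigenspace_iff] at hv ⊢
    rw [hT, mul_app, hzh, ← mul_app, hzinv μ v hμ hv, map_smul]
  have hd12 : finrank A (T.eigenspace ω) ≤ finrank A (T.eigenspace (ω ^ 2)) :=
    Cfsg.Agent.H659.SevenU42.finrank_le_of_maps ρ h (hhD ω hω3)
  have hd21 : finrank A (T.eigenspace (ω ^ 2)) ≤ finrank A (T.eigenspace ω) := by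
    refine Cfsg.Agent.H659.SevenU42.finrank_le_of_maps ρ h ?_
    intro v hv
    have := hhD (ω ^ 2) (by rw [← pow_mul, mul_comm, pow_mul, hω3, one_pow]) v hv
    have e : (ω ^ 2) ^ 2 = ω := by linear_combination ω * hω3
    rwa [e] at this
  have h3d : 3 ∣ finrank A (T.eigenspace ω) := by
    have h4 := pow_finrank ρ D.xy (ω := ω) (T.eigenspace ω) (hUD ω x D.xU) (hUD ω x⁻¹ (U.inv_mem D.xU))
      (hUD ω y D.yU) (hUD ω y⁻¹ (U.inv_mem D.yU)) (fun v hv => Module.End.mem_eigenspace_iff.1 hv)
    have h5 : orderOf ω = 3 := orderOf_eq_prime hω3 h1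
    rw [← h5]
    exact orderOf_dvd_of_pow_eq_one h4
  have hd1 : finrank A (T.eigenspace ω) ≠ 0 := by
    intro h0
    apply hz
    have h7 : finrank A (T.eigenspace (1 : A)) = finrank A V := by omega
    have h8 := Submodule.eq_top_of_finrank_eq h7
    ext v
    have h9 : v ∈ T.eigenspace (1 : A) := by rw [h8]; trivial
    rw [Module.End.mem_eigenspace_iff, one_smul] at h9
    rw [h9, Module.End.one_apply]
  have hE1d : finrank A (T.eigenspace (1 : A)) ≤ 7 := by omega
  -- no fixed vectors
  have hE1 : T.eigenspace (1 : A) = ⊥ := by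
    by_contra hbot
    set E := T.eigenspace (1 : A) with hE
    have hEm : ∀ v, v ∈ E ↔ ρ z v = v := by
      intro v
      rw [hE, Module.End.mem_eigenspace_iff, one_smul]
    have hEn : Nontrivial E := Submodule.nontrivial_iff_ne_bot.2 hbot
    let X : Module.End A E := (ρ x).restrict (hUD 1 x D.xU)
    let Y : Module.End A E := (ρ y).restrict (hUD 1 y D.yU)
    have hXv : ∀ v : E, (X v : V) = ρ x v := fun v => rfl
    have hYv : ∀ v : E, (Y v : V) = ρ y v := fun v => rfl
    have hXY : Commute X Y := by
      ext v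
      change ρ x (ρ y (v : V)) = ρ y (ρ x (v : V))
      rw [← happ, ← happ, D.xy, happ, (hEm _).1]
      rw [happ]
      exact hUD 1 y D.yU _ (hUD 1 x D.xU _ v.2)
    -- a common eigenvector
    obtain ⟨α, hα⟩ := Module.End.exists_eigenvalue X
    have hXn : Nontrivial (X.eigenspace α) := Submodule.nontrivial_iff_ne_bot.2 hα
    have hYm : ∀ v ∈ X.eigenspace α, Y v ∈ X.eigenspace α := by
      intro v hv
      rw [Module.End.mem_eigenspace_iff] at hv ⊢
      rw [← Module.End.mul_apply, hXY.eq, Module.End.mul_apply, hv, map_smul]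
    obtain ⟨β, hβ⟩ := Module.End.exists_eigenvalue (Y.restrict hYm)
    obtain ⟨w1, hw1, hw10⟩ := Submodule.exists_mem_ne_zero_of_ne_bot hβ
    have hYw : Y w1 = β • (w1 : E) := congrArg Subtype.val (Module.End.mem_eigenspace_iff.1 hw1)
    have hXw : X w1 = α • (w1 : E) := Module.End.mem_eigenspace_iff.1 w1.2
    obtain ⟨w, hwE⟩ : ∃ w : E, w = (w1 : E) := ⟨_, rfl⟩
    rw [← hwE] at hYw hXw
    have hw0 : w ≠ 0 := by
      rw [hwE]
      exact fun h0 => hw10 (Subtype.ext h0)
    have hX3 : X ^ 3 = 1 := by
      ext v
      change ρ x (ρ x (ρ x (v : V))) = v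
      rw [← happ, ← happ, ← pow_two, ← pow_succ, D.x3, map_one, Module.End.one_apply]
    have hY3 : Y ^ 3 = 1 := by
      ext v
      change ρ y (ρ y (ρ y (v : V))) = v
      rw [← happ, ← happ, ← pow_two, ← pow_succ, D.y3, map_one, Module.End.one_apply]
    obtain ⟨i, hi⟩ := exists_pow hω hω3 (pow_eigen hX3 hw0 hXw)
    obtain ⟨j, hj⟩ := exists_pow hω hω3 (pow_eigen hY3 hw0 hYw)
    have hHE : ∀ v ∈ E, ρ h v ∈ E := by
      intro v hv
      have := hhD 1 (one_pow 3) v hv
      rwa [one_pow] at this
    let H : Module.End A E := (ρ h).restrict hHE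
    have hHv : ∀ v : E, (H v : V) = ρ h v := fun v => rfl
    have hXH : ∀ v : E, X (H v) = H (Y v) := by
      intro v
      apply Subtype.ext
      change ρ x (ρ h (v : V)) = ρ h (ρ y (v : V))
      rw [← happ, ← happ, D.xh]
    have hYH : ∀ v : E, Y (H v) = H (X (Y v)) := by
      intro v
      apply Subtype.ext
      change ρ y (ρ h (v : V)) = ρ h (ρ x (ρ y (v : V)))
      rw [← happ, D.yh, happ, happ, (hEm _).1 v.2, happ]
    have hH8 : H ^ 8 = 1 := by
      have hp : ∀ (m : ℕ) (v : E), (((H ^ m) v : E) : V) = ρ (h ^ m) v := by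
        intro m
        induction m with
        | zero => intro v; simp
        | succ m ih =>
          intro v
          rw [pow_succ, Module.End.mul_apply, ih, pow_succ, happ]
          rfl
      ext v
      rw [hp, D.h8, map_one]
      rfl
    have hHinj : Function.Injective H := by
      have e : H ^ 7 * H = 1 := by rw [← pow_succ, hH8]
      intro a b hab
      have h5 : (H ^ 7) (H a) = (H ^ 7) (H b) := by rw [hab]
      rwa [← Module.End.mul_apply, ← Module.End.mul_apply, e, Module.End.one_apply, Module.End.one_apply] at h5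
    by_cases h00 : ((i : ZMod 3), (j : ZMod 3)) = (0, 0)
    · -- trivial weight
      have hi0 : i = 0 := congrArg Prod.fst h00
      have hj0 : j = 0 := congrArg Prod.snd h00
      rw [hi0] at hi
      rw [hj0] at hj
      let W : Submodule A E := LinearMap.eqLocus X LinearMap.id ⊓ LinearMap.eqLocus Y LinearMap.id
      have hWm : ∀ v, v ∈ W ↔ X v = v ∧ Y v = v := fun v => Iff.rfl
      have hwW : w ∈ W := by
        rw [hWm, hXw, hYw, hi, hj]
        simp
      have hWn : Nontrivial W := ⟨⟨⟨w, hwW⟩, 0, fun h0 => hw0 (congrArg Subtype.val h0)⟩⟩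
      have hWi : ∀ v ∈ W, H v ∈ W := by
        intro v hv
        rw [hWm] at hv ⊢
        rw [hXH, hYH, hv.2, hv.1]
        exact ⟨rfl, rfl⟩
      obtain ⟨u, hu0, hu⟩ := exists_fixed_of_pow (k := 3) h2 (T := H.restrict hWi) (by
        have hp : ∀ (m : ℕ) (v : W), ((((H.restrict hWi) ^ m) v : W) : E) = (H ^ m) v := by
          intro m
          induction m with
          | zero => intro v; simp
          | succ m ih =>
            intro v
            rw [pow_succ, Module.End.mul_apply, ih, pow_succ, Module.End.mul_apply]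
            rfl
        ext v
        rw [hp, show 2 ^ 3 = 8 by norm_num, hH8]
        rfl)
      have hfix : ∀ b ∈ B, ρ b ((u : E) : V) = ((u : E) : V) := by
        intro b hb
        have hb' := D.fix hb
        let S : Subgroup G :=
          { carrier := {g | ρ g ((u : E) : V) = ((u : E) : V)}
            mul_mem' := fun {a b} ha hb => by
              change ρ (a * b) _ = _
              rw [happ, show ρ b ((u : E) : V) = _ from hb, show ρ a ((u : E) : V) = _ from ha]
            one_mem' := by change ρ 1 _ = _; rw [map_one]; rfl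
            inv_mem' := fun {a} ha => by
              change ρ a⁻¹ _ = _
              conv_lhs => rw [← (show ρ a ((u : E) : V) = _ from ha)]
              rw [← happ, inv_mul_cancel, map_one]; rfl }
        have hS : Subgroup.closure {x, y, z, h} ≤ S := by
          rw [Subgroup.closure_le]
          rintro g (rfl | rfl | rfl | hg)
          · exact congrArg Subtype.val u.2.1
          · exact congrArg Subtype.val u.2.2
          · exact (hEm _).1 (u : E).2
          · rw [Set.mem_singleton_iff.1 hg]
            exact congrArg (fun a : W => ((a : E) : V)) hu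
        exact hS hb'
      have h5 := no_fixed h2 ρ hirr ⟨z, hz⟩ D.data (by rw [D.card]; decide) hfix
      exact hu0 (Subtype.ext (Subtype.ext h5))
    · -- eight weights
      let wt : ℕ → ZMod 3 × ZMod 3 := fun k => st^[k] (i, j)
      let v : ℕ → E := fun k => (H ^ k) w
      have hv0 : ∀ k, v k ≠ 0 := by
        intro k
        induction k with
        | zero => exact hw0
        | succ k ih =>
          change (H ^ (k + 1)) w ≠ 0
          rw [pow_succ', Module.End.mul_apply]
          intro h0
          exact ih (hHinj (by rw [map_zero]; exact h0))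
      have hvw : ∀ k, X (v k) = ω ^ (wt k).1.val • v k ∧ Y (v k) = ω ^ (wt k).2.val • v k := by
        intro k
        induction k with
        | zero =>
          constructor
          · change X w = ω ^ (i : ZMod 3).val • w
            rw [hXw, hi]
          · change Y w = ω ^ (j : ZMod 3).val • w
            rw [hYw, hj]
        | succ k ih =>
          have e1 : v (k + 1) = H (v k) := by
            change (H ^ (k + 1)) w = _
            rw [pow_succ', Module.End.mul_apply]
          have e2 : wt (k + 1) = st (wt k) := Function.iterate_succ_apply' _ _ _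
          rw [e1, e2]
          constructor
          · rw [hXH, ih.2, map_smul]; rfl
          · rw [hYH, ih.2, map_smul, ih.1, map_smul, map_smul, smul_smul]
            congr 1
            change _ = ω ^ ((wt k).1 + (wt k).2).val
            rw [pow_val_add hω3, mul_comm]
      have h8 := card_le_of_pairs X Y hXY (ι := Fin 8) (fun k => v k) (fun k => hv0 k)
        (fun k => ω ^ (wt k).1.val) (fun k => ω ^ (wt k).2.val) (fun k => (hvw k).1) (fun k => (hvw k).2) (by
          intro k l hkl
          have hk := congrArg Prod.fst hkl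
          have hl := congrArg Prod.snd hkl
          have e1 : (wt k).1 = (wt l).1 := pow_inj_fin hω h1 hω3 hk
          have e2 : (wt k).2 = (wt l).2 := pow_inj_fin hω h1 hω3 hl
          exact st_inj i j h00 (Prod.ext e1 e2))
      rw [Fintype.card_fin] at h8
      omega
  have ha : ∀ w, ρ z (ρ z w) = ρ z w + w := by
    intro w
    have h5 : (ρ z (ρ z w) + ρ z w + w) ∈ T.eigenspace (1 : A) := by
      rw [Module.End.mem_eigenspace_iff, one_smul, map_add, map_add]
      have e : T (T (T w)) = w := by
        have := congrArg (fun S : Module.End A V => S w) hT3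
        exact this
      change T (T (T w)) + T (T w) + T w = T (T w) + T w + w
      rw [e]; abel
    rw [hE1, Submodule.mem_bot, add_assoc] at h5
    rw [← neg_eq h2 (ρ z (ρ z w))]
    exact neg_eq_of_add_eq_zero_right h5
  obtain ⟨b, hS, hspan⟩ := exists_six h2 ρ hirr D.gen ha D.c3 D.cz D.s4 D.comm
  have h0 : finrank A (T.eigenspace (1 : A)) = 0 := by rw [hE1]; exact finrank_bot A V
  have hcard : Fintype.card (Fin 6) ≤ finrank A V := by
    rw [Fintype.card_fin]; omega
  have hle : finrank A V ≤ 6 := by
    have := finrank_le_of_span_eq_top hspan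
    rwa [Fintype.card_fin] at this
  have hli : LinearIndependent A b := linearIndependent_of_top_le_span_of_card_eq_finrank (le_of_eq hspan.symm) (by
    rw [Fintype.card_fin] at hcard ⊢
    omega)
  refine ⟨Basis.mk hli (le_of_eq hspan.symm), ?_⟩
  rw [Basis.coe_mk]
  exact hS

end

end Cfsg.Agent.H936.U33Mod
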